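import Groth.Agent.EtLimCore.StalkRpush
import Groth.Agent.CdLib.EtaleStrictHens
import Groth.Agent.Hensel.Henselization
import Groth.Agent.EtFound.FieldExt
import Groth.Prelude.Def_Hens2

/-!
# Stalks of higher direct images at the point of a strict henselization
-/

set_option autoImplicit false
set_option maxHeartbeats 800000

universe u

open CategoryTheory CategoryTheory.Limits AlgebraicGeometry Opposite

namespace Groth.Agent.EtLimCore

set_option backward.isDefEq.respectTransparency false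
set_option backward.isDefEq.respectTransparency.types false

open Groth.Agent.EtLC12.StrictStalk (Nbhd ev)
open Groth.Agent.CdLib.EtaleStrictHens (toX toX_eq)

section

variable {X : Scheme.{u}} {Ω : Type u} [Field Ω] [IsSepClosed Ω] (ξ : Spec (CommRingCat.of Ω) ⟶ X)

theorem isoSpec_inv_appTop_eq (U : Scheme.{u}) [IsAffine U] :
    U.isoSpec.inv.appTop = (Scheme.ΓSpecIso Γ(U, ⊤)).inv := by
  have h : U.isoSpec.hom.appTop ≫ U.isoSpec.inv.appTop = 𝟙 _ := by
    rw [← Scheme.Hom.comp_appTop, Iso.inv_hom_id, Scheme.Hom.id_appTop]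
  rw [show U.isoSpec.hom.appTop = (Scheme.ΓSpecIso Γ(U, ⊤)).hom by
    rw [Scheme.isoSpec_hom, Scheme.toSpecΓ_appTop]] at h
  rw [← Category.id_comp U.isoSpec.inv.appTop, ← (Scheme.ΓSpecIso Γ(U, ⊤)).inv_hom_id, Category.assoc, h,
    Category.comp_id]

theorem locCone_hom (i : AffNbhd ξ) :
    (locCone ξ).π.app i ≫ ((nbhdObj ξ).obj i).hom = toX ξ := by
  let U := ((toElts ξ).obj i).1
  haveI : IsAffine U.left := isAffine_nbhd ξ i
  haveI : AlgebraicGeometry.Etale U.hom := U.prop
  let v : Spec (CommRingCat.of Ω) ⟶ U.left := ((toElts ξ).obj i).2.left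
  let N : Nbhd ξ :=
    { B := Γ(U.left, ⊤)
      g := U.left.isoSpec.inv ≫ U.hom
      etale := inferInstance
      φ := Spec.preimage (v ≫ U.left.isoSpec.hom)
      w := by
        rw [Spec.map_preimage, Category.assoc, Iso.hom_inv_id_assoc]
        exact CategoryTheory.Over.w ((toElts ξ).obj i).2 }
  let c : N.obj ⟶ U := MorphismProperty.Over.homMk U.left.isoSpec.inv rfl
  have hc : (Scheme.pointSmallEtale ξ).fiber.map c N.pt = ((toElts ξ).obj i).2 := by
    apply CategoryTheory.Over.OverMorphism.ext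
    show Spec.map (Spec.preimage (v ≫ U.left.isoSpec.hom)) ≫ U.left.isoSpec.inv = v
    rw [Spec.map_preimage, Category.assoc, Iso.hom_inv_id, Category.comp_id]
  have hg : (Scheme.pointSmallEtale ξ).toPresheafFiber U ((toElts ξ).obj i).2 (EtBase.OO X) = N.germ := by
    rw [← hc, ← (Scheme.pointSmallEtale ξ).toPresheafFiber_w c N.pt]
    show U.left.isoSpec.inv.appTop ≫ _ = _
    rw [isoSpec_inv_appTop_eq]
    rfl
  rw [locCone_π]
  refine (Category.assoc _ _ _).trans ?_
  refine Eq.trans ?_ (toX_eq N)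
  exact congrArg (fun q => Spec.map q ≫ (U.left.isoSpec.inv ≫ U.hom)) hg

end

open Groth.Agent.CdLib in
/-- stalks of higher direct images at the point of a strict henselization, naturally -/
theorem nonempty_stalk_Rpush_iso_strictHenselization {P S : Scheme.{u}} (f : P ⟶ S) [QuasiCompact f]
    [QuasiSeparated f] (s : S) (R : Type u) [CommRing R] [IsLocalRing R] [Algebra (S.presheaf.stalk s) R]
    [IsLocalHom (algebraMap (S.presheaf.stalk s) R)] [Hensel.IsStrictHenselization (S.presheaf.stalk s) R]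
    [IsSepClosed (IsLocalRing.ResidueField R)] (n : ℕ) :
    Nonempty (EtCoh.Rpush f n ⋙ EtCoh.stalk (Hens2.geomPt S s R) ≅
      EtCoh.pull (pullback.fst f (Hens2.specOf S s R)) ⋙ EtCoh.HF (pullback f (Hens2.specOf S s R)) n) := by
  let ξ := EtaleStrictHens.ξ s
  obtain ⟨a⟩ := Groth.Agent.Hensel.exists_algEquiv_strictHenz (S.presheaf.stalk s) R
  obtain ⟨b⟩ := Groth.Agent.Hensel.exists_algEquiv_strictHenz (S.presheaf.stalk s) (EtBase.etaleLocalRing ξ)
  let e : R ≃ₐ[S.presheaf.stalk s] EtBase.etaleLocalRing ξ := a.symm.trans b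
  let q : EtBase.etaleLocalRing ξ ⟶ CommRingCat.of R := CommRingCat.ofHom e.symm.toAlgHom.toRingHom
  haveI : IsIso q := (e.symm.toRingEquiv.toCommRingCatIso).isIso_hom
  let k : Spec (CommRingCat.of R) ⟶ (locCone ξ).pt := Spec.map q
  haveI : IsIso k := inferInstanceAs (IsIso (Spec.map q))
  let L : Cone (nbhdSch ξ) := (locCone ξ).extend k
  have hL : IsLimit L := IsLimit.extendIso k (isLimitLocCone ξ)
  have hk : k ≫ toX ξ = Hens2.specOf S s R := by
    rw [← EtaleStrictHens.α_spec s]
    refine (Category.assoc _ _ _).symm.trans (congrArg (· ≫ S.fromSpecStalk s) ?_)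
    refine (Spec.map_comp _ _).symm.trans (congrArg Spec.map ?_)
    exact CommRingCat.hom_ext (RingHom.ext fun r => e.symm.commutes r)
  have hσ : ∀ i, L.π.app i ≫ ((nbhdObj ξ).obj i).hom = Hens2.specOf S s R := fun i => by
    refine (Category.assoc _ _ _).trans ?_
    rw [locCone_hom]
    exact hk
  obtain ⟨E⟩ := nonempty_stalk_Rpush_iso f ξ (L := L) (Hens2.specOf S s R) hσ hL n
  let θ : CommRingCat.of (SeparableClosure (S.residueField s)) ⟶ CommRingCat.of (IsLocalRing.ResidueField R) :=
    CommRingCat.ofHom ((IsLocalRing.ResidueField.mapEquiv e.symm.toRingEquiv).toRingHom.comp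
      (EtaleStrictHens.resEquiv s).symm.toRingHom)
  have hl : Spec.map θ ≫ ξ = Hens2.geomPt S s R := by
    rw [← EtaleStrictHens.ev_toX (ξ := ξ)]
    show _ = Spec.map (CommRingCat.ofHom (IsLocalRing.residue R)) ≫ Hens2.specOf S s R
    rw [← hk]
    show _ = _ ≫ Spec.map q ≫ toX ξ
    rw [← Category.assoc, ← Category.assoc, ← Spec.map_comp, ← Spec.map_comp]
    refine congrArg (fun g => Spec.map g ≫ toX ξ) (CommRingCat.hom_ext (RingHom.ext fun x => ?_))
    show IsLocalRing.ResidueField.mapEquiv e.symm.toRingEquiv ((EtaleStrictHens.resEquiv s).symm (ev ξ x)) = _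
    rw [← EtaleStrictHens.resHom_residue s x]
    refine (congrArg (IsLocalRing.ResidueField.mapEquiv e.symm.toRingEquiv)
      ((EtaleStrictHens.resEquiv s).symm_apply_apply (IsLocalRing.residue (EtBase.etaleLocalRing ξ) x))).trans ?_
    rfl
  let i := EtFound.stalkExtIso AddCommGrpCat.{u + 1} ξ (Spec.map θ)
  refine ⟨Functor.isoWhiskerLeft _ (?_ : EtCoh.stalk (Hens2.geomPt S s R) ≅ EtCoh.stalk ξ) ≪≫ E⟩
  rw [← hl]
  exact i.symm

end Groth.Agent.EtLimCore
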