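import Groth.Prelude.Def_EtCore
import Groth.Agent.SiteBase.DerivedExt
import Groth.Agent.SiteBase.DerivedComp

/-!
# Étale cohomology as the derived functors of global sections
-/

set_option autoImplicit false

universe u

open CategoryTheory CategoryTheory.Limits AlgebraicGeometry Opposite CategoryTheory.Abelian

namespace Groth.Agent.EtLimCore

set_option backward.isDefEq.respectTransparency false
set_option backward.isDefEq.respectTransparency.types false

/-- a one object category in the universe of the values -/
abbrev Pt : Type (u + 1) := Discrete PUnit.{u + 2}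

variable (X : Scheme.{u})

/-- the constant sheaf of integers as a functor on a point -/
noncomputable abbrev intPt : Pt.{u} ⥤ EtCoh.Ab X :=
  (Functor.const Pt.{u}).obj
    ((constantSheaf X.smallEtaleTopology AddCommGrpCat.{u + 1}).obj (AddCommGrpCat.of (ULift.{u + 1} ℤ)))

/-- global sections as a presheaf on a point -/
noncomputable abbrev gsecPt : EtCoh.Ab X ⥤ Pt.{u}ᵒᵖ ⥤ AddCommGrpCat.{u + 1} :=
  EtCore.gsec X ⋙ Functor.const Pt.{u}ᵒᵖ

instance additive_gsec : (EtCore.gsec X).Additive := (EtCore.constAdj X).right_adjoint_additive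

instance preservesFiniteLimits_gsec : PreservesFiniteLimits (EtCore.gsec X) :=
  haveI : (EtCore.gsec X).IsRightAdjoint := (EtCore.constAdj X).isRightAdjoint
  inferInstance

instance additive_constPt : (Functor.const Pt.{u}ᵒᵖ (C := AddCommGrpCat.{u + 1})).Additive where

/-- global sections are maps from the constant sheaf -/
noncomputable def gsecPres : SiteBase.HomPres (intPt X) (gsecPt X) where
  σ F _ := ((EtCore.constAdj X).homAddEquiv _ F).trans (AddCommGrpCat.uliftZMultiplesAddEquiv _)
  σ_comp {F G} U φ g := by
    show AddCommGrpCat.uliftZMultiplesAddEquiv _ ((EtCore.constAdj X).homEquiv _ _ (φ ≫ g)) = _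
    rw [Adjunction.homEquiv_naturality_right]
    rfl
  σ_map {F U V} f φ := by
    show AddCommGrpCat.uliftZMultiplesAddEquiv _ ((EtCore.constAdj X).homEquiv _ _ (𝟙 _ ≫ φ)) = _
    rw [Category.id_comp]
    rfl

/-- cohomology is the derived functor of global sections -/
noncomputable def gsecDerivedIso (n : ℕ) : (EtCore.gsec X).rightDerived n ≅ EtCoh.HF X n :=
  SiteBase.rightDerivedCompIso (gsecPt X) ((evaluation Pt.{u}ᵒᵖ AddCommGrpCat.{u + 1}).obj (op ⟨PUnit.unit⟩)) n ≪≫
    Functor.isoWhiskerRight ((gsecPres X).rightDerivedIso n) _ ≪≫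
    NatIso.ofComponents (fun F => Iso.refl _) (fun f => by
      refine (Category.comp_id _).trans (Eq.trans ?_ (Category.id_comp _).symm)
      rfl)

end Groth.Agent.EtLimCore
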