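import Groth.Agent.EtLimCore.StalkPush
import Groth.Agent.EtLimCore.Derived
import Groth.Agent.SiteBase.DerivedPrecompAcyclic
import Groth.Agent.SiteBase.Rpush
import Groth.Agent.EtFound.Stalk

/-!
# Stalks of higher direct images are the cohomology over the strict localisation
-/

set_option autoImplicit false
set_option maxHeartbeats 800000

universe u

open CategoryTheory CategoryTheory.Limits AlgebraicGeometry Opposite CategoryTheory.Abelian

namespace Groth.Agent.EtLimCore

set_option backward.isDefEq.respectTransparency false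
set_option backward.isDefEq.respectTransparency.types false

variable {P X : Scheme.{u}} (f : P ⟶ X) {Ω : Type u} [Field Ω] [IsSepClosed Ω]
  (ξ : Spec (CommRingCat.of Ω) ⟶ X) {L : Cone (nbhdSch ξ)} (σ : L.pt ⟶ X)
  (hσ : ∀ i, L.π.app i ≫ ((nbhdObj ξ).obj i).hom = σ)
  [QuasiCompact f] [QuasiSeparated f] (hL : IsLimit L)

include hσ hL in
/-- injective sheaves are acyclic on the strict localisation -/
theorem subsingleton_H_pull_injective (I : EtCoh.Ab P) [Injective I] (n : ℕ) :
    Subsingleton (EtCoh.H (pullback f σ) ((EtCoh.pull (pullback.fst f σ)).obj I) (n + 1)) := by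
  have h1 : ∀ i, PreservesFiniteLimits (EtCoh.pull ((bcCone f ξ σ hσ).π.app i)) :=
    fun i => EtFound.pull_preservesFiniteLimits _
  have h2 : ∀ {i j : AffNbhd ξ} (a : i ⟶ j), PreservesFiniteLimits (EtCoh.pull ((bcSys f ξ).map a)) :=
    fun _ => EtFound.pull_preservesFiniteLimits _
  refine subsingleton_of_forall_eq 0 fun x => ?_
  obtain ⟨i, -, η, hη⟩ := (bcData f ξ σ hσ I).exists_H (isLimitBcCone f ξ σ hσ hL)
    (bcData_isColim f ξ σ hσ I) (n + 1) x (Classical.arbitrary (AffNbhd ξ))
  have h3 : AlgebraicGeometry.Etale (bcT f ξ i) := ((EtCoh.bc f).obj ((nbhdObj ξ).obj i)).prop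
  have h4 : EtShriek.JCont (bcT f ξ i) := EtFound.jCont (bcT f ξ i)
  have h5 := DualLib.pull_preservesInjectiveObjects (bcT f ξ i)
  have h6 : Injective ((EtCoh.pull (bcT f ξ i)).obj I) := h5.injective_obj inferInstance
  have h7 : Subsingleton (EtCoh.H ((bcSys f ξ).obj i) ((EtCoh.pull (bcT f ξ i)).obj I) (n + 1)) :=
    Abelian.Ext.subsingleton_of_injective _ _ n
  rw [← hη, show η = 0 from h7.elim η 0]
  exact map_zero _

include hσ hL in
/-- the stalks of higher direct images, naturally -/
theorem nonempty_stalk_Rpush_iso (n : ℕ) :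
    Nonempty (EtCoh.Rpush f n ⋙ EtCoh.stalk ξ ≅
      EtCoh.pull (pullback.fst f σ) ⋙ EtCoh.HF (pullback f σ) n) := by
  have h1 : IsIso (stalkθ f ξ σ hσ) := isIso_stalkθ f ξ σ hσ hL
  have h2 : PreservesFiniteLimits (EtCoh.pull (pullback.fst f σ)) := EtFound.pull_preservesFiniteLimits _
  obtain ⟨e⟩ := SiteBase.nonempty_rightDerived_precomp_of_acyclic (EtCoh.pull (pullback.fst f σ))
    (EtCore.gsec (pullback f σ)) (fun Q hQ i => by
      have := subsingleton_H_pull_injective f ξ σ hσ hL Q i
      refine IsZero.of_iso ?_ ((gsecDerivedIso (pullback f σ) (i + 1)).app _)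
      exact @AddCommGrpCat.isZero_of_subsingleton _ this) n
  have h3 : (EtCoh.stalk ξ).Additive := Functor.additive_of_preserves_binary_products _
  exact ⟨(SiteBase.rightDerivedCompIso (EtCoh.push f) (EtCoh.stalk ξ) n).symm ≪≫
    SiteBase.rightDerivedCongr (asIso (stalkθ f ξ σ hσ)) n ≪≫ e ≪≫
    Functor.isoWhiskerLeft _ (gsecDerivedIso (pullback f σ) n)⟩

end Groth.Agent.EtLimCore
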