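import Groth.Prelude.Def_EtLim
import Groth.Agent.EtMVLib.HpullApply
import Mathlib.Algebra.Homology.DerivedCategory.Ext.ExactSequences

/-!
# Elementary properties of pulling back cohomology classes along a morphism with a map of coefficients
-/

set_option autoImplicit false
set_option maxHeartbeats 800000

universe u

open CategoryTheory CategoryTheory.Limits AlgebraicGeometry Opposite CategoryTheory.Abelian

namespace Groth.Agent.EtLimCore

set_option backward.isDefEq.respectTransparency false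
set_option backward.isDefEq.respectTransparency.types false

variable {X Y : Scheme.{u}} (f : X ⟶ Y) [PreservesFiniteLimits (EtCoh.pull f)]

theorem HpullThen_apply {G : EtCoh.Ab Y} {M : EtCoh.Ab X} (θ : (EtCoh.pull f).obj G ⟶ M) (n : ℕ)
    (ξ : EtCoh.H Y G n) :
    EtLim.HpullThen f G θ n ξ =
      ((Ext.mk₀ (EtCore.pullConst f ℤ).inv).comp (ξ.mapExactFunctor (EtCoh.pull f)) (zero_add n)).comp
        (Ext.mk₀ θ) (add_zero n) := rfl

theorem HpullThen_map {G G' : EtCoh.Ab Y} (φ : G ⟶ G') {M : EtCoh.Ab X} (θ : (EtCoh.pull f).obj G' ⟶ M)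
    (n : ℕ) (ξ : EtCoh.H Y G n) :
    EtLim.HpullThen f G' θ n (ξ.comp (Ext.mk₀ φ) (add_zero n)) =
      EtLim.HpullThen f G ((EtCoh.pull f).map φ ≫ θ) n ξ := by
  simp only [HpullThen_apply, Ext.mapExactFunctor_comp, Ext.mapExactFunctor_mk₀, Ext.comp_assoc_of_third_deg_zero,
    Ext.mk₀_comp_mk₀]

theorem HpullThen_comp {G : EtCoh.Ab Y} {M M' : EtCoh.Ab X} (θ : (EtCoh.pull f).obj G ⟶ M) (β : M ⟶ M')
    (n : ℕ) (ξ : EtCoh.H Y G n) :
    (EtLim.HpullThen f G θ n ξ).comp (Ext.mk₀ β) (add_zero n) = EtLim.HpullThen f G (θ ≫ β) n ξ := by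
  simp only [HpullThen_apply, Ext.comp_assoc_of_third_deg_zero, Ext.mk₀_comp_mk₀]

theorem HpullThen_extClass {S : ShortComplex (EtCoh.Ab Y)} (hS : S.ShortExact) {T : ShortComplex (EtCoh.Ab X)}
    (hT : T.ShortExact) (α : S.map (EtCoh.pull f) ⟶ T) (n : ℕ) (z : EtCoh.H Y S.X₃ n) :
    EtLim.HpullThen f S.X₁ α.τ₁ (n + 1) (z.comp hS.extClass rfl) =
      (EtLim.HpullThen f S.X₃ α.τ₃ n z).comp hT.extClass rfl := by
  rw [HpullThen_apply, HpullThen_apply, Ext.mapExactFunctor_comp, Ext.mapExactFunctor_extClass,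
    Ext.comp_assoc_of_third_deg_zero, Ext.comp_assoc_of_third_deg_zero,
    ShortComplex.ShortExact.extClass_naturality (hS.map_of_exact (EtCoh.pull f)) hT α]
  rw [Ext.comp_assoc_of_second_deg_zero]
  exact (Ext.comp_assoc _ _ _ _ _ (by omega)).symm

theorem HofPush_map {G : EtCoh.Ab Y} {M : EtCoh.Ab X} (χ : G ⟶ (EtCoh.push f).obj M) (n : ℕ)
    (ξ : EtCoh.H Y G n) :
    EtLim.HofPush f M n (((EtCoh.HF Y n).map χ).hom ξ) =
      EtLim.HpullThen f G (((EtCoh.pullPushAdj f).homEquiv G M).symm χ) n ξ := by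
  refine (HpullThen_map f χ ((EtCoh.pullPushAdj f).counit.app M) n ξ).trans ?_
  rw [Adjunction.homEquiv_counit]
  rfl

theorem equiv₀_HpullThen {G : EtCoh.Ab Y} {M : EtCoh.Ab X} (θ : (EtCoh.pull f).obj G ⟶ M)
    (ξ : EtCoh.H Y G 0) :
    Sheaf.H.equiv₀ M (EtCore.topIsTerminal X) (EtLim.HpullThen f G θ 0 ξ) =
      M.obj.map (EtCore.bcTopIso f).inv.op
        (((EtCoh.pullPushAdj f).homEquiv G M θ).hom.app (op (EtCoh.top Y))
          (Sheaf.H.equiv₀ G (EtCore.topIsTerminal Y) ξ)) := by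
  obtain ⟨φ, rfl⟩ := (Ext.mk₀_bijective _ _).2 ξ
  rw [HpullThen_apply, Ext.mapExactFunctor_mk₀, Ext.mk₀_comp_mk₀, Ext.mk₀_comp_mk₀]
  have e : ∀ {W : Scheme.{u}} {N : EtCoh.Ab W}
      (ψ : (constantSheaf W.smallEtaleTopology AddCommGrpCat.{u + 1}).obj (AddCommGrpCat.of (ULift.{u + 1} ℤ)) ⟶ N),
      Sheaf.H.equiv₀ N (EtCore.topIsTerminal W) (Ext.mk₀ ψ) =
        AddCommGrpCat.uliftZMultiplesAddEquiv _ ((EtCore.constAdj W).homEquiv _ _ ψ) := fun {W N} ψ => by
    refine (show _ = AddCommGrpCat.uliftZMultiplesAddEquiv _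
      ((EtCore.constAdj W).homEquiv _ _ (Ext.addEquiv₀ (Ext.addEquiv₀.symm ψ))) from rfl).trans ?_
    rw [AddEquiv.apply_symm_apply]
  rw [e, e]
  let adj₁ := (((EtCore.constAdj Y).comp (EtCoh.pullPushAdj f)).ofNatIsoRight (EtCore.pushGsecIso f))
  let A := AddCommGrpCat.of (ULift.{u + 1} ℤ)
  have h1 : (EtCore.constAdj X).homEquiv A M (((EtCore.pullConst f ℤ).inv ≫ (EtCoh.pull f).map φ) ≫ θ) =
      adj₁.homEquiv A M ((EtCoh.pull f).map φ ≫ θ) := by
    rw [Adjunction.homEquiv_unit, Adjunction.homEquiv_unit,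
      ← Adjunction.unit_leftAdjointUniq_hom_app adj₁ (EtCore.constAdj X) A, Category.assoc, ← Functor.map_comp]
    refine congrArg (fun q => adj₁.unit.app A ≫ (EtCore.gsec X).map q) ?_
    refine (congrArg (_ ≫ ·) (Category.assoc _ _ _)).trans ?_
    exact (EtCore.pullConst f ℤ).hom_inv_id_assoc _
  rw [h1]
  have h2 : adj₁.homEquiv A M ((EtCoh.pull f).map φ ≫ θ) =
      ((EtCore.constAdj Y).homEquiv A G φ ≫ (EtCore.gsec Y).map ((EtCoh.pullPushAdj f).homEquiv G M θ)) ≫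
        (EtCore.pushGsecIso f).hom.app M := by
    rw [Adjunction.homEquiv_ofNatIsoRight_apply, ← Adjunction.homEquiv_naturality_right,
      ← Adjunction.homEquiv_naturality_left, Adjunction.comp_homEquiv]
    rfl
  rw [h2]
  rfl

end Groth.Agent.EtLimCore
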