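import Groth.Agent.EtLimCore.Transpose

/-!
# The system of inverse images of a sheaf on a base
-/

set_option autoImplicit false
set_option maxHeartbeats 800000

universe u

open CategoryTheory CategoryTheory.Limits AlgebraicGeometry Opposite CategoryTheory.Abelian

namespace Groth.Agent.EtLimCore

set_option backward.isDefEq.respectTransparency false
set_option backward.isDefEq.respectTransparency.types false

section

variable {X Y Z : Scheme.{u}} (k : X ⟶ Y) (t : Y ⟶ Z) {f : X ⟶ Z} (h : k ≫ t = f) (F₀ : EtCoh.Ab Z)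

/-- inverse images compose -/
noncomputable abbrev pullVia : (EtCoh.pull k).obj ((EtCoh.pull t).obj F₀) ⟶ (EtCoh.pull f).obj F₀ :=
  (((EtCore.pullComp k t).symm ≪≫ EtCore.pullCongr h).app F₀).hom

instance : IsIso (pullVia k t h F₀) := Iso.isIso_hom _

/-- the adjunct of `pullVia` on pulled back sections -/
theorem unit_pullVia (W : Z.Etale) (can : (EtCoh.bc k).obj ((EtCoh.bc t).obj W) ⟶ (EtCoh.bc f).obj W)
    (hcan : can.left ≫ pullback.fst W.hom f =
      pullback.fst ((EtCoh.bc t).obj W).hom k ≫ pullback.fst W.hom t) :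
    ((EtCoh.pullPushAdj t).unit.app F₀).hom.app (op W) ≫
        ((EtCoh.pullPushAdj k).homEquiv _ _ (pullVia k t h F₀)).hom.app (op ((EtCoh.bc t).obj W)) =
      ((EtCoh.pullPushAdj f).unit.app F₀).hom.app (op W) ≫ ((EtCoh.pull f).obj F₀).obj.map can.op := by
  have e := transpose k t h (G := F₀) (𝟙 ((EtCoh.pull t).obj F₀)) (pullVia k t h F₀)
  have h1 : (EtCore.pullCongr h.symm).hom.app F₀ ≫ (EtCore.pullComp k t).hom.app F₀ ≫
      (EtCoh.pull k).map (𝟙 ((EtCoh.pull t).obj F₀)) ≫ pullVia k t h F₀ = 𝟙 _ := by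
    subst h
    simp [pullVia, EtCore.pullCongr]
  rw [h1, Adjunction.homEquiv_id, Adjunction.homEquiv_id] at e
  rw [← split_app k t h ((EtCoh.pull f).obj F₀) W can hcan]
  exact (congrArg (fun q => q.hom.app (op W)) e).symm

end

variable {I : Type u} [SmallCategory I] {Y : I ⥤ Scheme.{u}}

/-- back along the identity transition -/
noncomputable def idBack (k : I) (G : EtCoh.Ab (Y.obj k)) : (EtCoh.push (Y.map (𝟙 k))).obj G ⟶ G :=
  ObjectProperty.homMk
    { app := fun W => G.obj.map (factor (𝟙 (⟨k, W.unop⟩ : Tot Y))).op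
      naturality := fun W W' h => by
        show G.obj.map ((EtCoh.bc (Y.map (𝟙 k))).map h.unop).op ≫ G.obj.map _ = G.obj.map _ ≫ G.obj.map h
        rw [← G.obj.map_comp, ← G.obj.map_comp]
        refine congrArg G.obj.map (Quiver.Hom.unop_inj (MorphismProperty.Over.Hom.ext ?_))
        apply pullback.hom_ext (f := W.unop.hom) (g := Y.map (𝟙 k))
        · refine ((Category.assoc _ _ _).trans (congrArg (_ ≫ ·) (EtCoh.isPullback_bc_map _ h.unop).w)).trans ?_
          refine (Category.assoc _ _ _).symm.trans ((congrArg (· ≫ h.unop.left) (pullback.lift_fst _ _ _)).trans ?_)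
          refine (Category.id_comp _).trans (Eq.symm ?_)
          exact ((Category.assoc _ _ _).trans (congrArg (h.unop.left ≫ ·) (pullback.lift_fst _ _ _))).trans
            (Category.comp_id _)
        · exact (MorphismProperty.Over.w
            (factor (𝟙 (⟨k, W'.unop⟩ : Tot Y)) ≫ (EtCoh.bc (Y.map (𝟙 k))).map h.unop)).trans
            (MorphismProperty.Over.w (h.unop ≫ factor (𝟙 (⟨k, W.unop⟩ : Tot Y)))).symm }

variable (c : Cone Y) {X₀ : Scheme.{u}} (t : ∀ k, Y.obj k ⟶ X₀) (ht : ∀ {k l : I} (a : l ⟶ k), Y.map a ≫ t k = t l)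
  (f₀ : c.pt ⟶ X₀) (hf : ∀ k, c.π.app k ≫ t k = f₀) (F₀ : EtCoh.Ab X₀)

/-- the inverse images of `F₀` as data -/
noncomputable def pullData : Data c where
  G k := (EtCoh.pull (t k)).obj F₀
  φ {k l} a := (EtCoh.pullPushAdj (Y.map a)).homEquiv _ _ (pullVia (Y.map a) (t k) (ht a) F₀)
  M := (EtCoh.pull f₀).obj F₀
  ψ k := (EtCoh.pullPushAdj (c.π.app k)).homEquiv _ _ (pullVia (c.π.app k) (t k) (hf k) F₀)
  φ_id k W := by
    refine congrArg (fun q => q.hom.app (op W)) (ext_of_unit (t k)
      ((EtCoh.pullPushAdj (Y.map (𝟙 k))).homEquiv _ _ (pullVia (Y.map (𝟙 k)) (t k) (ht (𝟙 k)) F₀) ≫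
        idBack k ((EtCoh.pull (t k)).obj F₀)) (𝟙 _) fun V => ?_)
    let can : (EtCoh.bc (Y.map (𝟙 k))).obj ((EtCoh.bc (t k)).obj V) ⟶ (EtCoh.bc (t k)).obj V :=
      MorphismProperty.Over.homMk (pullback.fst ((EtCoh.bc (t k)).obj V).hom (Y.map (𝟙 k)))
        (pullback.condition.trans ((congrArg (_ ≫ ·) (Y.map_id k)).trans (Category.comp_id _)))
    refine ((Category.assoc _ _ _).symm.trans
      (congrArg (· ≫ _) (unit_pullVia (Y.map (𝟙 k)) (t k) (ht (𝟙 k)) F₀ V can rfl))).trans ?_
    refine (Category.assoc _ _ _).trans (congrArg (_ ≫ ·) ?_)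
    refine (Functor.map_comp _ _ _).symm.trans ?_
    refine (congrArg ((EtCoh.pull (t k)).obj F₀).obj.map (Quiver.Hom.unop_inj (?_ : _ = 𝟙 _))).trans
      (((EtCoh.pull (t k)).obj F₀).obj.map_id _)
    exact MorphismProperty.Over.Hom.ext (pullback.lift_fst _ _ _)
  φ_comp {k l m} a b W := by
    have e := congrArg (fun q => q.hom.app (op W)) (ext_of_unit (t k)
      ((EtCoh.pullPushAdj (Y.map (b ≫ a))).homEquiv _ _ (pullVia (Y.map (b ≫ a)) (t k) (ht (b ≫ a)) F₀) ≫
        (split (Y.map b) (Y.map a) (Y.map_comp b a).symm).app _)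
      ((EtCoh.pullPushAdj (Y.map a)).homEquiv _ _ (pullVia (Y.map a) (t k) (ht a) F₀) ≫
        (EtCoh.push (Y.map a)).map ((EtCoh.pullPushAdj (Y.map b)).homEquiv _ _ (pullVia (Y.map b) (t l) (ht b) F₀)))
      fun V => ?_)
    · refine Eq.trans ?_ e
      refine congrArg (_ ≫ ·) (split_app _ _ _ _ W (bcc a b W) (pullback.lift_fst _ _ _)).symm
    let can : ∀ {p q : I} (a : q ⟶ p), (EtCoh.bc (Y.map a)).obj ((EtCoh.bc (t p)).obj V) ⟶ (EtCoh.bc (t q)).obj V :=
      fun {p q} a => MorphismProperty.Over.homMk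
        (pullback.lift (pullback.fst ((EtCoh.bc (t p)).obj V).hom (Y.map a) ≫ pullback.fst V.hom (t p))
          (pullback.snd ((EtCoh.bc (t p)).obj V).hom (Y.map a))
          (((Category.assoc _ _ _).trans (congrArg (_ ≫ ·) pullback.condition)).trans
            ((Category.assoc _ _ _).symm.trans ((congrArg (· ≫ t p) (pullback.condition
              (f := ((EtCoh.bc (t p)).obj V).hom) (g := Y.map a))).trans
              ((Category.assoc _ _ _).trans (congrArg (_ ≫ ·) (ht a)))))))
        (pullback.lift_snd _ _ _)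
    refine ((Category.assoc _ _ _).symm.trans (congrArg (· ≫ _)
      (unit_pullVia (Y.map (b ≫ a)) (t k) (ht (b ≫ a)) F₀ V (can (b ≫ a)) (pullback.lift_fst _ _ _)))).trans ?_
    refine Eq.trans ?_ ((congrArg (· ≫ _)
      (unit_pullVia (Y.map a) (t k) (ht a) F₀ V (can a) (pullback.lift_fst _ _ _)).symm).trans (Category.assoc _ _ _))
    refine Eq.trans ?_ ((congrArg (_ ≫ ·) (((EtCoh.pullPushAdj (Y.map b)).homEquiv _ _
      (pullVia (Y.map b) (t l) (ht b) F₀)).hom.naturality (can a).op).symm).trans (Category.assoc _ _ _).symm)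
    refine Eq.trans ?_ ((congrArg (· ≫ _)
      (unit_pullVia (Y.map b) (t l) (ht b) F₀ V (can b) (pullback.lift_fst _ _ _)).symm).trans (Category.assoc _ _ _))
    refine ((Category.assoc _ _ _).trans (congrArg (_ ≫ ·) ?_)).trans (Category.assoc _ _ _).symm
    rw [split_app _ _ _ _ ((EtCoh.bc (t k)).obj V) (bcc a b ((EtCoh.bc (t k)).obj V)) (pullback.lift_fst _ _ _)]
    show ((EtCoh.pull (t m)).obj F₀).obj.map _ ≫ ((EtCoh.pull (t m)).obj F₀).obj.map _ =
      ((EtCoh.pull (t m)).obj F₀).obj.map _ ≫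
        ((EtCoh.pull (t m)).obj F₀).obj.map ((EtCoh.bc (Y.map b)).map (can a)).op
    rw [← Functor.map_comp, ← Functor.map_comp]
    refine congrArg ((EtCoh.pull (t m)).obj F₀).obj.map (Quiver.Hom.unop_inj (MorphismProperty.Over.Hom.ext ?_))
    apply pullback.hom_ext (f := V.hom) (g := t m)
    · show ((bcc a b ((EtCoh.bc (t k)).obj V)).left ≫ (can (b ≫ a)).left) ≫ pullback.fst V.hom (t m) =
        (((EtCoh.bc (Y.map b)).map (can a)).left ≫ (can b).left) ≫ pullback.fst V.hom (t m)
      refine ((Category.assoc _ _ _).trans (congrArg (_ ≫ ·) (pullback.lift_fst _ _ _))).trans ?_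
      refine (Category.assoc _ _ _).symm.trans ((congrArg (· ≫ _) (pullback.lift_fst _ _ _)).trans (Eq.symm ?_))
      refine ((Category.assoc _ _ _).trans (congrArg (_ ≫ ·) (pullback.lift_fst _ _ _))).trans ?_
      refine (Category.assoc _ _ _).symm.trans
        ((congrArg (· ≫ _) (EtCoh.isPullback_bc_map (Y.map b) (can a)).w).trans ?_)
      exact ((Category.assoc _ _ _).trans (congrArg (_ ≫ ·) (pullback.lift_fst _ _ _))).trans
        (Category.assoc _ _ _).symm
    · exact (MorphismProperty.Over.w (bcc a b ((EtCoh.bc (t k)).obj V) ≫ can (b ≫ a))).trans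
        (MorphismProperty.Over.w ((EtCoh.bc (Y.map b)).map (can a) ≫ can b)).symm
  ψ_comp {k l} a W := by
    have e := congrArg (fun q => q.hom.app (op W)) (ext_of_unit (t k)
      ((EtCoh.pullPushAdj (c.π.app k)).homEquiv _ _ (pullVia (c.π.app k) (t k) (hf k) F₀) ≫
        (split (c.π.app l) (Y.map a) (c.w a)).app _)
      ((EtCoh.pullPushAdj (Y.map a)).homEquiv _ _ (pullVia (Y.map a) (t k) (ht a) F₀) ≫
        (EtCoh.push (Y.map a)).map ((EtCoh.pullPushAdj (c.π.app l)).homEquiv _ _ (pullVia (c.π.app l) (t l) (hf l) F₀)))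
      fun V => ?_)
    · refine Eq.trans ?_ e
      refine congrArg (_ ≫ ·) (split_app _ _ _ _ W ((bcTot c).map (proj (⟨k, W⟩ : Tot Y) a))
        (bcTot_map_fst c (proj (⟨k, W⟩ : Tot Y) a))).symm
    let canL : ∀ p : I, (EtCoh.bc (c.π.app p)).obj ((EtCoh.bc (t p)).obj V) ⟶ (EtCoh.bc f₀).obj V :=
      fun p => MorphismProperty.Over.homMk
        (pullback.lift (pullback.fst ((EtCoh.bc (t p)).obj V).hom (c.π.app p) ≫ pullback.fst V.hom (t p))
          (pullback.snd ((EtCoh.bc (t p)).obj V).hom (c.π.app p))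
          (((Category.assoc _ _ _).trans (congrArg (_ ≫ ·) pullback.condition)).trans
            ((Category.assoc _ _ _).symm.trans ((congrArg (· ≫ t p) (pullback.condition
              (f := ((EtCoh.bc (t p)).obj V).hom) (g := c.π.app p))).trans
              ((Category.assoc _ _ _).trans (congrArg (_ ≫ ·) (hf p)))))))
        (pullback.lift_snd _ _ _)
    let can : (EtCoh.bc (Y.map a)).obj ((EtCoh.bc (t k)).obj V) ⟶ (EtCoh.bc (t l)).obj V :=
      MorphismProperty.Over.homMk
        (pullback.lift (pullback.fst ((EtCoh.bc (t k)).obj V).hom (Y.map a) ≫ pullback.fst V.hom (t k))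
          (pullback.snd ((EtCoh.bc (t k)).obj V).hom (Y.map a))
          (((Category.assoc _ _ _).trans (congrArg (_ ≫ ·) pullback.condition)).trans
            ((Category.assoc _ _ _).symm.trans ((congrArg (· ≫ t k) (pullback.condition
              (f := ((EtCoh.bc (t k)).obj V).hom) (g := Y.map a))).trans
              ((Category.assoc _ _ _).trans (congrArg (_ ≫ ·) (ht a)))))))
        (pullback.lift_snd _ _ _)
    refine ((Category.assoc _ _ _).symm.trans (congrArg (· ≫ _)
      (unit_pullVia (c.π.app k) (t k) (hf k) F₀ V (canL k) (pullback.lift_fst _ _ _)))).trans ?_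
    refine Eq.trans ?_ ((congrArg (· ≫ _)
      (unit_pullVia (Y.map a) (t k) (ht a) F₀ V can (pullback.lift_fst _ _ _)).symm).trans (Category.assoc _ _ _))
    refine Eq.trans ?_ ((congrArg (_ ≫ ·) (((EtCoh.pullPushAdj (c.π.app l)).homEquiv _ _
      (pullVia (c.π.app l) (t l) (hf l) F₀)).hom.naturality can.op).symm).trans (Category.assoc _ _ _).symm)
    refine Eq.trans ?_ ((congrArg (· ≫ _)
      (unit_pullVia (c.π.app l) (t l) (hf l) F₀ V (canL l) (pullback.lift_fst _ _ _)).symm).trans (Category.assoc _ _ _))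
    refine ((Category.assoc _ _ _).trans (congrArg (_ ≫ ·) ?_)).trans (Category.assoc _ _ _).symm
    rw [split_app _ _ _ _ ((EtCoh.bc (t k)).obj V) ((bcTot c).map (proj (⟨k, (EtCoh.bc (t k)).obj V⟩ : Tot Y) a))
      (bcTot_map_fst c (proj (⟨k, (EtCoh.bc (t k)).obj V⟩ : Tot Y) a))]
    show ((EtCoh.pull f₀).obj F₀).obj.map _ ≫ ((EtCoh.pull f₀).obj F₀).obj.map _ =
      ((EtCoh.pull f₀).obj F₀).obj.map _ ≫
        ((EtCoh.pull f₀).obj F₀).obj.map ((EtCoh.bc (c.π.app l)).map can).op
    rw [← Functor.map_comp, ← Functor.map_comp]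
    refine congrArg ((EtCoh.pull f₀).obj F₀).obj.map (Quiver.Hom.unop_inj (MorphismProperty.Over.Hom.ext ?_))
    apply pullback.hom_ext (f := V.hom) (g := f₀)
    · show (((bcTot c).map (proj (⟨k, (EtCoh.bc (t k)).obj V⟩ : Tot Y) a)).left ≫ (canL k).left) ≫ _ =
        (((EtCoh.bc (c.π.app l)).map can).left ≫ (canL l).left) ≫ _
      refine ((Category.assoc _ _ _).trans (congrArg (_ ≫ ·) (pullback.lift_fst _ _ _))).trans ?_
      refine (Category.assoc _ _ _).symm.trans
        ((congrArg (· ≫ _) (bcTot_map_fst c (proj (⟨k, (EtCoh.bc (t k)).obj V⟩ : Tot Y) a))).trans (Eq.symm ?_))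
      refine ((Category.assoc _ _ _).trans (congrArg (_ ≫ ·) (pullback.lift_fst _ _ _))).trans ?_
      refine (Category.assoc _ _ _).symm.trans
        ((congrArg (· ≫ _) (EtCoh.isPullback_bc_map (c.π.app l) can).w).trans ?_)
      exact ((Category.assoc _ _ _).trans (congrArg (_ ≫ ·) (pullback.lift_fst _ _ _))).trans
        (Category.assoc _ _ _).symm
    · exact (MorphismProperty.Over.w ((bcTot c).map (proj (⟨k, (EtCoh.bc (t k)).obj V⟩ : Tot Y) a) ≫ canL k)).trans
        (MorphismProperty.Over.w ((EtCoh.bc (c.π.app l)).map can ≫ canL l)).symm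

theorem pullData_isColim (o : I) : (pullData c t ht f₀ hf F₀).sys.IsColim := by
  have hiso : ∀ k, IsIso ((pullData c t ht f₀ hf F₀).ψt k) := fun k => by
    have e : (pullData c t ht f₀ hf F₀).ψt k = pullVia (c.π.app k) (t k) (hf k) F₀ :=
      ((EtCoh.pullPushAdj (c.π.app k)).homEquiv _ _).symm_apply_apply (pullVia (c.π.app k) (t k) (hf k) F₀)
    rw [e]
    infer_instance
  refine Data.isColim _ (fun Ω _ _ ξ q => ?_) (fun Ω _ _ ξ k W z s h => Or.inl ?_)
  · have := hiso o
    exact ⟨o, inv ((EtCoh.stalk ξ).map ((pullData c t ht f₀ hf F₀).ψt o)) q,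
      (ConcreteCategory.comp_apply _ _ q).symm.trans ((ConcreteCategory.congr_hom
        (IsIso.inv_hom_id ((EtCoh.stalk ξ).map ((pullData c t ht f₀ hf F₀).ψt o))) q).trans
        (ConcreteCategory.id_apply q))⟩
  · have := hiso k
    have h1 := ((pullData c t ht f₀ hf F₀).stalk_ψt W z s).trans h
    have h2 : Function.Injective ((EtCoh.stalk ξ).map ((pullData c t ht f₀ hf F₀).ψt k)) :=
      ((ConcreteCategory.isIso_iff_bijective _).1 inferInstance).1
    have h3 : Function.Injective ((EtFound.sheafFiberPullIso (A := AddCommGrpCat.{u + 1}) (c.π.app k) ξ).inv.app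
        ((pullData c t ht f₀ hf F₀).G k)) := ((ConcreteCategory.isIso_iff_bijective _).1 inferInstance).1
    refine h3 ((h2 ?_).trans (map_zero _).symm)
    exact h1.trans (map_zero _).symm

end Groth.Agent.EtLimCore
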