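import Groth.Agent.EtLimCore.Glue
import Groth.Agent.EtLC12.QcqsAcyclic

/-!
# The pushforward of the limit sheaf to a stage has no higher Čech cohomology
-/

set_option autoImplicit false
set_option maxHeartbeats 400000

universe u

open CategoryTheory CategoryTheory.Limits AlgebraicGeometry Opposite TopologicalSpace

namespace Groth.Agent.EtLimCore

set_option backward.isDefEq.respectTransparency false
set_option backward.isDefEq.respectTransparency.types false

open EtFound EtLC12.QcqsAcyclic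

variable {I : Type u} [SmallCategory I] {Y : I ⥤ Scheme.{u}} {c : Cone Y} (S : Sys c) {j : I}

/-- sections at a later stage, as a presheaf on an earlier one -/
noncomputable abbrev stagePre {l : I} (a : l ⟶ j) : (Y.obj j).Etaleᵒᵖ ⥤ AddCommGrpCat.{u + 1} :=
  ((EtCoh.push (Y.map a)).obj (S.sheaf l)).obj

theorem bcMap_natural {l m : I} (a : l ⟶ j) (g : m ⟶ l) {W W' : (Y.obj j).Etale} (h : W ⟶ W') :
    (incl Y m).map ((EtCoh.bc (Y.map (g ≫ a))).map h) ≫ bcMap (⟨j, W'⟩ : Tot Y) a g =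
      bcMap (⟨j, W⟩ : Tot Y) a g ≫ (incl Y l).map ((EtCoh.bc (Y.map a)).map h) := by
  refine hom_ext' ((Category.id_comp _).trans (Category.comp_id _).symm) ?_
  apply pullback.hom_ext (f := W'.hom) (g := Y.map a)
  · refine ((Category.assoc _ _ _).trans (congrArg (_ ≫ ·) (pullback.lift_fst _ _ _))).trans ?_
    refine (EtCoh.isPullback_bc_map (Y.map (g ≫ a)) h).w.trans (Eq.symm ?_)
    refine ((Category.assoc _ _ _).trans (congrArg (_ ≫ ·) (EtCoh.isPullback_bc_map (Y.map a) h).w)).trans ?_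
    exact (Category.assoc _ _ _).symm.trans (congrArg (· ≫ h.left) (pullback.lift_fst _ _ _))
  · refine ((Category.assoc _ _ _).trans (congrArg (_ ≫ ·) (pullback.lift_snd _ _ _))).trans ?_
    refine (Category.assoc _ _ _).symm.trans ((congrArg (· ≫ Y.map g)
      (MorphismProperty.Over.w ((EtCoh.bc (Y.map (g ≫ a))).map h))).trans (Eq.symm ?_))
    refine ((Category.assoc _ _ _).trans (congrArg (_ ≫ ·) (MorphismProperty.Over.w ((EtCoh.bc (Y.map a)).map h)))).trans ?_
    exact pullback.lift_snd _ _ _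

/-- the transition maps -/
noncomputable def trans {l m : I} (a : l ⟶ j) (g : m ⟶ l) : stagePre S a ⟶ stagePre S (g ≫ a) where
  app W := S.F.map (bcMap (⟨j, W.unop⟩ : Tot Y) a g).op
  naturality W W' h := by
    show S.F.map ((incl Y l).map ((EtCoh.bc (Y.map a)).map h.unop)).op ≫ S.F.map _ =
      S.F.map _ ≫ S.F.map ((incl Y m).map ((EtCoh.bc (Y.map (g ≫ a))).map h.unop)).op
    rw [← S.F.map_comp, ← S.F.map_comp, ← op_comp, ← op_comp, bcMap_natural]

/-- the map to the limit -/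
noncomputable def toLim {l : I} (a : l ⟶ j) : stagePre S a ⟶ ((EtCoh.push (c.π.app j)).obj S.M).obj where
  app W := S.ψ.app (op (bcObj (⟨j, W.unop⟩ : Tot Y) a)) ≫
    inv (S.M.obj.map ((bcTot c).map (proj (⟨j, W.unop⟩ : Tot Y) a)).op)
  naturality W W' h := by
    have e1 : (bcTot c).map (proj (⟨j, W'.unop⟩ : Tot Y) a) ≫ (EtCoh.bc (c.π.app j)).map h.unop =
        (bcTot c).map ((incl Y l).map ((EtCoh.bc (Y.map a)).map h.unop)) ≫
          (bcTot c).map (proj (⟨j, W.unop⟩ : Tot Y) a) := by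
      rw [← bcTot_map_incl c j h.unop, ← Functor.map_comp, ← Functor.map_comp]
      refine congrArg (bcTot c).map (hom_ext' ?_ ?_)
      · exact (Category.comp_id a).trans (Category.id_comp a).symm
      · exact (EtCoh.isPullback_bc_map (Y.map a) h.unop).w.symm
    rw [← cancel_mono (S.M.obj.map ((bcTot c).map (proj (⟨j, W'.unop⟩ : Tot Y) a)).op)]
    simp only [Category.assoc, IsIso.inv_hom_id, Category.comp_id]
    refine (S.ψ.naturality ((incl Y l).map ((EtCoh.bc (Y.map a)).map h.unop)).op).trans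
      (congrArg (_ ≫ ·) ?_)
    show S.M.obj.map _ = inv _ ≫ S.M.obj.map _ ≫ S.M.obj.map _
    rw [IsIso.eq_inv_comp, ← S.M.obj.map_comp, ← S.M.obj.map_comp]
    exact congrArg (fun e => S.M.obj.map (Quiver.Hom.op e)) e1.symm

theorem trans_toLim {l m : I} (a : l ⟶ j) (g : m ⟶ l) (W : (Y.obj j).Etaleᵒᵖ) (t : (stagePre S a).obj W) :
    (toLim S (g ≫ a)).app W ((trans S a g).app W t) = (toLim S a).app W t := by
  refine (ConcreteCategory.comp_apply _ _ t).symm.trans (ConcreteCategory.congr_hom ?_ t)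
  show S.F.map (bcMap (⟨j, W.unop⟩ : Tot Y) a g).op ≫ S.ψ.app _ ≫ inv _ = S.ψ.app _ ≫ inv _
  rw [← Category.assoc, IsIso.comp_inv_eq, Category.assoc]
  refine (S.ψ.naturality (bcMap (⟨j, W.unop⟩ : Tot Y) a g).op).trans (congrArg (_ ≫ ·) ?_)
  rw [IsIso.eq_inv_comp]
  refine (S.M.obj.map_comp _ _).symm.trans (congrArg (fun e => S.M.obj.map (Quiver.Hom.op e)) ?_)
  exact ((bcTot c).map_comp _ _).symm.trans (congrArg (bcTot c).map (bcMap_proj (⟨j, W.unop⟩ : Tot Y) a g))

variable [∀ {i j : I} (f : i ⟶ j), IsAffineHom (Y.map f)] [IsCofiltered I]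

theorem exists_toLim (hc : IsLimit c) (hS : S.IsColim) {W : (Y.obj j).Etale} (hW : IsQcqsObj W)
    (s : S.M.obj.obj (op ((EtCoh.bc (c.π.app j)).obj W))) :
    ∃ (l : I) (a : l ⟶ j) (t : (stagePre S a).obj (op W)), (toLim S a).app (op W) t = s := by
  obtain ⟨l, a, t, ht⟩ := exists_rep S hc hS (A := ⟨j, W⟩) hW s
  refine ⟨l, a, t, (ConcreteCategory.comp_apply _ _ t).trans ?_⟩
  rw [ht]
  exact (ConcreteCategory.comp_apply _ _ s).symm.trans
    (ConcreteCategory.congr_hom (IsIso.hom_inv_id (S.M.obj.map ((bcTot c).map (proj (⟨j, W⟩ : Tot Y) a)).op)) s)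

theorem exists_trans_eq_zero (hc : IsLimit c) (hS : S.IsColim) {W : (Y.obj j).Etale} (hW : IsQcqsObj W)
    {l : I} (a : l ⟶ j) (t : (stagePre S a).obj (op W)) (h : (toLim S a).app (op W) t = 0) :
    ∃ (m : I) (g : m ⟶ l), ∀ {m' : I} (g' : m' ⟶ l) (e : m' ⟶ m), e ≫ g = g' →
      (trans S a g').app (op W) t = 0 := by
  have h0 : S.ψ.app (op (bcObj (⟨j, W⟩ : Tot Y) a)) t = 0 := by
    have := congrArg (S.M.obj.map ((bcTot c).map (proj (⟨j, W⟩ : Tot Y) a)).op) h
    rw [map_zero] at this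
    refine Eq.trans ?_ this
    refine Eq.trans ?_ (congrArg _ (ConcreteCategory.comp_apply _ _ t).symm)
    refine Eq.trans ?_ (ConcreteCategory.comp_apply _ _ (S.ψ.app (op (bcObj (⟨j, W⟩ : Tot Y) a)) t))
    exact (ConcreteCategory.congr_hom (IsIso.inv_hom_id (S.M.obj.map ((bcTot c).map (proj (⟨j, W⟩ : Tot Y) a)).op)) _).symm
  obtain ⟨m, g, hg⟩ := exists_eq_zero S hc hS (A := bcObj (⟨j, W⟩ : Tot Y) a)
    (isQcqsObj_bcObj (A := ⟨j, W⟩) hW a) t h0
  refine ⟨m, g, fun g' e he => ?_⟩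
  show S.F.map (bcMap (⟨j, W⟩ : Tot Y) a g').op t = 0
  rw [← factor_fac (bcMap (⟨j, W⟩ : Tot Y) a g'), op_comp, S.F.map_comp, ConcreteCategory.comp_apply]
  refine (congrArg _ ?_).trans (map_zero _)
  show S.F.map (proj (bcObj (⟨j, W⟩ : Tot Y) a) g').op t = 0
  subst he
  rw [← bcMap_proj, op_comp, S.F.map_comp, ConcreteCategory.comp_apply, hg, map_zero]

variable {U : (Y.obj j).Etale} [HasFiniteProducts (Over U)] {ι : Type (u + 1)} [Finite ι] {Uf : ι → Over U}

omit [∀ {i j : I} (f : i ⟶ j), IsAffineHom (Y.map f)] [IsCofiltered I] [Finite ι] in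
/-- maps of presheaves on cochains -/
noncomputable abbrev cmap (Uf : ι → Over U) {P Q : (Y.obj j).Etaleᵒᵖ ⥤ AddCommGrpCat.{u + 1}} (φ : P ⟶ Q) :
    EtCech.cechComplex Uf P ⟶ EtCech.cechComplex Uf Q :=
  (cechComplexFunctor Uf).map (Functor.whiskerLeft (Over.forget U).op φ)

variable [LocallySmall.{u + 1} (Y.obj j).Etale]

-- cochains of the limit sheaf come from a stage
set_option maxHeartbeats 4000000 in
theorem exists_cochain (hc : IsLimit c) (hS : S.IsColim) (hU : IsQcqsObj U) (hUf : ∀ i, IsQcqsObj (Uf i).left)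
    (n : ℕ) (x : (EtCech.cechComplex Uf ((EtCoh.push (c.π.app j)).obj S.M).obj).X n) :
    ∃ (l : I) (a : l ⟶ j) (x' : (EtCech.cechComplex Uf (stagePre S a)).X n),
      ((cmap Uf (toLim S a)).f n).hom x' = x := by
  classical
  choose l a t ht using fun i : Fin (n + 1) → ι => exists_toLim S hc hS
    (isQcqsObj_prod hU n _ fun k => hUf (i k))
    (CechInjGen.cev Uf ((EtCoh.push (c.π.app j)).obj S.M).obj n i x)
  obtain ⟨L, hL⟩ := IsCofiltered.inf_objs_exists
    (insert (Over.mk (𝟙 j)) ((Set.finite_range fun i => Over.mk (a i)).toFinset))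
  have hs : ∀ i, ∃ s : (stagePre S L.hom).obj (op (∏ᶜ fun k => Uf (i k)).left),
      (toLim S L.hom).app _ s = CechInjGen.cev Uf ((EtCoh.push (c.π.app j)).obj S.M).obj n i x := fun i => by
    obtain ⟨g⟩ := hL (Finset.mem_insert_of_mem ((Set.finite_range fun i => Over.mk (a i)).mem_toFinset.2 ⟨i, rfl⟩))
    have hg : g.left ≫ a i = L.hom := Over.w g
    rw [← hg]
    exact ⟨(trans S (a i) g.left).app _ (t i), (trans_toLim S (a i) g.left _ _).trans (ht i)⟩
  choose s hs using hs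
  obtain ⟨x', hx'⟩ := CechInjGen.exists_cev Uf (stagePre S L.hom) (n := n) s
  exact ⟨L.left, L.hom, x', CechInjGen.cev_ext Uf _ fun i => by rw [CechSurjGen.cev_map, hx', hs]⟩

/-- cochains killed in the limit die at a stage -/
theorem exists_cochain_eq_zero (hc : IsLimit c) (hS : S.IsColim) (hU : IsQcqsObj U)
    (hUf : ∀ i, IsQcqsObj (Uf i).left) (n : ℕ) {l : I} (a : l ⟶ j)
    (x : (EtCech.cechComplex Uf (stagePre S a)).X n) (hx : ((cmap Uf (toLim S a)).f n).hom x = 0) :
    ∃ (m : I) (g : m ⟶ l), ((cmap Uf (trans S a g)).f n).hom x = 0 := by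
  classical
  choose m b hb using fun i : Fin (n + 1) → ι => exists_trans_eq_zero S hc hS
    (isQcqsObj_prod hU n _ fun k => hUf (i k)) a (CechInjGen.cev Uf (stagePre S a) n i x)
    (by rw [← CechSurjGen.cev_map, hx, map_zero])
  obtain ⟨L, hL⟩ := IsCofiltered.inf_objs_exists
    (insert (Over.mk (𝟙 l)) ((Set.finite_range fun i => Over.mk (b i)).toFinset))
  refine ⟨L.left, L.hom, CechInjGen.cev_ext Uf _ fun i => ?_⟩
  obtain ⟨e⟩ := hL (Finset.mem_insert_of_mem ((Set.finite_range fun i => Over.mk (b i)).mem_toFinset.2 ⟨i, rfl⟩))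
  rw [CechSurjGen.cev_map, map_zero]
  exact hb i L.hom e.left (Over.w e)

omit [HasFiniteProducts (Over U)] [Finite ι] [LocallySmall.{u + 1} (Y.obj j).Etale] in
/-- the pushforward of the limit sheaf to a stage has no higher Čech cohomology -/
theorem isCechAcyclic_push_limit (hc : IsLimit c) (hS : S.IsColim)
    (h : ∀ {l : I} (a : l ⟶ j), IsCechAcyclic ((EtCoh.push (Y.map a)).obj (S.sheaf l))) :
    IsCechAcyclic ((EtCoh.push (c.π.app j)).obj S.M) := by
  intro U _ ι _ Uf hU hUf p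
  haveI : LocallySmall.{u + 1} (Y.obj j).Etale := ⟨fun _ _ => inferInstance⟩
  refine (HomologicalComplex.exactAt_iff_isZero_homology _ _).1 ?_
  rw [HomologicalComplex.exactAt_iff' _ p (p + 1) (p + 2) (by simp) (by simp), ShortComplex.ab_exact_iff]
  intro (x : (EtCech.cechComplex Uf ((EtCoh.push (c.π.app j)).obj S.M).obj).X (p + 1))
    (hx : ((EtCech.cechComplex Uf ((EtCoh.push (c.π.app j)).obj S.M).obj).d (p + 1) (p + 2)).hom x = 0)
  obtain ⟨l, a, x', rfl⟩ := exists_cochain S hc hS hU hUf (p + 1) x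
  obtain ⟨m, g, hg⟩ := exists_cochain_eq_zero S hc hS hU hUf (p + 2) a
    (((EtCech.cechComplex Uf (stagePre S a)).d (p + 1) (p + 2)).hom x')
    ((ConcreteCategory.congr_hom ((cmap Uf (toLim S a)).comm (p + 1) (p + 2)) x').symm.trans hx)
  have E := (HomologicalComplex.exactAt_iff_isZero_homology _ _).2 (h (g ≫ a) U ι Uf hU hUf p)
  rw [HomologicalComplex.exactAt_iff' _ p (p + 1) (p + 2) (by simp) (by simp), ShortComplex.ab_exact_iff] at E
  obtain ⟨y, hy⟩ := E (((cmap Uf (trans S a g)).f (p + 1)).hom x')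
    ((ConcreteCategory.congr_hom ((cmap Uf (trans S a g)).comm (p + 1) (p + 2)) x').trans hg)
  refine ⟨((cmap Uf (toLim S (g ≫ a))).f p).hom y, ?_⟩
  refine (ConcreteCategory.congr_hom ((cmap Uf (toLim S (g ≫ a))).comm p (p + 1)) y).trans ?_
  refine (congrArg ((cmap Uf (toLim S (g ≫ a))).f (p + 1)).hom hy).trans ?_
  refine CechInjGen.cev_ext Uf _ fun i => ?_
  rw [CechSurjGen.cev_map, CechSurjGen.cev_map, CechSurjGen.cev_map, trans_toLim]

end Groth.Agent.EtLimCore
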