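import Groth.Agent.EtLimCore.Germs
import Groth.Agent.AlgSpDec.LimAffineModel

/-!
# Étale schemes over the limit are covered by those coming from the stages
-/

set_option autoImplicit false
set_option maxHeartbeats 400000

universe u

open CategoryTheory CategoryTheory.Limits AlgebraicGeometry Opposite TopologicalSpace
open scoped TensorProduct

namespace Groth.Agent.EtLimCore

set_option backward.isDefEq.respectTransparency false
set_option backward.isDefEq.respectTransparency.types false

/-- an étale morphism of affine schemes has a model of finite presentation over the integers -/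
theorem exists_model {V O : Scheme.{u}} [IsAffine V] [IsAffine O] (g : V ⟶ O) [AlgebraicGeometry.Etale g] :
    ∃ (Z Z' : Scheme.{u}) (q : O ⟶ Z) (f₀ : Z' ⟶ Z) (q' : V ⟶ Z'), IsAffine Z ∧ IsAffine Z' ∧
      AlgebraicGeometry.Etale f₀ ∧ LocallyOfFinitePresentation (terminal.from Z) ∧ IsPullback q' g f₀ q := by
  let A := Γ(O, ⊤)
  let B := Γ(V, ⊤)
  have het : g.appTop.hom.Etale := (HasRingHomProperty.iff_of_isAffine (P := @AlgebraicGeometry.Etale)).1 ‹_›
  letI := g.appTop.hom.toAlgebra
  haveI : Algebra.Etale A B := het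
  obtain ⟨A₀, B₀, _, _, hA₀, hB₀, ⟨e⟩⟩ := Algebra.Etale.exists_subalgebra_fg (R := ℤ) (A := A) (B := B)
  let f₀ := Spec.map (CommRingCat.ofHom (algebraMap A₀ B₀))
  have hf₀ : AlgebraicGeometry.Etale f₀ := HasRingHomProperty.Spec_iff.2 (RingHom.etale_algebraMap.mpr hB₀)
  have sq0 : IsPullback (Spec.map (CommRingCat.ofHom (Algebra.TensorProduct.includeRight (R := A₀) (A := A) (B := B₀)).toRingHom))
      (Spec.map (CommRingCat.ofHom (Algebra.TensorProduct.includeLeftRingHom (R := A₀) (A := A) (B := B₀))))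
      f₀ (Spec.map (CommRingCat.ofHom (algebraMap A₀ A))) :=
    (isPullback_SpecMap_of_isPushout _ _ _ _ (CommRingCat.isPushout_tensorProduct A₀ A B₀)).flip
  let eU : V ⟶ Spec (CommRingCat.of (A ⊗[A₀] B₀)) :=
    V.isoSpec.hom ≫ Spec.map (CommRingCat.ofHom e.symm.toRingEquiv.toRingHom)
  have : IsIso (CommRingCat.ofHom e.symm.toRingEquiv.toRingHom) :=
    e.symm.toRingEquiv.toCommRingCatIso.isIso_hom
  have : IsIso eU := inferInstance
  have heU : eU ≫ Spec.map (CommRingCat.ofHom (Algebra.TensorProduct.includeLeftRingHom (R := A₀) (A := A) (B := B₀))) =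
      g ≫ O.isoSpec.hom := by
    change (V.isoSpec.hom ≫ _) ≫ _ = _
    rw [Category.assoc, ← Spec.map_comp]
    refine Eq.trans ?_ (Scheme.isoSpec_hom_naturality g)
    refine congrArg (fun r => V.isoSpec.hom ≫ Spec.map r) (CommRingCat.hom_ext (RingHom.ext fun a => ?_))
    exact e.symm.commutes a
  exact ⟨_, _, O.isoSpec.hom ≫ Spec.map (CommRingCat.ofHom (algebraMap A₀ A)), f₀,
    eU ≫ Spec.map (CommRingCat.ofHom
      (Algebra.TensorProduct.includeRight (R := A₀) (A := A) (B := B₀)).toRingHom),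
    inferInstance, inferInstance, hf₀, AlgSpDec.locallyOfFinitePresentation_terminal_of_fg A₀ hA₀,
    (IsPullback.of_horiz_isIso ⟨heU⟩).paste_horiz sq0⟩

variable {I : Type u} [SmallCategory I] {Y : I ⥤ Scheme.{u}} {c : Cone Y}
  [∀ {i j : I} (f : i ⟶ j), IsAffineHom (Y.map f)] [IsCofiltered I]

/-- every point of an étale scheme over the limit is in the image of an affine one from a stage -/
theorem exists_staged_nbhd (hc : IsLimit c) (U : c.pt.Etale) (x : U.left) :
    ∃ (B : Tot Y) (_ : IsAffine B.obj.left) (h : (bcTot c).obj B ⟶ U), x ∈ Set.range h.left.base := by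
  have : AlgebraicGeometry.Etale U.hom := U.prop
  obtain ⟨_, ⟨_, ⟨k, P, hP, rfl⟩, rfl⟩, hxP, -⟩ :=
    (isBasis_preimage_isAffineOpen Y c hc).exists_subset_of_mem_open (Set.mem_univ (U.hom.base x)) isOpen_univ
  let O : c.pt.Opens := c.π.app k ⁻¹ᵁ P
  have hOaff : IsAffineOpen O := haveI := isAffineHom_π_app Y c hc k; hP.preimage _
  obtain ⟨_, ⟨V₀, hV, rfl⟩, hxV, hVO⟩ :=
    U.left.isBasis_affineOpens.exists_subset_of_mem_open (show x ∈ U.hom ⁻¹ᵁ O from hxP) (U.hom ⁻¹ᵁ O).2
  let V : Scheme.Opens U.left := V₀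
  let g : V.toScheme ⟶ O.toScheme := U.hom.resLE O V hVO
  have hg : g ≫ O.ι = V.ι ≫ U.hom := Scheme.Hom.resLE_comp_ι _ _
  have : AlgebraicGeometry.Etale (g ≫ O.ι) := by rw [hg]; infer_instance
  have : AlgebraicGeometry.Etale g := AlgebraicGeometry.Etale.of_comp g O.ι
  have : IsAffine V.toScheme := hV
  have : IsAffine O.toScheme := hOaff
  obtain ⟨Z, Z', q, f₀, q', _, _, _, _, sq⟩ := exists_model g
  have haff : ∀ m : Over k, IsAffine ((opensDiagram Y k P).obj m) := fun m => hP.preimage _
  obtain ⟨m, gm, hm, -⟩ := Scheme.exists_π_app_comp_eq_of_locallyOfFinitePresentation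
    (D := opensDiagram Y k P) (t := { app := fun _ => terminal.from _ }) (f := terminal.from Z)
    (c := opensCone Y c k P) (isLimitOpensCone Y c hc k P) q (by ext; exact terminal.hom_ext _ _)
  have := haff m
  let ι₁ : (opensDiagram Y k P).obj m ⟶ Y.obj m.left := Scheme.Opens.ι _
  let W : (Y.obj m.left).Etale :=
    haveI : AlgebraicGeometry.Etale (pullback.snd f₀ gm) :=
      MorphismProperty.pullback_snd (P := @AlgebraicGeometry.Etale) _ _ inferInstance
    haveI : IsOpenImmersion ι₁ := inferInstanceAs (IsOpenImmersion (Scheme.Opens.ι _))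
    Scheme.Etale.mk (pullback.snd f₀ gm ≫ ι₁)
  let πm : O.toScheme ⟶ (opensDiagram Y k P).obj m := (opensCone Y c k P).π.app m
  have hπm : πm ≫ ι₁ = O.ι ≫ c.π.app m.left := Scheme.Hom.resLE_comp_ι _ _
  have hrange : Set.range (pullback.snd W.hom (c.π.app m.left)).base ⊆ Set.range O.ι.base := by
    rw [Scheme.Opens.range_ι]
    rintro _ ⟨b, rfl⟩
    show (c.π.app k).base _ ∈ P
    rw [← c.w m.hom, Scheme.Hom.comp_apply]
    refine Set.mem_of_eq_of_mem (s := {q | (Y.map m.hom).base q ∈ P})
      ((Scheme.Hom.comp_apply _ _ _).symm.trans ((congrArg (fun k : _ ⟶ Y.obj m.left => k.base b)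
        pullback.condition.symm).trans (Scheme.Hom.comp_apply _ _ _))) ?_
    exact ((pullback.snd f₀ gm).base ((pullback.fst W.hom (c.π.app m.left)).base b)).2
  let e := IsOpenImmersion.lift O.ι _ hrange
  have he : e ≫ O.ι = pullback.snd W.hom (c.π.app m.left) := IsOpenImmersion.lift_fac _ _ _
  have he' : e ≫ πm = pullback.fst W.hom (c.π.app m.left) ≫ pullback.snd f₀ gm := by
    haveI : IsOpenImmersion ι₁ := inferInstanceAs (IsOpenImmersion (Scheme.Opens.ι _))
    rw [← cancel_mono ι₁, Category.assoc, hπm, ← Category.assoc, he, Category.assoc]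
    exact pullback.condition.symm
  let l : pullback W.hom (c.π.app m.left) ⟶ V.toScheme :=
    sq.lift (pullback.fst W.hom (c.π.app m.left) ≫ pullback.fst f₀ gm) e
      (by rw [Category.assoc, pullback.condition, ← Category.assoc, ← he', Category.assoc, hm])
  have hlg : l ≫ g = e := sq.lift_snd _ _ _
  refine ⟨⟨m.left, W⟩, inferInstanceAs (IsAffine (pullback f₀ gm)),
    MorphismProperty.Over.homMk (l ≫ V.ι) (by
      show (l ≫ V.ι) ≫ U.hom = pullback.snd W.hom (c.π.app m.left)
      rw [Category.assoc, ← hg, ← Category.assoc, hlg, he]), ?_⟩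
  let s₁ : V.toScheme ⟶ pullback f₀ gm := pullback.lift q' (g ≫ πm) (by
    rw [Category.assoc, hm]; exact sq.w)
  let s : V.toScheme ⟶ pullback W.hom (c.π.app m.left) := pullback.lift s₁ (g ≫ O.ι) (by
    show s₁ ≫ pullback.snd f₀ gm ≫ ι₁ = _
    rw [pullback.lift_snd_assoc, Category.assoc, hπm, Category.assoc])
  have hs : s ≫ l = 𝟙 _ := by
    apply sq.hom_ext
    · rw [Category.assoc, sq.lift_fst, Category.id_comp, pullback.lift_fst_assoc, pullback.lift_fst]
    · rw [Category.assoc, hlg, Category.id_comp, ← cancel_mono O.ι, Category.assoc, he, pullback.lift_snd]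
  refine ⟨s.base ⟨x, hxV⟩, ?_⟩
  show (l ≫ V.ι).base (s.base ⟨x, hxV⟩) = x
  rw [← Scheme.Hom.comp_apply, ← Category.assoc, hs, Category.id_comp]
  rfl

end Groth.Agent.EtLimCore

namespace Groth.Agent.EtLimCore

set_option backward.isDefEq.respectTransparency false
set_option backward.isDefEq.respectTransparency.types false

variable {I : Type u} [SmallCategory I] {Y : I ⥤ Scheme.{u}} {c : Cone Y}
  [∀ {i j : I} (f : i ⟶ j), IsAffineHom (Y.map f)] [IsCofiltered I]

/-- an open of the limit of an étale scheme contains the image of an affine one from a later stage -/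
theorem exists_stage_open_nbhd (hc : IsLimit c) (C : Tot Y) (O : ((bcTot c).obj C).left.Opens)
    (x : ((bcTot c).obj C).left) (hx : x ∈ O) :
    ∃ (B : Tot Y) (_ : IsAffine B.obj.left) (h : B ⟶ C), x ∈ Set.range ((bcTot c).map h).left.base ∧
      ∀ w, ((bcTot c).map h).left.base w ∈ O := by
  obtain ⟨n, P, hP, hxP, hPO⟩ := exists_affine_stage_nbhd hc C O x hx
  let B : Tot Y := ⟨n.left, EtFound.restrictEtale (bcObj C n.hom).obj P⟩
  let h : B ⟶ C := (incl Y n.left).map (EtFound.restrictEtaleHom (bcObj C n.hom).obj P) ≫ proj C n.hom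
  let q := ((bcTot c).map h).left
  have hq : q ≫ toStage c C n.hom = pullback.fst B.obj.hom (c.π.app n.left) ≫ P.ι := by
    show ((bcTot c).map (_ ≫ _)).left ≫ toStage c C n.hom = _
    rw [Functor.map_comp]
    refine ((Category.assoc _ _ _).trans (congrArg (_ ≫ ·) (bcTot_proj_toStage C n.hom))).trans ?_
    exact bcTot_map_fst c ((incl Y n.left).map (EtFound.restrictEtaleHom (bcObj C n.hom).obj P))
  refine ⟨B, hP, h, ?_, fun w => hPO ?_⟩
  · obtain ⟨e, he⟩ : ∃ e, ((bcTot c).map (proj C n.hom)).left.base e = x :=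
      ⟨(inv ((bcTot c).map (proj C n.hom))).left.base x, (Scheme.Hom.comp_apply _ _ _).symm.trans
        (congrArg (fun k : ((bcTot c).obj C).left ⟶ _ => k.base x)
          ((congrArg (fun k => k.left) (IsIso.inv_hom_id ((bcTot c).map (proj C n.hom)))) :))⟩
    have sq := EtCoh.isPullback_bc_map (c.π.app n.left) (EtFound.restrictEtaleHom (bcObj C n.hom).obj P)
    have heP : (pullback.fst (bcObj C n.hom).obj.hom (c.π.app n.left)).base e ∈ P := by
      refine Set.mem_of_eq_of_mem (s := {q : (bcObj C n.hom).obj.left | q ∈ P})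
        ((congrArg (fun k : _ ⟶ (bcObj C n.hom).obj.left => k.base e) (bcTot_proj_toStage C n.hom).symm).trans
          ((Scheme.Hom.comp_apply _ _ _).trans (congrArg _ he))) ?_
      exact hxP
    obtain ⟨w, hw, -⟩ := Scheme.Pullback.exists_preimage_pullback
      (f := pullback.fst (bcObj C n.hom).obj.hom (c.π.app n.left)) (g := P.ι) e ⟨_, heP⟩ rfl
    refine ⟨sq.isoPullback.inv.base w, ?_⟩
    rw [Functor.map_comp, bcTot_map_incl]
    show ((((EtCoh.bc (c.π.app n.left)).map (EtFound.restrictEtaleHom (bcObj C n.hom).obj P)).left ≫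
      ((bcTot c).map (proj C n.hom)).left)).base _ = _
    rw [Scheme.Hom.comp_apply, ← Scheme.Hom.comp_apply sq.isoPullback.inv]
    have e1 : (sq.isoPullback.inv ≫
        ((EtCoh.bc (c.π.app n.left)).map (EtFound.restrictEtaleHom (bcObj C n.hom).obj P)).left).base w = e := by
      rw [sq.isoPullback_inv_fst]
      exact hw
    exact (congrArg ((bcTot c).map (proj C n.hom)).left.base e1).trans he
  · show (toStage c C n.hom).base (q.base w) ∈ P
    rw [← Scheme.Hom.comp_apply, hq, Scheme.Hom.comp_apply]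
    exact Subtype.coe_prop _

/-- étale neighbourhoods over a staged scheme are refined by staged morphisms -/
theorem exists_staged_lift (hc : IsLimit c) {A : Tot Y} {U : c.pt.Etale} (p : U ⟶ (bcTot c).obj A) (x : U.left) :
    ∃ (B : Tot Y) (_ : IsAffine B.obj.left) (f : B ⟶ A) (k : (bcTot c).obj B ⟶ U),
      k ≫ p = (bcTot c).map f ∧ p.left.base x ∈ Set.range ((bcTot c).map f).left.base := by
  obtain ⟨Ω, _, _, ξ, u, rfl⟩ := EtFound.exists_algClosed_point U x
  let Φ := Scheme.pointSmallEtale ξ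
  obtain ⟨B₀, -, h₀, w₀, hw₀⟩ := exists_staged_nbhd hc U (EtFound.ptOf u)
  obtain ⟨u₀, hu₀, -⟩ := EtFound.exists_lift_point h₀ u w₀ hw₀
  obtain ⟨C, f, g, y, hyf, hyg⟩ := exists_common (Φ.fiber.map p u) u₀
  let α := (bcTot c).map g ≫ h₀ ≫ p
  let β := (bcTot c).map f
  have hαβ : Φ.fiber.map α y = Φ.fiber.map β y := by
    rw [hyf]
    show Φ.fiber.map ((bcTot c).map g ≫ h₀ ≫ p) y = _
    rw [Functor.map_comp, Functor.map_comp, ConcreteCategory.comp_apply, ConcreteCategory.comp_apply, hyg]
    exact congrArg _ hu₀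
  obtain ⟨⟨T, t⟩, ⟨i, hi⟩, heq⟩ := IsCofilteredOrEmpty.cone_maps
    (CategoryOfElements.homMk (Φ.fiber.elementsMk _ y) (Φ.fiber.elementsMk _ (Φ.fiber.map β y)) α hαβ)
    (CategoryOfElements.homMk (Φ.fiber.elementsMk _ y) (Φ.fiber.elementsMk _ (Φ.fiber.map β y)) β rfl)
  have heq' : i ≫ α = i ≫ β := congrArg Subtype.val heq
  have : AlgebraicGeometry.Etale i.left := EtFound.etale_left i
  let O : ((bcTot c).obj C).left.Opens := ⟨Set.range i.left.base, i.left.isOpenMap.isOpen_range⟩
  have hy : EtFound.ptOf y ∈ O := ⟨EtFound.ptOf t, (EtFound.ptOf_map _ _).symm.trans (congrArg EtFound.ptOf hi)⟩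
  obtain ⟨B, hB, h, ⟨w, hw⟩, hO⟩ := exists_stage_open_nbhd hc C O (EtFound.ptOf y) hy
  let k := (bcTot c).map h
  have hsurj : Surjective (pullback.snd i.left k.left) := ⟨fun b => by
    obtain ⟨a, ha⟩ := hO b
    obtain ⟨d, -, hd⟩ := Scheme.Pullback.exists_preimage_pullback (f := i.left) (g := k.left) a b ha
    exact ⟨d, hd⟩⟩
  have hflat : Flat (pullback.snd i.left k.left) := MorphismProperty.pullback_snd (P := @Flat) _ _ inferInstance
  have hepi := Flat.epi_of_flat_of_surjective (pullback.snd i.left k.left)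
  have hk : k ≫ α = k ≫ β := by
    refine MorphismProperty.Over.Hom.ext ((cancel_epi (pullback.snd i.left k.left)).1 ?_)
    show pullback.snd i.left k.left ≫ k.left ≫ α.left = pullback.snd i.left k.left ≫ k.left ≫ β.left
    rw [← pullback.condition_assoc, ← pullback.condition_assoc]
    exact congrArg (pullback.fst i.left k.left ≫ ·) (congrArg (fun e => e.left) heq')
  refine ⟨B, hB, h ≫ f, k ≫ (bcTot c).map g ≫ h₀, ?_, w, ?_⟩
  · rw [Functor.map_comp, Category.assoc, Category.assoc]
    exact hk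
  · rw [Functor.map_comp]
    refine (Scheme.Hom.comp_apply _ _ _).trans ((congrArg ((bcTot c).map f).left.base hw).trans ?_)
    exact (EtFound.ptOf_map _ _).symm.trans ((congrArg EtFound.ptOf hyf).trans (EtFound.ptOf_map _ _))

end Groth.Agent.EtLimCore
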