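import Groth.Agent.EtLimCore.Basis

/-!
# The colimit sheaf on the limit of a system of sheaves
-/

set_option autoImplicit false
set_option maxHeartbeats 800000

universe u

open CategoryTheory CategoryTheory.Limits AlgebraicGeometry Opposite TopologicalSpace

namespace Groth.Agent.EtLimCore

set_option backward.isDefEq.respectTransparency false
set_option backward.isDefEq.respectTransparency.types false

variable {I : Type u} [SmallCategory I] {Y : I ⥤ Scheme.{u}} (c : Cone Y)

/-- the left Kan extension of a system -/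
noncomputable abbrev colimPre (F : (Tot Y)ᵒᵖ ⥤ AddCommGrpCat.{u + 1}) : c.pt.Etaleᵒᵖ ⥤ AddCommGrpCat.{u + 1} :=
  (bcTot c).op.leftKanExtension F

/-- a system completed by its colimit sheaf -/
noncomputable def colimSys (F : (Tot Y)ᵒᵖ ⥤ AddCommGrpCat.{u + 1})
    (hF : ∀ k, Presheaf.IsSheaf (Y.obj k).smallEtaleTopology ((incl Y k).op ⋙ F)) : Sys c where
  F := F
  isSheaf := hF
  M := (presheafToSheaf c.pt.smallEtaleTopology AddCommGrpCat.{u + 1}).obj (colimPre c F)
  ψ := (bcTot c).op.leftKanExtensionUnit F ≫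
    Functor.whiskerLeft (bcTot c).op (toSheafify c.pt.smallEtaleTopology (colimPre c F))

variable {c} [∀ {i j : I} (f : i ⟶ j), IsAffineHom (Y.map f)] [IsCofiltered I]

/-- staged neighbourhoods of a geometric point form a cofiltered category -/
theorem isCofiltered_elements (hc : IsLimit c) (Ω : Type u) [Field Ω] [IsSepClosed Ω]
    (ξ : Spec (CommRingCat.of Ω) ⟶ c.pt) : IsCofiltered (bcTot c ⋙ (Scheme.pointSmallEtale ξ).fiber).Elements := by
  let Φ := Scheme.pointSmallEtale ξ
  have : IsCofilteredOrEmpty (bcTot c ⋙ Φ.fiber).Elements := ⟨fun ⟨A, z⟩ ⟨B, z'⟩ => by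
      obtain ⟨C, f, g, y, hy, hy'⟩ := exists_common (ξ := ξ) (A := A) (B := B) z z'
      exact ⟨⟨C, y⟩, CategoryOfElements.homMk _ _ f hy, CategoryOfElements.homMk _ _ g hy', trivial⟩,
    fun ⟨A, z⟩ ⟨B, z'⟩ ⟨f, hf⟩ ⟨g, hg⟩ => by
      obtain ⟨l, e, he⟩ := IsCofilteredOrEmpty.cone_maps f.a g.a
      let A' := bcObj A e
      let p := proj A e
      let z₁ : Φ.fiber.obj ((bcTot c).obj A') := Φ.fiber.map (inv ((bcTot c).map p)) z
      have hz₁ : Φ.fiber.map ((bcTot c).map p) z₁ = z := by
        rw [← ConcreteCategory.comp_apply, ← Functor.map_comp, IsIso.inv_hom_id, CategoryTheory.Functor.map_id]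
        rfl
      let b := e ≫ f.a
      let φ : A'.obj ⟶ (bcObj B b).obj := MorphismProperty.Over.homMk
        (pullback.lift (pullback.fst A.obj.hom (Y.map e) ≫ f.g) (pullback.snd A.obj.hom (Y.map e))
          (by rw [Category.assoc, f.w, pullback.condition_assoc, ← Y.map_comp])) (pullback.lift_snd _ _ _)
      let γ : A'.obj ⟶ (bcObj B b).obj := MorphismProperty.Over.homMk
        (pullback.lift (pullback.fst A.obj.hom (Y.map e) ≫ g.g) (pullback.snd A.obj.hom (Y.map e))
          (by rw [Category.assoc, g.w, pullback.condition_assoc, ← Y.map_comp]; exact congrArg (fun q => _ ≫ Y.map q) he.symm))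
        (pullback.lift_snd _ _ _)
      have hφ : (incl Y l).map φ ≫ proj B b = p ≫ f := hom_ext' (Category.id_comp _) (pullback.lift_fst _ _ _)
      have hγ : (incl Y l).map γ ≫ proj B b = p ≫ g :=
        hom_ext' ((Category.id_comp _).trans he) (pullback.lift_fst _ _ _)
      have key : ∀ (ψ : A'.obj ⟶ (bcObj B b).obj) (h : A ⟶ B), (incl Y l).map ψ ≫ proj B b = p ≫ h →
          Φ.fiber.map ((bcTot c).map h) z = z' →
          Φ.fiber.map ((bcTot c).map ((incl Y l).map ψ)) z₁ = Φ.fiber.map (inv ((bcTot c).map (proj B b))) z' := by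
        intro ψ h hψ hh
        refine Eq.trans ?_ (congrArg (Φ.fiber.map (inv ((bcTot c).map (proj B b)))) hh)
        have e1 : (bcTot c).map ((incl Y l).map ψ) =
            (bcTot c).map p ≫ (bcTot c).map h ≫ inv ((bcTot c).map (proj B b)) := by
          rw [← Category.assoc, IsIso.eq_comp_inv]
          exact ((bcTot c).map_comp _ _).symm.trans ((congrArg (bcTot c).map hψ).trans ((bcTot c).map_comp _ _))
        refine (congrArg (fun q => Φ.fiber.map q z₁) e1).trans ?_
        simp only [Functor.map_comp, ConcreteCategory.comp_apply]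
        exact congrArg (fun q => Φ.fiber.map (inv ((bcTot c).map (proj B b))) (Φ.fiber.map ((bcTot c).map h) q)) hz₁
      have hdown : ∀ ψ : A'.obj ⟶ (bcObj B b).obj,
          EtFound.bcFiberEquiv (c.π.app l) ξ _ (Φ.fiber.map ((bcTot c).map ((incl Y l).map ψ)) z₁) =
            (Scheme.pointSmallEtale (ξ ≫ c.π.app l)).fiber.map ψ (down z₁) := fun ψ => by
        refine CategoryTheory.Over.OverMorphism.ext ?_
        show ((z₁.left : Spec (CommRingCat.of Ω) ⟶ _) ≫ ((bcTot c).map ((incl Y l).map ψ)).left) ≫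
            pullback.fst (bcObj B b).obj.hom (c.π.app l) =
          ((z₁.left : Spec (CommRingCat.of Ω) ⟶ ((bcTot c).obj A').left) ≫ pullback.fst A'.obj.hom (c.π.app l)) ≫ ψ.left
        exact ((Category.assoc _ _ _).trans (congrArg (_ ≫ ·) (bcTot_map_fst c ((incl Y l).map ψ)))).trans
          (Category.assoc _ _ _).symm
      have heq : (Scheme.pointSmallEtale (ξ ≫ c.π.app l)).fiber.map γ (down z₁) =
          (Scheme.pointSmallEtale (ξ ≫ c.π.app l)).fiber.map φ (down z₁) := by
        rw [← hdown, ← hdown, key φ f hφ hf, key γ g hγ hg]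
      let Φl := Scheme.pointSmallEtale (ξ ≫ c.π.app l)
      obtain ⟨⟨T, t⟩, ⟨i, hi⟩, hiq⟩ := IsCofilteredOrEmpty.cone_maps
        (CategoryOfElements.homMk (Φl.fiber.elementsMk _ (down z₁)) (Φl.fiber.elementsMk _ (Φl.fiber.map φ (down z₁))) φ rfl)
        (CategoryOfElements.homMk (Φl.fiber.elementsMk _ (down z₁)) (Φl.fiber.elementsMk _ (Φl.fiber.map φ (down z₁))) γ heq)
      have hiq' : i ≫ φ = i ≫ γ := congrArg Subtype.val hiq
      let C : Tot Y := ⟨l, T⟩
      let y : Φ.fiber.obj ((bcTot c).obj C) := (EtFound.bcFiberEquiv (c.π.app l) ξ T).symm t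
      have hy : Φ.fiber.map ((bcTot c).map ((incl Y l).map i)) y = z₁ := by
        refine (EtFound.bcFiberEquiv (c.π.app l) ξ A'.obj).injective ?_
        refine Eq.trans (CategoryTheory.Over.OverMorphism.ext ?_) hi
        show ((y.left : Spec (CommRingCat.of Ω) ⟶ _) ≫ ((bcTot c).map ((incl Y l).map i)).left) ≫
            pullback.fst A'.obj.hom (c.π.app l) = (t.left : Spec (CommRingCat.of Ω) ⟶ T.left) ≫ i.left
        refine ((Category.assoc _ _ _).trans (congrArg (_ ≫ ·) (bcTot_map_fst c ((incl Y l).map i)))).trans ?_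
        exact (Category.assoc _ _ _).symm.trans (congrArg (· ≫ i.left) (pullback.lift_fst _ _ _))
      refine ⟨⟨C, y⟩, CategoryOfElements.homMk _ _ ((incl Y l).map i ≫ p) ?_, Subtype.ext ?_⟩
      · show Φ.fiber.map ((bcTot c).map ((incl Y l).map i ≫ p)) y = z
        rw [Functor.map_comp, Functor.map_comp, ConcreteCategory.comp_apply]
        exact (congrArg _ hy).trans hz₁
      · show ((incl Y l).map i ≫ p) ≫ f = ((incl Y l).map i ≫ p) ≫ g
        rw [Category.assoc, Category.assoc, ← hφ, ← hγ, ← Category.assoc, ← Category.assoc,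
          ← Functor.map_comp, ← Functor.map_comp, hiq']⟩
  have : Nonempty (bcTot c ⋙ Φ.fiber).Elements := by
    obtain ⟨B, -, h, w, hw⟩ := exists_staged_nbhd hc (EtCoh.top c.pt) (ξ.base default)
    obtain ⟨z, -, -⟩ := EtFound.exists_lift_point h
      (CategoryTheory.Over.homMk ξ (Category.comp_id _) : Φ.fiber.obj (EtCoh.top c.pt)) w hw
    exact ⟨⟨B, z⟩⟩
  exact ⟨⟩

section germs

variable {Ω : Type u} [Field Ω] [IsSepClosed Ω] (ξ : Spec (CommRingCat.of Ω) ⟶ c.pt)
  (F : (Tot Y)ᵒᵖ ⥤ AddCommGrpCat.{u + 1})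

/-- functions on the fibre -/
noncomputable def fiberFun (T : AddCommGrpCat.{u + 1}) : c.pt.Etaleᵒᵖ ⥤ AddCommGrpCat.{u + 1} where
  obj V := ∏ᶜ fun _ : (Scheme.pointSmallEtale ξ).fiber.obj V.unop => T
  map g := Pi.lift fun v => Pi.π _ ((Scheme.pointSmallEtale ξ).fiber.map g.unop v)
  map_id V := by
    refine Pi.hom_ext _ _ fun v => ?_
    simp
  map_comp g g' := by
    refine Pi.hom_ext _ _ fun v => ?_
    simp

/-- the diagram of staged germs -/
noncomputable abbrev germDiag :
    AsSmall.{u + 1} (bcTot c ⋙ (Scheme.pointSmallEtale ξ).fiber).Elementsᵒᵖ ⥤ AddCommGrpCat.{u + 1} :=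
  AsSmall.down ⋙ (CategoryOfElements.π (bcTot c ⋙ (Scheme.pointSmallEtale ξ).fiber)).op ⋙ F

/-- a staged germ -/
noncomputable def germι (B : Tot Y) (w : (Scheme.pointSmallEtale ξ).fiber.obj ((bcTot c).obj B)) :
    F.obj (op B) ⟶ colimit (germDiag ξ F) :=
  colimit.ι (germDiag ξ F) (AsSmall.up.obj (op ⟨B, w⟩))

theorem germι_w {B B' : Tot Y} (g : B' ⟶ B) (w : (Scheme.pointSmallEtale ξ).fiber.obj ((bcTot c).obj B')) :
    F.map g.op ≫ germι ξ F B' w =
      germι ξ F B ((Scheme.pointSmallEtale ξ).fiber.map ((bcTot c).map g) w) :=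
  colimit.w (germDiag ξ F) (AsSmall.up.map (CategoryOfElements.homMk
    (⟨B', w⟩ : (bcTot c ⋙ (Scheme.pointSmallEtale ξ).fiber).Elements)
    ⟨B, (Scheme.pointSmallEtale ξ).fiber.map ((bcTot c).map g) w⟩ g rfl).op)

/-- staged germs as functions on fibres -/
noncomputable def germβ : F ⟶ (bcTot c).op ⋙ fiberFun ξ (colimit (germDiag ξ F)) where
  app B := Pi.lift fun w => germι ξ F B.unop w
  naturality B B' g := by
    refine Pi.hom_ext _ _ fun w => ?_
    rw [Category.assoc, Category.assoc, Pi.lift_π]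
    refine (germι_w ξ F g.unop w).trans (Eq.symm ?_)
    refine (congrArg (_ ≫ ·) (Pi.lift_π _ w)).trans ?_
    exact Pi.lift_π _ _

/-- the map on the fibres of the left Kan extension -/
noncomputable def germd : colimPre c F ⟶ fiberFun ξ (colimit (germDiag ξ F)) :=
  (colimPre c F).descOfIsLeftKanExtension ((bcTot c).op.leftKanExtensionUnit F) _ (germβ ξ F)

/-- germs of the left Kan extension to staged germs -/
noncomputable def germδ : (Scheme.pointSmallEtale ξ).presheafFiber.obj (colimPre c F) ⟶ colimit (germDiag ξ F) :=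
  (Scheme.pointSmallEtale ξ).presheafFiberDesc (fun V v => (germd ξ F).app (op V) ≫ Pi.π _ v)
    (fun V W g v => by
      refine (NatTrans.naturality_assoc (germd ξ F) g.op _).trans (congrArg (_ ≫ ·) ?_)
      exact Pi.lift_π _ v)

/-- staged germs to germs of the left Kan extension -/
noncomputable def germε : colimit (germDiag ξ F) ⟶ (Scheme.pointSmallEtale ξ).presheafFiber.obj (colimPre c F) :=
  colimit.desc (germDiag ξ F)
    { pt := _
      ι :=
        { app := fun k => ((bcTot c).op.leftKanExtensionUnit F).app (op (AsSmall.down.obj k).unop.1) ≫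
            (Scheme.pointSmallEtale ξ).toPresheafFiber _ (AsSmall.down.obj k).unop.2 (colimPre c F)
          naturality := fun k k' g => by
            refine Eq.trans ?_ (Category.comp_id _).symm
            refine (NatTrans.naturality_assoc ((bcTot c).op.leftKanExtensionUnit F)
              ((CategoryOfElements.π (bcTot c ⋙ (Scheme.pointSmallEtale ξ).fiber)).op.map (AsSmall.down.map g)) _).trans
              (congrArg (_ ≫ ·) ?_)
            refine ((Scheme.pointSmallEtale ξ).toPresheafFiber_w ((bcTot c).map (AsSmall.down.map g).unop.1) _ _).trans ?_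
            exact congrArg (fun q => (Scheme.pointSmallEtale ξ).toPresheafFiber _ q (colimPre c F))
              (AsSmall.down.map g).unop.2 } }

theorem germι_ε (B : Tot Y) (w : (Scheme.pointSmallEtale ξ).fiber.obj ((bcTot c).obj B)) :
    germι ξ F B w ≫ germε ξ F = ((bcTot c).op.leftKanExtensionUnit F).app (op B) ≫
      (Scheme.pointSmallEtale ξ).toPresheafFiber _ w (colimPre c F) :=
  colimit.ι_desc _ _

theorem unit_germδ (B : Tot Y) (w : (Scheme.pointSmallEtale ξ).fiber.obj ((bcTot c).obj B)) :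
    ((bcTot c).op.leftKanExtensionUnit F).app (op B) ≫
      (Scheme.pointSmallEtale ξ).toPresheafFiber _ w (colimPre c F) ≫ germδ ξ F = germι ξ F B w := by
  refine (congrArg (_ ≫ ·) ((Scheme.pointSmallEtale ξ).toPresheafFiber_presheafFiberDesc _ _ _ w)).trans ?_
  refine (Category.assoc _ _ _).symm.trans ?_
  refine (congrArg (· ≫ Pi.π _ w) ((colimPre c F).descOfIsLeftKanExtension_fac_app
    ((bcTot c).op.leftKanExtensionUnit F) _ (germβ ξ F) (op B))).trans ?_
  exact Pi.lift_π _ w

theorem germδ_ε : germδ ξ F ≫ germε ξ F = 𝟙 _ := by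
  let Φ := Scheme.pointSmallEtale ξ
  let T := Φ.presheafFiber.obj (colimPre c F)
  let a : colimPre c F ⟶ fiberFun ξ T :=
    { app := fun V => Pi.lift fun v => (germd ξ F).app V ≫ Pi.π _ v ≫ germε ξ F
      naturality := fun V W g => by
        refine Pi.hom_ext _ _ fun v => ?_
        rw [Category.assoc, Category.assoc, Pi.lift_π]
        refine (NatTrans.naturality_assoc (germd ξ F) g _).trans (Eq.symm ?_)
        refine (congrArg (_ ≫ ·) (Pi.lift_π _ v)).trans ((Pi.lift_π _ _).trans ?_)
        exact congrArg (_ ≫ ·) ((congrArg (· ≫ germε ξ F) (Pi.lift_π _ v)).symm.trans (Category.assoc _ _ _)) }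
  let b : colimPre c F ⟶ fiberFun ξ T :=
    { app := fun V => Pi.lift fun v => Φ.toPresheafFiber V.unop v (colimPre c F)
      naturality := fun V W g => by
        refine Pi.hom_ext _ _ fun v => ?_
        rw [Category.assoc, Category.assoc, Pi.lift_π]
        refine (Φ.toPresheafFiber_w g.unop v _).trans (Eq.symm ?_)
        exact (congrArg (_ ≫ ·) (Pi.lift_π _ v)).trans (Pi.lift_π _ _) }
  have hab : a = b := by
    refine (colimPre c F).hom_ext_of_isLeftKanExtension ((bcTot c).op.leftKanExtensionUnit F) a b ?_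
    ext B : 2
    refine Pi.hom_ext _ _ fun w => ?_
    show (_ ≫ a.app _) ≫ Pi.π _ w = (_ ≫ b.app _) ≫ Pi.π _ w
    rw [Category.assoc, Category.assoc]
    refine (congrArg (_ ≫ ·) (Pi.lift_π _ w)).trans (Eq.symm ((congrArg (_ ≫ ·) (Pi.lift_π _ w)).trans ?_))
    refine (germι_ε ξ F B.unop w).symm.trans ?_
    rw [← unit_germδ ξ F B.unop w, Category.assoc, Category.assoc]
    refine congrArg (_ ≫ ·) ?_
    rw [← Category.assoc]
    refine Eq.trans ?_ (Category.assoc _ _ _)
    exact congrArg (· ≫ germε ξ F) (Φ.toPresheafFiber_presheafFiberDesc _ _ _ w)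
  refine Φ.presheafFiber_hom_ext fun V v => ?_
  rw [Category.comp_id, ← Category.assoc]
  refine (congrArg (· ≫ germε ξ F) (Φ.toPresheafFiber_presheafFiberDesc _ _ V v)).trans ?_
  refine (Category.assoc _ _ _).trans ?_
  exact (Pi.lift_π (fun v => (germd ξ F).app (op V) ≫ Pi.π _ v ≫ germε ξ F) v).symm.trans
    ((congrArg (fun q => q.app (op V) ≫ Pi.π _ v) hab).trans (Pi.lift_π _ v))

end germs

/-- germs of the completed system come from the stages, and vanish at a stage -/
theorem colimSys_isColim (hc : IsLimit c) (F : (Tot Y)ᵒᵖ ⥤ AddCommGrpCat.{u + 1})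
    (hF : ∀ k, Presheaf.IsSheaf (Y.obj k).smallEtaleTopology ((incl Y k).op ⋙ F)) :
    (colimSys c F hF).IsColim where
  surj Ω _ _ ξ U u s := by
    let Φ := Scheme.pointSmallEtale ξ
    let P := colimPre c F
    have := isCofiltered_elements hc Ω ξ
    obtain ⟨q, hq⟩ := (Φ.toPresheafFiber_map_bijective (toSheafify c.pt.smallEtaleTopology P)).2
      (Φ.toPresheafFiber U u ((sheafToPresheaf _ _).obj (colimSys c F hF).M) s)
    obtain ⟨k, t, ht⟩ := Concrete.colimit_exists_rep (germDiag ξ F) (germδ ξ F q)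
    refine ⟨(AsSmall.down.obj k).unop.1, (AsSmall.down.obj k).unop.2, t, Eq.trans ?_ hq⟩
    have h1 := congrArg (germε ξ F) ht
    rw [← ConcreteCategory.comp_apply, ← ConcreteCategory.comp_apply, germδ_ε, ConcreteCategory.id_apply] at h1
    rw [← h1]
    refine Eq.trans ?_ (congrArg _ ((ConcreteCategory.congr_hom
      (germι_ε ξ F (AsSmall.down.obj k).unop.1 (AsSmall.down.obj k).unop.2) t).trans
      (ConcreteCategory.comp_apply _ _ t)).symm)
    refine Eq.trans (congrArg _ (ConcreteCategory.comp_apply _ _ t)) ?_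
    exact (Φ.toPresheafFiber_naturality_apply (toSheafify c.pt.smallEtaleTopology P) _ _ _).symm
  inj Ω _ _ ξ A z t h := by
    let Φ := Scheme.pointSmallEtale ξ
    let P := colimPre c F
    have := isCofiltered_elements hc Ω ξ
    have h0 : Φ.toPresheafFiber _ z P (((bcTot c).op.leftKanExtensionUnit F).app (op A) t) = 0 := by
      refine (Φ.toPresheafFiber_map_bijective (toSheafify c.pt.smallEtaleTopology P)).1 ?_
      rw [Φ.toPresheafFiber_naturality_apply, map_zero]
      exact h
    have hι : germι ξ F A z t = 0 := by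
      rw [← unit_germδ ξ F A z]
      exact (congrArg (germδ ξ F) h0).trans (map_zero _)
    obtain ⟨k, g, g', hg⟩ := Concrete.colimit_exists_of_rep_eq (germDiag ξ F)
      (i := AsSmall.up.obj (op ⟨A, z⟩)) (j := AsSmall.up.obj (op ⟨A, z⟩)) t 0
      (hι.trans (map_zero (germι ξ F A z).hom).symm)
    obtain ⟨f, hf⟩ := (AsSmall.down.map g).unop
    exact ⟨(AsSmall.down.obj k).unop.1, (AsSmall.down.map g).unop.1, (AsSmall.down.obj k).unop.2,
      (AsSmall.down.map g).unop.2, hg.trans (map_zero _)⟩

end Groth.Agent.EtLimCore
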