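import Groth.Agent.EtLimCore.Glue

/-!
# Staged coverings of a limit come from coverings at a stage
-/

set_option autoImplicit false
set_option maxHeartbeats 800000

universe u

open CategoryTheory CategoryTheory.Limits AlgebraicGeometry Opposite TopologicalSpace

namespace Groth.Agent.EtLimCore

set_option backward.isDefEq.respectTransparency false
set_option backward.isDefEq.respectTransparency.types false

variable {I : Type u} [SmallCategory I] {Y : I ⥤ Scheme.{u}} {c : Cone Y}
  [∀ {i j : I} (f : i ⟶ j), IsAffineHom (Y.map f)] [IsCofiltered I]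

/-- jointly surjective staged morphisms onto the limit cover some later stage -/
theorem exists_stage_cover (hc : IsLimit c) {A : Tot Y} (hA : EtFound.IsQcqsObj A.obj)
    (B : ((bcTot c).obj A).left → Tot Y) (hB : ∀ x, IsAffine (B x).obj.left) (f : ∀ x, B x ⟶ A)
    (hx : ∀ x, x ∈ Set.range ((bcTot c).map (f x)).left.base) :
    ∃ (n : Over A.st) (K : Finset ((bcTot c).obj A).left) (u : ∀ x : K, n.left ⟶ (B x.1).st)
      (e : ∀ x : K, (bcObj (B x.1) (u x)).obj ⟶ (bcObj A n.hom).obj),
      (∀ x : K, (incl Y n.left).map (e x) ≫ proj A n.hom = proj (B x.1) (u x) ≫ f x.1) ∧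
      (∀ x : K, IsAffine (bcObj (B x.1) (u x)).obj.left) ∧
      Sieve.ofArrows _ e ∈ (Y.obj n.left).smallEtaleTopology (bcObj A n.hom).obj := by
  classical
  have hcomp : CompactSpace ((bcTot c).obj A).left :=
    have : ∀ {i j : Over A.st} (f : i ⟶ j), IsAffineHom ((diag A).map f) := fun f => isAffineHom_diag_map A f
    have : ∀ n : Over A.st, CompactSpace ((diag A).obj n) := fun n => (isQcqsObj_bcObj hA n.hom).1
    Scheme.compactSpace_of_isLimit (diag A) (diagCone c A) (isLimitDiagCone hc A)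
  obtain ⟨K, hK⟩ := (isCompact_univ (X := ↥((bcTot c).obj A).left)).elim_finite_subcover
    (fun x => Set.range ((bcTot c).map (f x)).left.base)
    (fun x => by
      have : AlgebraicGeometry.Etale ((bcTot c).map (f x)).left := EtFound.etale_left _
      exact ((bcTot c).map (f x)).left.isOpenMap.isOpen_range)
    (fun x _ => Set.mem_iUnion_of_mem x (hx x))
  obtain ⟨N, hN⟩ := IsCofiltered.inf_objs_exists (insert (Over.mk (𝟙 A.st)) (K.image fun x => Over.mk (f x).a))
  have hu : ∀ x : K, ∃ u : N.left ⟶ (B x.1).st, u ≫ (f x.1).a = N.hom := fun x => by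
    obtain ⟨g⟩ := hN (Finset.mem_insert_of_mem (Finset.mem_image_of_mem (fun x => Over.mk (f x).a) x.2))
    exact ⟨g.left, Over.w g⟩
  choose u hu using hu
  let r : ∀ x : K, (bcObj (B x.1) (u x)).obj ⟶ (bcObj A N.hom).obj := fun x =>
    MorphismProperty.Over.homMk (pullback.lift (pullback.fst (B x.1).obj.hom (Y.map (u x)) ≫ (f x.1).g)
      (pullback.snd (B x.1).obj.hom (Y.map (u x)))
      (by rw [Category.assoc, (f x.1).w, pullback.condition_assoc, ← Y.map_comp, hu x]))
      (pullback.lift_snd _ _ _)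
  have hcomm : ∀ x : K, ((bcTot c).map (f x.1)).left ≫ toStage c A N.hom = toStage c (B x.1) (u x) ≫ (r x).left :=
    fun x => bcTot_map_toStage (f x.1) N.hom (u x) (hu x) (r x).left (pullback.lift_fst _ _ _) (pullback.lift_snd _ _ _)
  let U : ((diag A).obj N).Opens := ⟨⋃ x : K, Set.range (r x).left.base, isOpen_iUnion fun x => by
    have : AlgebraicGeometry.Etale (r x).left := EtFound.etale_left _
    exact (r x).left.isOpenMap.isOpen_range⟩
  obtain ⟨n, v, hv⟩ := exists_stage_top hc A hA N U fun x => by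
    obtain ⟨j, hj, y, hy⟩ : ∃ j ∈ K, x ∈ Set.range ((bcTot c).map (f j)).left.base := by
      have := hK (Set.mem_univ x)
      simp only [Set.mem_iUnion] at this
      obtain ⟨j, hj, hxj⟩ := this
      exact ⟨j, hj, hxj⟩
    refine Set.mem_iUnion.2 ⟨⟨j, hj⟩, (toStage c (B j) (u ⟨j, hj⟩)).base y, ?_⟩
    refine (Scheme.Hom.comp_apply _ _ _).symm.trans ?_
    rw [← hcomm ⟨j, hj⟩, Scheme.Hom.comp_apply]
    exact congrArg (toStage c A N.hom).base hy
  have hn : ∀ x : K, (v.left ≫ u x) ≫ (f x.1).a = n.hom := fun x => by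
    rw [Category.assoc, hu x, Over.w v]
  let e : ∀ x : K, (bcObj (B x.1) (v.left ≫ u x)).obj ⟶ (bcObj A n.hom).obj := fun x =>
    MorphismProperty.Over.homMk (pullback.lift (pullback.fst (B x.1).obj.hom (Y.map (v.left ≫ u x)) ≫ (f x.1).g)
      (pullback.snd (B x.1).obj.hom (Y.map (v.left ≫ u x)))
      (by rw [Category.assoc, (f x.1).w, pullback.condition_assoc, ← Y.map_comp, hn x]))
      (pullback.lift_snd _ _ _)
  refine ⟨n, K, fun x => v.left ≫ u x, e, fun x =>
    hom_ext' ((Category.id_comp _).trans (hn x).symm) (pullback.lift_fst _ _ _), fun x => ?_, ?_⟩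
  · have : IsAffine ((𝟭 Scheme.{u}).obj (B x.1).obj.left) := hB x.1
    have : IsAffineHom (pullback.fst (B x.1).obj.hom (Y.map (v.left ≫ u x))) :=
      MorphismProperty.pullback_fst (P := @IsAffineHom) _ _ inferInstance
    exact isAffine_of_isAffineHom (pullback.fst (B x.1).obj.hom (Y.map (v.left ≫ u x)))
  rw [EtFound.mem_topology_iff]
  intro q
  obtain ⟨x, b, hb⟩ := Set.mem_iUnion.1 (hv q)
  obtain ⟨Ω, _, _, η, hη⟩ := EtFound.exists_geomPoint (X := (bcObj A n.hom).obj.left) q
  have : AlgebraicGeometry.Etale (r x).left := EtFound.etale_left _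
  obtain ⟨lb, hlb, -⟩ := Scheme.exists_fac_of_etale_of_isSepClosed (r x).left (η ≫ (diag A).map v) b (by
    rw [hb, Scheme.Hom.comp_apply]
    exact congrArg ((diag A).map v).base hη.symm)
  have hfst : lb ≫ pullback.fst (B x.1).obj.hom (Y.map (u x)) ≫ (f x.1).g =
      η ≫ pullback.fst A.obj.hom (Y.map n.hom) := by
    have h1 := congrArg (· ≫ pullback.fst A.obj.hom (Y.map N.hom)) hlb
    simp only [Category.assoc] at h1
    refine Eq.trans ?_ (h1.trans (congrArg (η ≫ ·) (pullback.lift_fst _ _ _)))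
    exact congrArg (lb ≫ ·) (pullback.lift_fst _ _ _).symm
  have hsnd : (lb ≫ pullback.fst (B x.1).obj.hom (Y.map (u x))) ≫ (B x.1).obj.hom =
      (η ≫ pullback.snd A.obj.hom (Y.map n.hom)) ≫ Y.map (v.left ≫ u x) := by
    have h1 := congrArg (· ≫ pullback.snd A.obj.hom (Y.map N.hom)) hlb
    simp only [Category.assoc] at h1
    rw [Category.assoc, pullback.condition, Y.map_comp]
    have h2 : lb ≫ pullback.snd (B x.1).obj.hom (Y.map (u x)) =
        η ≫ pullback.snd A.obj.hom (Y.map n.hom) ≫ Y.map v.left :=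
      (congrArg (lb ≫ ·) (pullback.lift_snd _ _ _).symm).trans
        (h1.trans (congrArg (η ≫ ·) (pullback.lift_snd _ _ _)))
    simp only [← Category.assoc] at h2 ⊢
    rw [h2]
  let p := pullback.lift (lb ≫ pullback.fst (B x.1).obj.hom (Y.map (u x))) (η ≫ pullback.snd A.obj.hom (Y.map n.hom)) hsnd
  refine ⟨_, e x, p.base default, ⟨_, 𝟙 _, e x, ⟨x⟩, Category.id_comp _⟩, ?_⟩
  refine (Scheme.Hom.comp_apply _ _ _).symm.trans ?_
  refine (congrArg (fun k : Spec (CommRingCat.of Ω) ⟶ (bcObj A n.hom).obj.left => k.base default)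
    (?_ : p ≫ (e x).left = η)).trans hη
  apply pullback.hom_ext (f := A.obj.hom) (g := Y.map n.hom)
  · refine ((Category.assoc _ _ _).trans (congrArg (p ≫ ·) (pullback.lift_fst _ _ _))).trans ?_
    exact ((Category.assoc _ _ _).symm.trans (congrArg (· ≫ (f x.1).g) (pullback.lift_fst _ _ _))).trans
      ((Category.assoc _ _ _).trans hfst)
  · exact ((Category.assoc _ _ _).trans (congrArg (p ≫ ·) (pullback.lift_snd _ _ _))).trans
      (pullback.lift_snd _ _ _)

end Groth.Agent.EtLimCore
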