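import Groth.Agent.EtLimCore.Transfer
import Groth.Agent.EtFound.PullGerm

/-!
# Systems given by compatible maps between the stages
-/

set_option autoImplicit false
set_option maxHeartbeats 800000

universe u

open CategoryTheory CategoryTheory.Limits AlgebraicGeometry Opposite TopologicalSpace CategoryTheory.Abelian

namespace Groth.Agent.EtLimCore

set_option backward.isDefEq.respectTransparency false
set_option backward.isDefEq.respectTransparency.types false

variable {I : Type u} [SmallCategory I] {Y : I ⥤ Scheme.{u}} (c : Cone Y)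

/-- the comparison of iterated base changes -/
noncomputable def bcc {k l m : I} (a : l ⟶ k) (b : m ⟶ l) (W : (Y.obj k).Etale) :
    (EtCoh.bc (Y.map b)).obj ((EtCoh.bc (Y.map a)).obj W) ⟶ (EtCoh.bc (Y.map (b ≫ a))).obj W :=
  factor (proj (bcObj (⟨k, W⟩ : Tot Y) a) b ≫ proj (⟨k, W⟩ : Tot Y) a)

/-- sheaves on the stages with compatible maps -/
structure Data : Type (u + 2) where
  /-- the sheaf at a stage -/
  G : ∀ k, EtCoh.Ab (Y.obj k)
  /-- the transition maps -/
  φ : ∀ {k l : I} (a : l ⟶ k), G k ⟶ (EtCoh.push (Y.map a)).obj (G l)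
  /-- the sheaf on the limit -/
  M : EtCoh.Ab c.pt
  /-- the maps to the limit -/
  ψ : ∀ k, G k ⟶ (EtCoh.push (c.π.app k)).obj M
  φ_id : ∀ (k : I) (W : (Y.obj k).Etale),
    (φ (𝟙 k)).hom.app (op W) ≫ (G k).obj.map (factor (𝟙 (⟨k, W⟩ : Tot Y))).op = 𝟙 _
  φ_comp : ∀ {k l m : I} (a : l ⟶ k) (b : m ⟶ l) (W : (Y.obj k).Etale),
    (φ (b ≫ a)).hom.app (op W) ≫ (G m).obj.map (bcc a b W).op =
      (φ a).hom.app (op W) ≫ (φ b).hom.app (op ((EtCoh.bc (Y.map a)).obj W))
  ψ_comp : ∀ {k l : I} (a : l ⟶ k) (W : (Y.obj k).Etale),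
    (ψ k).hom.app (op W) ≫ M.obj.map ((bcTot c).map (proj (⟨k, W⟩ : Tot Y) a)).op =
      (φ a).hom.app (op W) ≫ (ψ l).hom.app (op ((EtCoh.bc (Y.map a)).obj W))

variable {c}

theorem factor_natural {A : Tot Y} {l : I} (a : l ⟶ A.st) : factor (proj A a) = 𝟙 (bcObj A a).obj :=
  MorphismProperty.Over.Hom.ext (pullback.hom_ext
    ((pullback.lift_fst _ _ _).trans (Category.id_comp _).symm)
    ((pullback.lift_snd _ _ _).trans (Category.id_comp _).symm))

theorem factor_comp {A B C : Tot Y} (f : B ⟶ A) (g : C ⟶ B) :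
    factor (g ≫ f) = factor g ≫ (EtCoh.bc (Y.map g.a)).map (factor f) ≫ bcc f.a g.a A.obj := by
  refine MorphismProperty.Over.Hom.ext ?_
  apply pullback.hom_ext (f := A.obj.hom) (g := Y.map (g.a ≫ f.a))
  · refine (pullback.lift_fst _ _ _).trans (Eq.symm ?_)
    show ((factor g).left ≫ ((EtCoh.bc (Y.map g.a)).map (factor f)).left ≫ (bcc f.a g.a A.obj).left) ≫ _ = _
    simp only [Category.assoc]
    refine (congrArg (fun q => _ ≫ _ ≫ q) (pullback.lift_fst _ _ _)).trans ?_
    show (factor g).left ≫ ((EtCoh.bc (Y.map g.a)).map (factor f)).left ≫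
      pullback.fst (bcObj A f.a).obj.hom (Y.map g.a) ≫ pullback.fst A.obj.hom (Y.map f.a) = g.g ≫ f.g
    rw [← Category.assoc ((EtCoh.bc (Y.map g.a)).map (factor f)).left, (EtCoh.isPullback_bc_map _ (factor f)).w]
    simp only [← Category.assoc]
    refine (congrArg (fun q => (q ≫ (factor f).left) ≫ _) (pullback.lift_fst _ _ _)).trans ?_
    exact (Category.assoc _ _ _).trans (congrArg (g.g ≫ ·) (pullback.lift_fst _ _ _))
  · exact (MorphismProperty.Over.w (factor (g ≫ f))).trans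
      (MorphismProperty.Over.w (factor g ≫ (EtCoh.bc (Y.map g.a)).map (factor f) ≫ bcc f.a g.a A.obj)).symm

variable (D : Data c)

/-- the presheaf on the total site of data -/
noncomputable def Data.pre : (Tot Y)ᵒᵖ ⥤ AddCommGrpCat.{u + 1} where
  obj A := (D.G A.unop.st).obj.obj (op A.unop.obj)
  map {A B} f := (D.φ f.unop.a).hom.app (op A.unop.obj) ≫ (D.G B.unop.st).obj.map (factor f.unop).op
  map_id A := D.φ_id A.unop.st A.unop.obj
  map_comp {A B C} f g := by
    show (D.φ (g.unop.a ≫ f.unop.a)).hom.app (op A.unop.obj) ≫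
      (D.G C.unop.st).obj.map (factor (g.unop ≫ f.unop)).op = _
    have hnat : (D.φ g.unop.a).hom.app (op (bcObj A.unop f.unop.a).obj) ≫
        (D.G C.unop.st).obj.map ((EtCoh.bc (Y.map g.unop.a)).map (factor f.unop)).op =
        (D.G B.unop.st).obj.map (factor f.unop).op ≫ (D.φ g.unop.a).hom.app (op B.unop.obj) :=
      ((D.φ g.unop.a).hom.naturality (factor f.unop).op).symm
    refine (congrArg (fun q => (D.φ (g.unop.a ≫ f.unop.a)).hom.app (op A.unop.obj) ≫
      (D.G C.unop.st).obj.map (Quiver.Hom.op q)) (factor_comp f.unop g.unop)).trans ?_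
    refine (congrArg (_ ≫ ·) (((D.G C.unop.st).obj.map_comp
      ((bcc f.unop.a g.unop.a A.unop.obj).op ≫ ((EtCoh.bc (Y.map g.unop.a)).map (factor f.unop)).op)
      (factor g.unop).op).trans (congrArg (· ≫ _) ((D.G C.unop.st).obj.map_comp _ _)))).trans ?_
    refine (Category.assoc _ _ _).symm.trans ?_
    refine (congrArg (· ≫ _) ((Category.assoc _ _ _).symm.trans
      ((congrArg (· ≫ _) (D.φ_comp f.unop.a g.unop.a A.unop.obj)).trans
        ((Category.assoc _ _ _).trans (congrArg (_ ≫ ·) hnat))))).trans ?_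
    exact (congrArg (· ≫ _) (Category.assoc _ _ _).symm).trans (Category.assoc _ _ _)

theorem Data.pre_incl {k : I} {W W' : (Y.obj k).Etale} (h : W ⟶ W') :
    D.pre.map ((incl Y k).map h).op = (D.G k).obj.map h.op := by
  have e : factor ((incl Y k).map h) = h ≫ factor (𝟙 (⟨k, W'⟩ : Tot Y)) := by
    refine MorphismProperty.Over.Hom.ext ?_
    apply pullback.hom_ext (f := W'.hom) (g := Y.map (𝟙 k))
    · refine (pullback.lift_fst _ _ _).trans (Eq.symm ?_)
      refine ((Category.assoc _ _ _).trans (congrArg (h.left ≫ ·) (pullback.lift_fst _ _ _))).trans ?_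
      exact Category.comp_id _
    · exact (MorphismProperty.Over.w (factor ((incl Y k).map h))).trans
        (MorphismProperty.Over.w (h ≫ factor (𝟙 (⟨k, W'⟩ : Tot Y)))).symm
  show (D.φ (𝟙 k)).hom.app (op W') ≫ (D.G k).obj.map (factor ((incl Y k).map h)).op = _
  rw [e, op_comp, Functor.map_comp]
  refine (Category.assoc _ _ _).symm.trans ?_
  refine (congrArg (· ≫ _) (D.φ_id k W')).trans (Category.id_comp _)

theorem Data.pre_proj (A : Tot Y) {l : I} (a : l ⟶ A.st) :
    D.pre.map (proj A a).op = (D.φ a).hom.app (op A.obj) := by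
  show _ ≫ (D.G l).obj.map (factor (proj A a)).op = _
  refine (congrArg (fun q => _ ≫ (D.G l).obj.map (Quiver.Hom.op q)) (factor_natural a)).trans ?_
  refine (congrArg (_ ≫ ·) ((D.G l).obj.map_id (op (bcObj A a).obj))).trans ?_
  exact Category.comp_id _

/-- the stage of data as a presheaf -/
noncomputable def Data.preIso (k : I) : (D.G k).obj ≅ (incl Y k).op ⋙ D.pre :=
  NatIso.ofComponents (fun W => Iso.refl _) (fun {W W'} h => by
    refine (Category.comp_id _).trans (Eq.trans ?_ (Category.id_comp _).symm)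
    exact (D.pre_incl h.unop).symm)

/-- the system of data -/
noncomputable def Data.sys : Sys c where
  F := D.pre
  isSheaf k := (Presheaf.isSheaf_of_iso_iff (D.preIso k)).1 (D.G k).property
  M := D.M
  ψ :=
    { app := fun A => (D.ψ A.unop.st).hom.app (op A.unop.obj)
      naturality := fun A B f => by
        show ((D.φ f.unop.a).hom.app (op A.unop.obj) ≫ (D.G B.unop.st).obj.map (factor f.unop).op) ≫ _ =
          _ ≫ D.M.obj.map ((bcTot c).map f.unop).op
        refine ((Category.assoc _ _ _).trans (congrArg (_ ≫ ·) ((D.ψ B.unop.st).hom.naturality _))).trans ?_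
        refine (Category.assoc _ _ _).symm.trans ((congrArg (· ≫ _) (D.ψ_comp f.unop.a A.unop.obj).symm).trans ?_)
        refine (Category.assoc _ _ _).trans (congrArg (_ ≫ ·) ?_)
        refine (D.M.obj.map_comp _ _).symm.trans (congrArg (fun q => D.M.obj.map (Quiver.Hom.op q)) ?_)
        exact (((congrArg (· ≫ _) (bcTot_map_incl c B.unop.st (factor f.unop)).symm).trans
          ((bcTot c).map_comp _ _).symm).trans (congrArg (bcTot c).map (factor_fac f.unop))) }

/-- the stage of the system of data -/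
noncomputable def Data.iso (k : I) : D.G k ≅ D.sys.sheaf k :=
  (fullyFaithfulSheafToPresheaf (Y.obj k).smallEtaleTopology AddCommGrpCat.{u + 1}).preimageIso (D.preIso k)

theorem Data.iso_φ {k l : I} (a : l ⟶ k) :
    (D.iso k).hom ≫ D.sys.φ a = D.φ a ≫ (EtCoh.push (Y.map a)).map (D.iso l).hom := by
  refine Sheaf.hom_ext (J := (Y.obj k).smallEtaleTopology) ?_
  ext W : 2
  show 𝟙 _ ≫ D.pre.map (proj (⟨k, W.unop⟩ : Tot Y) a).op = (D.φ a).hom.app W ≫ 𝟙 _
  rw [Category.id_comp, Category.comp_id, D.pre_proj]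

theorem Data.iso_ψ (k : I) : (D.iso k).hom ≫ D.sys.ψ' k = D.ψ k := by
  refine Sheaf.hom_ext (J := (Y.obj k).smallEtaleTopology) ?_
  ext W : 2
  exact Category.id_comp _

/-- the adjunct of the map to the limit -/
noncomputable abbrev Data.ψt (k : I) : (EtCoh.pull (c.π.app k)).obj (D.G k) ⟶ D.M :=
  ((EtCoh.pullPushAdj (c.π.app k)).homEquiv _ _).symm (D.ψ k)

/-- germs of the limit map -/
theorem Data.stalk_ψt {k : I} {Ω : Type u} [Field Ω] [IsSepClosed Ω] {ξ : Spec (CommRingCat.of Ω) ⟶ c.pt}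
    (W : (Y.obj k).Etale) (z : (Scheme.pointSmallEtale ξ).fiber.obj ((EtCoh.bc (c.π.app k)).obj W))
    (t : (D.G k).obj.obj (op W)) :
    (EtCoh.stalk ξ).map (D.ψt k) ((EtFound.sheafFiberPullIso (A := AddCommGrpCat.{u + 1}) (c.π.app k) ξ).inv.app (D.G k)
      ((Scheme.pointSmallEtale (ξ ≫ c.π.app k)).toPresheafFiber W (EtFound.bcFiberEquiv (c.π.app k) ξ W z) (D.G k).obj t)) =
    (Scheme.pointSmallEtale ξ).toPresheafFiber ((EtCoh.bc (c.π.app k)).obj W) z D.M.obj ((D.ψ k).hom.app (op W) t) := by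
  have h1 := ConcreteCategory.congr_hom (EtFound.sheafFiberPullIso_germ (A := AddCommGrpCat.{u + 1})
    (c.π.app k) ξ (D.G k) W z) t
  rw [ConcreteCategory.comp_apply, ConcreteCategory.comp_apply] at h1
  refine (congrArg ((EtCoh.stalk ξ).map (D.ψt k)) h1).trans ?_
  refine ((Scheme.pointSmallEtale ξ).toPresheafFiber_naturality_apply (D.ψt k).hom _ z _).trans (congrArg _ ?_)
  refine (ConcreteCategory.comp_apply _ _ t).symm.trans ?_
  refine ConcreteCategory.congr_hom (?_ : _ = (D.ψ k).hom.app (op W)) t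
  have e := ((EtCoh.pullPushAdj (c.π.app k)).homEquiv (D.G k) D.M).apply_symm_apply (D.ψ k)
  rw [Adjunction.homEquiv_unit] at e
  exact congrArg (fun q => q.hom.app (op W)) e

theorem map_fiber_refine {k l : I} {Ω : Type u} [Field Ω] [IsSepClosed Ω] {ξ : Spec (CommRingCat.of Ω) ⟶ c.pt}
    {A : Tot Y} (hk : A.st = k) (a : l ⟶ A.st) {z : (Scheme.pointSmallEtale ξ).fiber.obj ((bcTot c).obj A)}
    {V : (Y.obj l).Etale} (r : V ⟶ (bcObj A a).obj) {v : (Scheme.pointSmallEtale (ξ ≫ c.π.app l)).fiber.obj V}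
    (hr : (Scheme.pointSmallEtale (ξ ≫ c.π.app l)).fiber.map r v = downTo a z) :
    (Scheme.pointSmallEtale ξ).fiber.map ((bcTot c).map ((incl Y l).map r ≫ proj A a))
      ((EtFound.bcFiberEquiv (c.π.app l) ξ V).symm v) = z := by
  subst hk
  refine (EtFound.bcFiberEquiv (c.π.app A.st) ξ A.obj).injective (CategoryTheory.Over.OverMorphism.ext ?_)
  let y := (EtFound.bcFiberEquiv (c.π.app l) ξ V).symm v
  show ((y.left : Spec (CommRingCat.of Ω) ⟶ _) ≫ ((bcTot c).map ((incl Y l).map r ≫ proj A a)).left) ≫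
      pullback.fst A.obj.hom (c.π.app A.st) =
    (z.left : Spec (CommRingCat.of Ω) ⟶ ((bcTot c).obj A).left) ≫ pullback.fst A.obj.hom (c.π.app A.st)
  rw [Category.assoc, bcTot_map_fst, ← Category.assoc]
  show ((y.left : Spec (CommRingCat.of Ω) ⟶ _) ≫ pullback.fst V.hom (c.π.app l)) ≫
      r.left ≫ pullback.fst A.obj.hom (Y.map a) = _
  have e0 : (y.left : Spec (CommRingCat.of Ω) ⟶ ((bcTot c).obj (⟨l, V⟩ : Tot Y)).left) ≫
      pullback.fst V.hom (c.π.app l) = (v.left : Spec (CommRingCat.of Ω) ⟶ V.left) := pullback.lift_fst _ _ _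
  refine ((congrArg (· ≫ (r.left ≫ pullback.fst A.obj.hom (Y.map a))) e0).trans (Category.assoc _ _ _).symm).trans ?_
  refine (congrArg (· ≫ pullback.fst A.obj.hom (Y.map a)) (congrArg (fun k => k.left) hr)).trans ?_
  exact (Category.assoc _ _ _).trans (congrArg (_ ≫ ·) (toStage_fst A a))

/-- the criterion for the limit sheaf of data to be the colimit -/
theorem Data.isColim
    (hsurj : ∀ (Ω : Type u) [Field Ω] [IsSepClosed Ω] (ξ : Spec (CommRingCat.of Ω) ⟶ c.pt)
      (q : (EtCoh.stalk ξ).obj D.M),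
      ∃ (k : I) (x : (EtCoh.stalk ξ).obj ((EtCoh.pull (c.π.app k)).obj (D.G k))),
        (EtCoh.stalk ξ).map (D.ψt k) x = q)
    (hinj : ∀ (Ω : Type u) [Field Ω] [IsSepClosed Ω] (ξ : Spec (CommRingCat.of Ω) ⟶ c.pt) (k : I)
      (W : (Y.obj k).Etale) (z : (Scheme.pointSmallEtale ξ).fiber.obj ((EtCoh.bc (c.π.app k)).obj W))
      (t : (D.G k).obj.obj (op W)),
      (Scheme.pointSmallEtale ξ).toPresheafFiber ((EtCoh.bc (c.π.app k)).obj W) z D.M.obj
        ((D.ψ k).hom.app (op W) t) = 0 →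
      ((Scheme.pointSmallEtale (ξ ≫ c.π.app k)).toPresheafFiber W (EtFound.bcFiberEquiv (c.π.app k) ξ W z)
          (D.G k).obj t = 0 ∨
        ∃ (l : I) (a : l ⟶ k), (Scheme.pointSmallEtale (ξ ≫ c.π.app l)).toPresheafFiber
          ((EtCoh.bc (Y.map a)).obj W) (downTo (A := ⟨k, W⟩) a z) (D.G l).obj ((D.φ a).hom.app (op W) t) = 0)) :
    D.sys.IsColim where
  surj Ω _ _ ξ U u s := by
    obtain ⟨k, x, hx⟩ := hsurj Ω ξ ((Scheme.pointSmallEtale ξ).toPresheafFiber U u D.M.obj s)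
    obtain ⟨W, w, t, ht⟩ := (Scheme.pointSmallEtale (ξ ≫ c.π.app k)).toPresheafFiber_jointly_surjective
      ((EtFound.sheafFiberPullIso (A := AddCommGrpCat.{u + 1}) (c.π.app k) ξ).hom.app (D.G k) x)
    refine ⟨⟨k, W⟩, (EtFound.bcFiberEquiv (c.π.app k) ξ W).symm w, t, ?_⟩
    refine (D.stalk_ψt W _ t).symm.trans (Eq.trans ?_ hx)
    refine congrArg _ ?_
    rw [Equiv.apply_symm_apply]
    refine (congrArg _ ht).trans ?_
    exact (ConcreteCategory.comp_apply _ _ x).symm.trans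
      ((ConcreteCategory.congr_hom ((EtFound.sheafFiberPullIso (A := AddCommGrpCat.{u + 1}) (c.π.app k) ξ).hom_inv_id_app (D.G k)) x).trans
        (ConcreteCategory.id_apply x))
  inj Ω _ _ ξ A z t h := by
    obtain h1 | ⟨l, a, h1⟩ := hinj Ω ξ A.st A.obj z t h
    · rw [← map_zero ((Scheme.pointSmallEtale (ξ ≫ c.π.app A.st)).toPresheafFiber A.obj
        (EtFound.bcFiberEquiv (c.π.app A.st) ξ A.obj z) (D.G A.st).obj).hom] at h1
      obtain ⟨V, g, v, hv, hg⟩ := ((Scheme.pointSmallEtale (ξ ≫ c.π.app A.st)).toPresheafFiber_eq_iff' _ _ _ _).1 h1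
      rw [map_zero] at hg
      refine ⟨⟨A.st, V⟩, (incl Y A.st).map g, (EtFound.bcFiberEquiv (c.π.app A.st) ξ V).symm v, ?_, ?_⟩
      · refine (EtFound.bcFiberEquiv (c.π.app A.st) ξ A.obj).injective
          (Eq.trans (CategoryTheory.Over.OverMorphism.ext ?_) hv)
        show ((((EtFound.bcFiberEquiv (c.π.app A.st) ξ V).symm v).left : Spec (CommRingCat.of Ω) ⟶ _) ≫
            ((bcTot c).map ((incl Y A.st).map g)).left) ≫ pullback.fst A.obj.hom (c.π.app A.st) =
          (v.left : Spec (CommRingCat.of Ω) ⟶ V.left) ≫ g.left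
        refine ((Category.assoc _ _ _).trans (congrArg (_ ≫ ·) (bcTot_map_fst c ((incl Y A.st).map g)))).trans ?_
        exact (Category.assoc _ _ _).symm.trans (congrArg (· ≫ g.left) (pullback.lift_fst _ _ _))
      · exact (congrArg (fun q => q t) (D.pre_incl g)).trans hg
    · rw [← map_zero ((Scheme.pointSmallEtale (ξ ≫ c.π.app l)).toPresheafFiber (bcObj A a).obj
        (downTo a z) (D.G l).obj).hom] at h1
      obtain ⟨V, g, v, hv, hg⟩ := ((Scheme.pointSmallEtale (ξ ≫ c.π.app l)).toPresheafFiber_eq_iff' _ _ _ _).1 h1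
      rw [map_zero] at hg
      refine ⟨⟨l, V⟩, (incl Y l).map g ≫ proj A a, (EtFound.bcFiberEquiv (c.π.app l) ξ V).symm v,
        map_fiber_refine (k := A.st) rfl a g hv, ?_⟩
      show D.pre.map ((incl Y l).map g ≫ proj A a).op t = 0
      rw [op_comp, D.pre.map_comp, ConcreteCategory.comp_apply, D.pre_proj]
      exact (congrArg (fun q => q ((D.φ a).hom.app (op A.obj) t)) (D.pre_incl g)).trans hg

variable [∀ {i j : I} (f : i ⟶ j), IsAffineHom (Y.map f)] [IsCofiltered I]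
  [∀ j, PreservesFiniteLimits (EtCoh.pull (c.π.app j))]
  [∀ {i j : I} (f : i ⟶ j), PreservesFiniteLimits (EtCoh.pull (Y.map f))]
  [∀ i, CompactSpace (Y.obj i)] [∀ i, QuasiSeparatedSpace (Y.obj i)]

theorem Data.exists_H (hc : IsLimit c) (hD : D.sys.IsColim) (n : ℕ) (x : EtCoh.H c.pt D.M n) (k₀ : I) :
    ∃ (k : I) (_ : k ⟶ k₀) (ξ : EtCoh.H (Y.obj k) (D.G k) n),
      EtLim.HpullThen (c.π.app k) (D.G k) (D.ψt k) n ξ = x := by
  obtain ⟨k, a, ξ, hξ⟩ := D.sys.exists_H hc hD n x k₀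
  refine ⟨k, a, ξ.comp (Ext.mk₀ (D.iso k).inv) (add_zero n), ?_⟩
  refine (HpullThen_map (c.π.app k) (D.iso k).inv (D.ψt k) n ξ).trans (Eq.trans ?_ hξ)
  refine Eq.trans ?_ (HofPush_map (c.π.app k) (D.sys.ψ' k) n ξ).symm
  rw [Data.ψt, ← Adjunction.homEquiv_naturality_left_symm, (Iso.inv_comp_eq _).2 (D.iso_ψ k).symm]
  rfl

theorem Data.exists_H_eq_zero (hc : IsLimit c) (hD : D.sys.IsColim) (n : ℕ) (k : I)
    (ξ : EtCoh.H (Y.obj k) (D.G k) n) (h : EtLim.HpullThen (c.π.app k) (D.G k) (D.ψt k) n ξ = 0) :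
    ∃ (l : I) (a : l ⟶ k), EtLim.HpullThen (Y.map a) (D.G k)
      (((EtCoh.pullPushAdj (Y.map a)).homEquiv _ _).symm (D.φ a)) n ξ = 0 := by
  have h1 : EtLim.HofPush (c.π.app k) D.sys.M n (((EtCoh.HF (Y.obj k) n).map (D.sys.ψ' k)).hom
      (ξ.comp (Ext.mk₀ (D.iso k).hom) (add_zero n))) = 0 := by
    refine (HofPush_map (c.π.app k) (D.sys.ψ' k) n _).trans ((HpullThen_map _ (D.iso k).hom _ n ξ).trans ?_)
    rw [← Adjunction.homEquiv_naturality_left_symm, D.iso_ψ k]
    exact h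
  obtain ⟨l, a, ha⟩ := D.sys.exists_H_eq_zero hc hD n k _ h1
  refine ⟨l, a, ?_⟩
  have h2 := (HofPush_map (Y.map a) (D.sys.φ a) n _).symm.trans ha
  rw [HpullThen_map, ← Adjunction.homEquiv_naturality_left_symm, D.iso_φ a,
    Adjunction.homEquiv_naturality_right_symm, ← HpullThen_comp] at h2
  have h3 := congrArg (fun q => Ext.comp q (Ext.mk₀ (D.iso l).inv) (add_zero n)) h2
  simp only [Ext.zero_comp, Ext.comp_assoc_of_third_deg_zero, Ext.mk₀_comp_mk₀, Iso.hom_inv_id,
    Ext.comp_mk₀_id] at h3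
  exact h3

end Groth.Agent.EtLimCore
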