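import Groth.Agent.EtLimCore.Germs
import Groth.Agent.EtFound.PushOutside

/-!
# Sections of the limit sheaf over a quasi-compact quasi-separated étale scheme
-/

set_option autoImplicit false
set_option maxHeartbeats 400000

universe u

open CategoryTheory CategoryTheory.Limits AlgebraicGeometry Opposite TopologicalSpace

namespace Groth.Agent.EtLimCore

set_option backward.isDefEq.respectTransparency false
set_option backward.isDefEq.respectTransparency.types false

variable {I : Type u} [SmallCategory I] {Y : I ⥤ Scheme.{u}} {c : Cone Y}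

/-- sections with all germs equal are equal -/
theorem eq_of_germs {X : Scheme.{u}} (G : EtCoh.Ab X) {U : X.Etale} (a b : G.obj.obj (op U))
    (h : ∀ (Ω : Type u) (_ : Field Ω) (_ : IsSepClosed Ω) (ξ : Spec (CommRingCat.of Ω) ⟶ X)
      (z : (Scheme.pointSmallEtale ξ).fiber.obj U),
      (Scheme.pointSmallEtale ξ).toPresheafFiber U z G.obj a =
        (Scheme.pointSmallEtale ξ).toPresheafFiber U z G.obj b) : a = b :=
  (((isSheaf_iff_isSheaf_of_type _ _).1 ((sheafCompose X.smallEtaleTopology (forget AddCommGrpCat.{u + 1})).obj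
    G).property).isSeparated _ (EtFound.equalizerSieve_mem_of_germs G.obj U a b h)).ext fun _ _ hg => hg

variable (S : Sys c)

/-- the good locus of a section at a stage -/
noncomputable def good {A : Tot Y} (t : S.F.obj (op A)) (m : Over A.st) : ((diag A).obj m).Opens :=
  ⟨(EtFound.germSupp (S.sheaf m.left) (bcObj A m.hom).obj (S.F.map (proj A m.hom).op t))ᶜ,
    (EtFound.isClosed_germSupp (S.sheaf m.left) (bcObj A m.hom).obj _).isOpen_compl⟩

theorem mem_good_iff {A : Tot Y} (t : S.F.obj (op A)) (m : Over A.st) {Ω : Type u} [Field Ω] [IsSepClosed Ω]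
    {η : Spec (CommRingCat.of Ω) ⟶ Y.obj m.left} (z : (Scheme.pointSmallEtale η).fiber.obj (bcObj A m.hom).obj) :
    EtFound.ptOf z ∈ good S t m ↔
      (Scheme.pointSmallEtale η).toPresheafFiber (bcObj A m.hom).obj z (S.sheaf m.left).obj
        (S.F.map (proj A m.hom).op t) = 0 := by
  show EtFound.ptOf z ∈ (EtFound.germSupp _ _ _)ᶜ ↔ _
  rw [Set.mem_compl_iff, EtFound.mem_germSupp_iff]
  exact not_not

/-- the transition of base changes as a morphism of pairs -/
noncomputable def bcDiag (A : Tot Y) {m n : Over A.st} (f : n ⟶ m) : bcObj A n.hom ⟶ bcObj A m.hom :=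
  ⟨f.left, (diag A).map f, pullback.lift_snd _ _ _⟩

theorem bcDiag_proj (A : Tot Y) {m n : Over A.st} (f : n ⟶ m) : bcDiag A f ≫ proj A m.hom = proj A n.hom :=
  hom_ext' (Over.w f) (pullback.lift_fst _ _ _)

theorem good_mono {A : Tot Y} (t : S.F.obj (op A)) {m n : Over A.st} (f : n ⟶ m) :
    ∀ q, ((diag A).map f).base q ∈ good S t m → q ∈ good S t n := by
  intro q hq
  obtain ⟨Ω, _, _, η, z, rfl⟩ := EtFound.exists_algClosed_point (bcObj A n.hom).obj q
  rw [show ((z.left : Spec (CommRingCat.of Ω) ⟶ (bcObj A n.hom).obj.left).base (default : Spec (CommRingCat.of Ω))) =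
    EtFound.ptOf z from rfl, mem_good_iff]
  let zA : (Scheme.pointSmallEtale (η ≫ Y.map f.left)).fiber.obj (bcObj A m.hom).obj :=
    CategoryTheory.Over.homMk ((z.left : Spec (CommRingCat.of Ω) ⟶ (bcObj A n.hom).obj.left) ≫ (diag A).map f) (by
      refine ((Category.assoc _ _ _).trans (congrArg (_ ≫ ·) (bcDiag A f).w)).trans ?_
      exact (Category.assoc _ _ _).symm.trans (congrArg (· ≫ Y.map f.left) (CategoryTheory.Over.w z)))
  have hz : EtFound.ptOf zA ∈ good S t m :=
    Set.mem_of_eq_of_mem (s := ((good S t m : ((diag A).obj m).Opens) : Set ((diag A).obj m)))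
      (Scheme.Hom.comp_apply (z.left : Spec (CommRingCat.of Ω) ⟶ (bcObj A n.hom).obj.left) ((diag A).map f)
        (default : Spec (CommRingCat.of Ω))) hq
  rw [mem_good_iff] at hz
  have := germ_res_eq_zero S (bcDiag A f) (S.F.map (proj A m.hom).op t) z zA rfl hz
  rwa [← ConcreteCategory.comp_apply, ← S.F.map_comp, ← op_comp, bcDiag_proj] at this

theorem mem_good_of_map_eq_zero {A B : Tot Y} (t : S.F.obj (op A)) (f : B ⟶ A) (hf : S.F.map f.op t = 0)
    {Ω : Type u} [Field Ω] [IsSepClosed Ω] {ξ : Spec (CommRingCat.of Ω) ⟶ c.pt}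
    (y : (Scheme.pointSmallEtale ξ).fiber.obj ((bcTot c).obj B)) :
    (toStage c A f.a).base (((bcTot c).map f).left.base (EtFound.ptOf y)) ∈ good S t (Over.mk f.a) := by
  let Φ := Scheme.pointSmallEtale (ξ ≫ c.π.app B.st)
  let w := Φ.fiber.map (factor f) (down y)
  have hpt : EtFound.ptOf w = (toStage c A f.a).base (((bcTot c).map f).left.base (EtFound.ptOf y)) := by
    rw [← Scheme.Hom.comp_apply]
    refine (EtFound.ptOf_map _ _).trans ?_
    refine (congrArg _ (Scheme.Hom.comp_apply _ _ _)).trans ?_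
    refine (Scheme.Hom.comp_apply _ _ _).symm.trans ?_
    refine congrArg (fun k : _ ⟶ (bcObj A f.a).obj.left => k.base (EtFound.ptOf y)) ?_
    refine pullback.hom_ext ?_ ?_
    · refine ((Category.assoc _ _ _).trans (congrArg (_ ≫ ·) (pullback.lift_fst _ _ _))).trans (Eq.symm ?_)
      exact ((Category.assoc _ _ _).trans (congrArg (_ ≫ ·) (toStage_fst A f.a))).trans (bcTot_map_fst c f)
    · refine ((Category.assoc _ _ _).trans (congrArg (_ ≫ ·) (pullback.lift_snd _ _ _))).trans (Eq.symm ?_)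
      refine ((Category.assoc _ _ _).trans (congrArg (_ ≫ ·) (toStage_snd A f.a))).trans ?_
      refine (Category.assoc _ _ _).symm.trans ((congrArg (· ≫ c.π.app B.st) (bcTot_map_snd c f)).trans ?_)
      exact pullback.condition.symm
  rw [← hpt, mem_good_iff S t (Over.mk f.a) w]
  refine (Φ.toPresheafFiber_w_apply (factor f) (down y) (S.sheaf B.st).obj _).symm.trans ?_
  refine (congrArg _ ?_).trans (map_zero (Φ.toPresheafFiber B.obj (down y) (S.sheaf B.st).obj).hom)
  refine Eq.trans ?_ hf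
  show S.F.map ((incl Y B.st).map (factor f)).op (S.F.map (proj A f.a).op t) = S.F.map f.op t
  refine (ConcreteCategory.comp_apply (S.F.map (proj A f.a).op) (S.F.map ((incl Y B.st).map (factor f)).op) t).symm.trans ?_
  rw [← S.F.map_comp, ← op_comp, factor_fac]
  rfl

variable [IsCofiltered I] [∀ {i j : I} (f : i ⟶ j), IsAffineHom (Y.map f)]

/-- a section killed in the limit dies at a stage -/
theorem exists_eq_zero (hc : IsLimit c) (hS : S.IsColim) {A : Tot Y} (hA : EtFound.IsQcqsObj A.obj)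
    (t : S.F.obj (op A)) (ht : S.ψ.app (op A) t = 0) :
    ∃ (l : I) (a : l ⟶ A.st), S.F.map (proj A a).op t = 0 := by
  have key : ∀ x : (diagCone c A).pt, ∃ m : Over A.st, ((diagCone c A).π.app m).base x ∈ good S t m := by
    intro x
    obtain ⟨Ω, _, _, ξ, z, rfl⟩ := EtFound.exists_algClosed_point ((bcTot c).obj A) x
    obtain ⟨B, f, y, hy, hf⟩ := hS.inj Ω ξ A z t (by rw [ht, map_zero])
    refine ⟨Over.mk f.a, ?_⟩
    have := mem_good_of_map_eq_zero S t f hf y
    rw [← EtFound.ptOf_map, hy] at this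
    exact this
  have hcomp : CompactSpace (diagCone c A).pt :=
    have : ∀ {i j : Over A.st} (f : i ⟶ j), IsAffineHom ((diag A).map f) := fun f => isAffineHom_diag_map A f
    have : ∀ n : Over A.st, CompactSpace ((diag A).obj n) := fun n => (isQcqsObj_bcObj hA n.hom).1
    Scheme.compactSpace_of_isLimit (diag A) (diagCone c A) (isLimitDiagCone hc A)
  obtain ⟨T, hT⟩ := (isCompact_univ (X := ↥(diagCone c A).pt)).elim_finite_subcover
    (fun m : Over A.st => ((diagCone c A).π.app m).base ⁻¹' (good S t m : Set _))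
    (fun m => (good S t m).isOpen.preimage ((diagCone c A).π.app m).continuous)
    (fun x _ => by
      obtain ⟨m, hm⟩ := key x
      refine Set.mem_iUnion.2 ⟨m, ?_⟩
      exact hm)
  classical
  obtain ⟨m, hm⟩ := IsCofiltered.inf_objs_exists T
  obtain ⟨n, f, hf⟩ := exists_stage_top hc A hA m (good S t m) fun x => by
    obtain ⟨j, hj, hxj⟩ : ∃ j ∈ T, ((diagCone c A).π.app j).base x ∈ good S t j := by
      simpa using hT (Set.mem_univ x)
    obtain ⟨g⟩ := hm hj
    refine good_mono S t g _ ?_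
    rw [← Scheme.Hom.comp_apply, (diagCone c A).w g]
    exact hxj
  refine ⟨n.left, n.hom, eq_of_germs (S.sheaf n.left) (U := (bcObj A n.hom).obj) _ 0 fun Ω _ _ ξ z => ?_⟩
  rw [map_zero]
  exact (mem_good_iff S t n z).1 (good_mono S t f _ (hf _))

/-- local form of lifting sections -/
theorem exists_rep_local (hc : IsLimit c) (hS : S.IsColim) {A : Tot Y} (s : S.M.obj.obj (op ((bcTot c).obj A)))
    (x : ((bcTot c).obj A).left) :
    ∃ (B : Tot Y) (_ : IsAffine B.obj.left) (f : B ⟶ A) (t : S.F.obj (op B)),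
      x ∈ Set.range ((bcTot c).map f).left.base ∧ S.ψ.app (op B) t = S.M.obj.map ((bcTot c).map f).op s := by
  obtain ⟨Ω, _, _, ξ, z, rfl⟩ := EtFound.exists_algClosed_point ((bcTot c).obj A) x
  obtain ⟨B₀, z', t₀, ht₀⟩ := hS.surj Ω ξ _ z s
  obtain ⟨C, f, g, y, hyA, hyB⟩ := exists_common z z'
  let Φ := Scheme.pointSmallEtale ξ
  let t₁ := S.F.map g.op t₀
  let D := S.ψ.app (op C) t₁ - S.M.obj.map ((bcTot c).map f).op s
  have hD : Φ.toPresheafFiber _ y S.M.obj D = 0 := by
    rw [map_sub, sub_eq_zero]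
    have e1 : Φ.toPresheafFiber _ y S.M.obj (S.ψ.app (op C) t₁) =
        Φ.toPresheafFiber _ z' S.M.obj (S.ψ.app (op B₀) t₀) := by
      refine (congrArg _ (ConcreteCategory.congr_hom (S.ψ.naturality g.op) t₀)).trans ?_
      exact (Φ.toPresheafFiber_w_apply ((bcTot c).map g) y S.M.obj _).trans (by rw [hyB]; rfl)
    rw [e1, ht₀, ← hyA]
    exact (Φ.toPresheafFiber_w_apply ((bcTot c).map f) y S.M.obj s).symm
  let O : (diagCone c C).pt.Opens := ⟨(EtFound.germSupp S.M ((bcTot c).obj C) D)ᶜ,
    (EtFound.isClosed_germSupp S.M ((bcTot c).obj C) D).isOpen_compl⟩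
  obtain ⟨n, P, hP, hyP, hPO⟩ := exists_affine_stage_nbhd hc C O (EtFound.ptOf y)
    (fun h => (EtFound.mem_germSupp_iff D y).1 h hD)
  let B : Tot Y := ⟨n.left, EtFound.restrictEtale (bcObj C n.hom).obj P⟩
  let h : B ⟶ C := (incl Y n.left).map (EtFound.restrictEtaleHom (bcObj C n.hom).obj P) ≫ proj C n.hom
  let q := ((bcTot c).map h).left
  have hq : q ≫ toStage c C n.hom = pullback.fst B.obj.hom (c.π.app n.left) ≫ P.ι := by
    show ((bcTot c).map (_ ≫ _)).left ≫ toStage c C n.hom = _
    rw [Functor.map_comp]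
    refine ((Category.assoc _ _ _).trans (congrArg (_ ≫ ·) (bcTot_proj_toStage C n.hom))).trans ?_
    exact bcTot_map_fst c ((incl Y n.left).map (EtFound.restrictEtaleHom (bcObj C n.hom).obj P))
  refine ⟨B, hP, h ≫ f, S.F.map h.op t₁, ?_, ?_⟩
  · obtain ⟨e, he⟩ : ∃ e, ((bcTot c).map (proj C n.hom)).left.base e = EtFound.ptOf y :=
      ⟨(inv ((bcTot c).map (proj C n.hom))).left.base (EtFound.ptOf y), (Scheme.Hom.comp_apply _ _ _).symm.trans
        (congrArg (fun k : ((bcTot c).obj C).left ⟶ _ => k.base (EtFound.ptOf y))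
          ((congrArg (fun k => k.left) (IsIso.inv_hom_id ((bcTot c).map (proj C n.hom)))) :))⟩
    have sq := EtCoh.isPullback_bc_map (c.π.app n.left) (EtFound.restrictEtaleHom (bcObj C n.hom).obj P)
    have heP : (pullback.fst (bcObj C n.hom).obj.hom (c.π.app n.left)).base e ∈ P := by
      refine Set.mem_of_eq_of_mem (s := {q : (bcObj C n.hom).obj.left | q ∈ P})
        ((congrArg (fun k : _ ⟶ (bcObj C n.hom).obj.left => k.base e) (bcTot_proj_toStage C n.hom).symm).trans
          ((Scheme.Hom.comp_apply _ _ _).trans (congrArg _ he))) ?_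
      exact hyP
    obtain ⟨w, hw, -⟩ := Scheme.Pullback.exists_preimage_pullback
      (f := pullback.fst (bcObj C n.hom).obj.hom (c.π.app n.left)) (g := P.ι) e ⟨_, heP⟩ rfl
    refine ⟨sq.isoPullback.inv.base w, ?_⟩
    rw [Functor.map_comp, Functor.map_comp, bcTot_map_incl]
    show ((((EtCoh.bc (c.π.app n.left)).map (EtFound.restrictEtaleHom (bcObj C n.hom).obj P)).left ≫
      ((bcTot c).map (proj C n.hom)).left) ≫ ((bcTot c).map f).left).base _ = _
    rw [Scheme.Hom.comp_apply, Scheme.Hom.comp_apply, ← Scheme.Hom.comp_apply sq.isoPullback.inv]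
    have e1 : (sq.isoPullback.inv ≫
        ((EtCoh.bc (c.π.app n.left)).map (EtFound.restrictEtaleHom (bcObj C n.hom).obj P)).left).base w = e := by
      rw [sq.isoPullback_inv_fst]
      exact hw
    refine (congrArg ((bcTot c).map f).left.base ((congrArg ((bcTot c).map (proj C n.hom)).left.base e1).trans he)).trans ?_
    exact (EtFound.ptOf_map _ _).symm.trans (congrArg EtFound.ptOf hyA)
  · have e1 : S.ψ.app (op B) (S.F.map h.op t₁) = S.M.obj.map ((bcTot c).map h).op (S.ψ.app (op C) t₁) :=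
      ConcreteCategory.congr_hom (S.ψ.naturality h.op) t₁
    have e2 : S.M.obj.map ((bcTot c).map (h ≫ f)).op s =
        S.M.obj.map ((bcTot c).map h).op (S.M.obj.map ((bcTot c).map f).op s) :=
      (ConcreteCategory.congr_hom (show S.M.obj.map ((bcTot c).map (h ≫ f)).op =
        S.M.obj.map ((bcTot c).map f).op ≫ S.M.obj.map ((bcTot c).map h).op by
          rw [← S.M.obj.map_comp, ← op_comp, ← Functor.map_comp]) s).trans (ConcreteCategory.comp_apply _ _ s)
    rw [e1, e2]
    refine sub_eq_zero.1 ((map_sub (S.M.obj.map ((bcTot c).map h).op).hom _ _).symm.trans ?_)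
    refine eq_of_germs S.M _ 0 fun k _ _ ζ w => ?_
    rw [map_zero]
    refine ((Scheme.pointSmallEtale ζ).toPresheafFiber_w_apply ((bcTot c).map h) w S.M.obj D).trans ?_
    by_contra hne
    refine (hPO (x := EtFound.ptOf ((Scheme.pointSmallEtale ζ).fiber.map ((bcTot c).map h) w)) ?_)
      ((EtFound.mem_germSupp_iff D _).2 hne)
    show (toStage c C n.hom).base _ ∈ P
    rw [EtFound.ptOf_map, ← Scheme.Hom.comp_apply, hq, Scheme.Hom.comp_apply]
    exact Subtype.coe_prop _

end Groth.Agent.EtLimCore
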