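import Groth.Agent.EtLimCore.Cover
import Groth.Agent.EtLimCore.Basis
import Groth.Agent.EtLC12.QcqsAcyclic

/-!
# Vanishing of cohomology on a limit scheme from vanishing at the stages
-/

set_option autoImplicit false
set_option maxHeartbeats 800000

universe u

open CategoryTheory CategoryTheory.Limits AlgebraicGeometry Opposite TopologicalSpace Abelian

namespace Groth.Agent.EtLimCore

set_option backward.isDefEq.respectTransparency false
set_option backward.isDefEq.respectTransparency.types false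

open EtFound EtLC12.QcqsAcyclic

variable {I : Type u} [SmallCategory I] {Y : I ⥤ Scheme.{u}} {c : Cone Y}
  [∀ {i j : I} (f : i ⟶ j), IsAffineHom (Y.map f)] [IsCofiltered I]

variable (c) in
/-- no higher Čech cohomology after pushing forward to the stages -/
def IsLimAcyclic (G : EtCoh.Ab c.pt) : Prop :=
  ∀ j, IsCechAcyclic ((EtCoh.push (c.π.app j)).obj G)

omit [∀ {i j : I} (f : i ⟶ j), IsAffineHom (Y.map f)] [IsCofiltered I] in
theorem isLimAcyclic_of_injective [∀ j, PreservesFiniteLimits (EtCoh.pull (c.π.app j))] (G : EtCoh.Ab c.pt)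
    [Injective G] : IsLimAcyclic c G := fun j =>
  haveI : Functor.PreservesMonomorphisms (EtCoh.pull (c.π.app j)) := inferInstance
  haveI : Injective ((EtCoh.push (c.π.app j)).obj G) :=
    Injective.injective_of_adjoint (EtCoh.pullPushAdj (c.π.app j)) G
  isCechAcyclic_of_injective _

section

variable (T : ShortComplex (EtCoh.Ab c.pt)) (hT : T.ShortExact)

include hT

omit [∀ {i j : I} (f : i ⟶ j), IsAffineHom (Y.map f)] [IsCofiltered I] in
theorem secExact (W : c.pt.Etale) (y : T.X₂.obj.obj (op W)) (hy : (T.g.hom.app (op W)).hom y = 0) :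
    ∃ x, (T.f.hom.app (op W)).hom x = y :=
  haveI := hT.mono_f
  (SiteBase.secExact_iff T W).1 (hT.exact.map_of_mono_of_preservesKernel
    (sheafToPresheaf c.pt.smallEtaleTopology AddCommGrpCat.{u + 1} ⋙
      (evaluation c.pt.Etaleᵒᵖ AddCommGrpCat.{u + 1}).obj (op W)) inferInstance inferInstance) y hy

/-- sections over qcqs staged objects lift -/
theorem sections_surjective (hc : IsLimit c) (h1 : IsLimAcyclic c T.X₁) {A : Tot Y}
    (hA : IsQcqsObj A.obj) : Function.Surjective (T.g.hom.app (op ((bcTot c).obj A))).hom := by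
  intro z
  classical
  haveI := hT.mono_f
  haveI := hT.epi_g
  have hloc : Presheaf.IsLocallySurjective c.pt.smallEtaleTopology T.g.hom :=
    (Sheaf.isLocallySurjective_iff_epi' AddCommGrpCat.{u + 1} T.g).2 inferInstance
  have hsieve := (mem_topology_iff _).1 (hloc.imageSieve_mem (U := (bcTot c).obj A) z)
  choose U p v hp hv using hsieve
  choose B hB f k hk hx using fun x => exists_staged_lift hc (p x) (v x)
  choose s hs using hp
  obtain ⟨n, K, u, e, he, haff, hcov⟩ := exists_stage_cover hc hA B hB f fun x => by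
    have := hx x
    rwa [hv x] at this
  haveI : LocallySmall.{u + 1} (Y.obj n.left).Etale := ⟨fun _ _ => inferInstance⟩
  haveI : HasFiniteProducts (Over (bcObj A n.hom).obj) := hasFiniteProducts_of_has_binary_and_terminal
  let Uf : ULift.{u + 1} K → Over (bcObj A n.hom).obj := fun x => Over.mk (e x.down)
  let P := EtCoh.push (c.π.app n.left)
  have hsheaf : ∀ F : EtCoh.Ab (Y.obj n.left), Presieve.IsSheafFor (F.obj ⋙ forget AddCommGrpCat.{u + 1})
      (Presieve.ofArrows (fun i => (Uf i).left) fun i => (Uf i).hom) := by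
    intro F
    rw [Presieve.isSheafFor_iff_generate]
    refine ((isSheaf_iff_isSheaf_of_type _ _).1
      ((Presheaf.isSheaf_iff_isSheaf_forget _ F.obj
        (forget AddCommGrpCat.{u + 1})).1 F.2)) _ ?_
    refine (Y.obj n.left).smallEtaleTopology.superset_covering ?_ hcov
    refine Sieve.generate_le_iff _ _ |>.2 ?_
    rintro W a ⟨x⟩
    exact Sieve.le_generate _ _ _ (Presieve.ofArrows.mk (f := fun i => (Uf i).hom) ⟨x⟩)
  let q : (bcTot c).obj (bcObj A n.hom) ⟶ (bcTot c).obj A := (bcTot c).map (proj A n.hom)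
  obtain ⟨a, ha⟩ := CechSurjGen.exists_lift_of_isZero_cechH_one (Uf := Uf) (P.map T.f).hom (P.map T.g).hom
    (fun W => SiteBase.sheaf_app_injective T.f _)
    (fun W y hy => secExact T hT _ y hy)
    (fun W y => congrArg (fun t : T.X₁ ⟶ T.X₃ => (t.hom.app _).hom y) T.zero)
    (h1 n.left _ _ Uf (isQcqsObj_bcObj hA n.hom)
      (fun x => haveI : IsAffine (Uf x).left.left := haff x.down; isQcqsObj_of_isAffine _) 0)
    (hsheaf _) (hsheaf _) (T.X₃.obj.map q.op z)
    (fun x => T.X₂.obj.map ((bcTot c).map (proj (B x.down.1) (u x.down)) ≫ k x.down.1).op (s x.down.1))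
    (fun x => by
      refine (ConcreteCategory.congr_hom (T.g.hom.naturality
        ((bcTot c).map (proj (B x.down.1) (u x.down)) ≫ k x.down.1).op) (s x.down.1)).trans ?_
      refine (congrArg _ (hs x.down.1)).trans ?_
      refine ((ConcreteCategory.comp_apply _ _ z).symm.trans (ConcreteCategory.congr_hom ?_ z)).trans
        (ConcreteCategory.comp_apply _ _ z)
      show T.X₃.obj.map _ ≫ T.X₃.obj.map _ = T.X₃.obj.map q.op ≫
        T.X₃.obj.map ((EtCoh.bc (c.π.app n.left)).map (e x.down)).op
      rw [← T.X₃.obj.map_comp, ← T.X₃.obj.map_comp, ← op_comp, ← op_comp]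
      refine congrArg (fun w => T.X₃.obj.map (Quiver.Hom.op w)) ?_
      rw [Category.assoc, hk, ← Functor.map_comp, ← he, Functor.map_comp, bcTot_map_incl])
  refine ⟨T.X₂.obj.map (inv q).op a, ?_⟩
  refine (ConcreteCategory.congr_hom (T.g.hom.naturality (inv q).op) a).trans ?_
  refine (congrArg _ ha).trans ?_
  refine (ConcreteCategory.comp_apply (T.X₃.obj.map q.op) (T.X₃.obj.map (inv q).op) z).symm.trans ?_
  rw [← T.X₃.obj.map_comp, ← op_comp, IsIso.inv_hom_id, op_id, T.X₃.obj.map_id]
  rfl

theorem isLimAcyclic_X₃ (hc : IsLimit c) (h1 : IsLimAcyclic c T.X₁) (h2 : IsLimAcyclic c T.X₂) :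
    IsLimAcyclic c T.X₃ := by
  intro j U _ ι _ Uf hU hUf p
  haveI : LocallySmall.{u + 1} (Y.obj j).Etale := ⟨fun _ _ => inferInstance⟩
  haveI := hT.mono_f
  let P := EtCoh.push (c.π.app j)
  exact CechSurjGen.isZero_cechH_quot (P.map T.f).hom (P.map T.g).hom
    (fun W => SiteBase.sheaf_app_injective T.f _)
    (fun W y hy => secExact T hT _ y hy)
    (fun W y => congrArg (fun t : T.X₁ ⟶ T.X₃ => (t.hom.app _).hom y) T.zero) p
    (h1 j U ι Uf hU hUf (p + 1)) (h2 j U ι Uf hU hUf p)
    (fun m i => sections_surjective T hT hc h1 (A := ⟨j, (∏ᶜ fun k => Uf (i k)).left⟩)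
      (isQcqsObj_prod hU m _ fun k => hUf _))

end

variable [∀ i, CompactSpace (Y.obj i)] [∀ i, QuasiSeparatedSpace (Y.obj i)]
  [∀ j, PreservesFiniteLimits (EtCoh.pull (c.π.app j))]

/-- the limit acyclicity criterion -/
theorem subsingleton_H_of_isLimAcyclic (hc : IsLimit c) (n : ℕ) (G : EtCoh.Ab c.pt) (hG : IsLimAcyclic c G) :
    Subsingleton (EtCoh.H c.pt G (n + 1)) := by
  induction n generalizing G with
  | zero =>
    let T := ShortComplex.mk (Injective.ι G) (cokernel.π _) (cokernel.condition (Injective.ι G))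
    have hT : T.ShortExact := { exact := ShortComplex.exact_of_g_is_cokernel _ (cokernelIsCokernel _) }
    refine subsingleton_of_forall_eq 0 fun x => ?_
    obtain ⟨z, rfl⟩ := Ext.covariant_sequence_exact₁ _ hT x
      (haveI : Injective T.X₂ := inferInstanceAs (Injective (Injective.under G)); Ext.eq_zero_of_injective _)
      (rfl : 0 + 1 = 1)
    obtain ⟨φ, rfl⟩ := (Ext.mk₀_bijective _ _).2 z
    obtain ⟨i₀⟩ := (inferInstance : IsCofiltered I).nonempty
    let A : Tot Y := ⟨i₀, EtCoh.top (Y.obj i₀)⟩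
    let t := (topIsTerminal c.pt).from ((bcTot c).obj A)
    haveI : IsIso t := by
      have hA : IsIso ((bcTot c).obj A).hom := inferInstanceAs (IsIso (pullback.snd (𝟙 (Y.obj i₀)) (c.π.app i₀)))
      have he : t.left ≫ (EtCoh.top c.pt).hom = ((bcTot c).obj A).hom := MorphismProperty.Over.w t
      have ht : IsIso t.left := by
        have e1 : (EtCoh.top c.pt).hom = 𝟙 c.pt := rfl
        rw [e1] at he
        rw [show t.left = ((bcTot c).obj A).hom from (Category.comp_id _).symm.trans he]
        exact hA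
      have : IsIso ((Scheme.Etale.forget c.pt ⋙ Over.forget c.pt).map t) := ht
      exact isIso_of_reflects_iso _ (Scheme.Etale.forget c.pt ⋙ Over.forget c.pt)
    let adj := constantSheafAdj c.pt.smallEtaleTopology AddCommGrpCat.{u + 1} (topIsTerminal c.pt)
    obtain ⟨a₁, ha₁⟩ := sections_surjective T hT hc hG (A := A)
      (isQcqsObj_of_iso (Iso.refl (EtCoh.top (Y.obj i₀))) ⟨inferInstanceAs (CompactSpace (Y.obj i₀)),
        inferInstanceAs (QuasiSeparatedSpace (Y.obj i₀))⟩)
      (T.X₃.obj.map t.op (adj.homEquiv _ _ φ ⟨1⟩))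
    let a := T.X₂.obj.map (inv t).op a₁
    have ha : (T.g.hom.app (op (EtCoh.top c.pt))).hom a = adj.homEquiv _ _ φ ⟨1⟩ := by
      refine (ConcreteCategory.congr_hom (T.g.hom.naturality (inv t).op) a₁).trans ((congrArg _ ha₁).trans ?_)
      refine (ConcreteCategory.comp_apply (T.X₃.obj.map t.op) (T.X₃.obj.map (inv t).op) _).symm.trans ?_
      rw [← T.X₃.obj.map_comp, ← op_comp, IsIso.inv_hom_id, op_id, T.X₃.obj.map_id]
      rfl
    have hφ : (adj.homEquiv _ _).symm ((AddCommGrpCat.uliftZMultiplesAddEquiv _).symm a) ≫ T.g = φ := by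
      apply (adj.homEquiv _ _).injective
      rw [Adjunction.homEquiv_naturality_right, Equiv.apply_symm_apply]
      apply (AddCommGrpCat.uliftZMultiplesAddEquiv _).injective
      refine Eq.trans ?_ ha
      exact congrArg (T.g.hom.app (op (EtCoh.top c.pt))) ((AddCommGrpCat.uliftZMultiplesAddEquiv _).apply_symm_apply a)
    rw [← hφ, ← Ext.mk₀_comp_mk₀, Ext.comp_assoc_of_second_deg_zero, hT.comp_extClass, Ext.comp_zero]
  | succ n ih =>
    let T := ShortComplex.mk (Injective.ι G) (cokernel.π _) (cokernel.condition (Injective.ι G))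
    have hT : T.ShortExact := { exact := ShortComplex.exact_of_g_is_cokernel _ (cokernelIsCokernel _) }
    haveI hI : Injective T.X₂ := inferInstanceAs (Injective (Injective.under G))
    refine subsingleton_of_forall_eq 0 fun x => ?_
    obtain ⟨z, rfl⟩ := Ext.covariant_sequence_exact₁ _ hT x (Ext.eq_zero_of_injective _) (rfl : (n + 1) + 1 = _)
    haveI := ih T.X₃ (isLimAcyclic_X₃ T hT hc hG (isLimAcyclic_of_injective T.X₂))
    rw [Subsingleton.elim z 0, Ext.zero_comp]

end Groth.Agent.EtLimCore
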