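import Groth.Agent.EtLimCore.Functor
import Groth.Agent.EtLimCore.Acyclic
import Groth.Agent.EtLimCore.Vanish

/-!
# Effacement of systems of sheaves
-/

set_option autoImplicit false
set_option maxHeartbeats 800000

universe u

open CategoryTheory CategoryTheory.Limits AlgebraicGeometry Opposite TopologicalSpace

namespace Groth.Agent.EtLimCore

set_option backward.isDefEq.respectTransparency false
set_option backward.isDefEq.respectTransparency.types false

open EtLC12.QcqsAcyclic

variable {I : Type u} [SmallCategory I] {Y : I ⥤ Scheme.{u}}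

/-- base change of a morphism of pairs to a later stage -/
noncomputable def bcHom {A B : Tot Y} (f : B ⟶ A) {m : I} (b : m ⟶ B.st) :
    (bcObj B b).obj ⟶ (bcObj A (b ≫ f.a)).obj :=
  MorphismProperty.Over.homMk (pullback.lift (pullback.fst B.obj.hom (Y.map b) ≫ f.g)
    (pullback.snd B.obj.hom (Y.map b)) (by rw [Category.assoc, f.w, pullback.condition_assoc, ← Y.map_comp]))
    (pullback.lift_snd _ _ _)

theorem bcHom_proj {A B : Tot Y} (f : B ⟶ A) {m : I} (b : m ⟶ B.st) :
    (incl Y m).map (bcHom f b) ≫ proj A (b ≫ f.a) = proj B b ≫ f :=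
  hom_ext' (Category.id_comp _) (pullback.lift_fst _ _ _)

variable (Is : ∀ l, EtCoh.Ab (Y.obj l))

/-- the indices of the product -/
abbrev Idx (A : Tot Y) : Type u := Σ l : I, (l ⟶ A.st)

/-- the factors -/
noncomputable abbrev fac (A : Tot Y) (p : Idx A) : AddCommGrpCat.{u + 1} :=
  (Is p.1).obj.obj (op (bcObj A p.2).obj)

theorem π_congr {A : Tot Y} {m : I} {a a' : m ⟶ A.st} (h : a = a') {W : (Y.obj m).Etale}
    (k : W ⟶ (bcObj A a).obj) (k' : W ⟶ (bcObj A a').obj)
    (hk : k.left ≫ pullback.fst A.obj.hom (Y.map a) = k'.left ≫ pullback.fst A.obj.hom (Y.map a')) :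
    Pi.π (fac Is A) (⟨m, a⟩ : Idx A) ≫ (Is m).obj.map k.op =
      Pi.π (fac Is A) (⟨m, a'⟩ : Idx A) ≫ (Is m).obj.map k'.op := by
  subst h
  have : k = k' := MorphismProperty.Over.Hom.ext (pullback.hom_ext hk
    ((MorphismProperty.Over.w k).trans (MorphismProperty.Over.w k').symm))
  rw [this]

/-- products of pushforwards from all later stages -/
noncomputable def prodPre : (Tot Y)ᵒᵖ ⥤ AddCommGrpCat.{u + 1} where
  obj A := ∏ᶜ fac Is A.unop
  map {A B} f := Pi.lift fun q => Pi.π (fac Is A.unop) (⟨q.1, q.2 ≫ f.unop.a⟩ : Idx A.unop) ≫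
    (Is q.1).obj.map (bcHom f.unop q.2).op
  map_id A := by
    refine Pi.hom_ext _ _ fun q => ?_
    rw [Pi.lift_π, Category.id_comp]
    refine (π_congr Is (Category.comp_id q.2) (bcHom (𝟙 A.unop) q.2) (𝟙 _) ?_).trans ?_
    · exact (pullback.lift_fst _ _ _).trans ((Category.comp_id _).trans (Category.id_comp _).symm)
    · rw [op_id, CategoryTheory.Functor.map_id]
      exact Category.comp_id _
  map_comp {A B C} f g := by
    refine Pi.hom_ext _ _ fun q => ?_
    rw [Pi.lift_π, Category.assoc, Pi.lift_π, Pi.lift_π_assoc, Category.assoc]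
    refine (π_congr Is (Category.assoc q.2 g.unop.a f.unop.a).symm (bcHom (g.unop ≫ f.unop) q.2)
      (bcHom g.unop q.2 ≫ bcHom f.unop (q.2 ≫ g.unop.a)) ?_).trans ?_
    · refine (pullback.lift_fst _ _ _).trans (Eq.symm ?_)
      refine ((Category.assoc _ _ _).trans (congrArg (_ ≫ ·) (pullback.lift_fst _ _ _))).trans ?_
      exact (Category.assoc _ _ _).symm.trans
        ((congrArg (· ≫ f.unop.g) (pullback.lift_fst _ _ _)).trans (Category.assoc _ _ _))
    · rw [op_comp, Functor.map_comp]

/-- the product sheaf at a stage -/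
noncomputable abbrev prodAt (k : I) : EtCoh.Ab (Y.obj k) :=
  ∏ᶜ fun p : (Σ l : I, (l ⟶ k)) => (EtCoh.push (Y.map p.2)).obj (Is p.1)

/-- the stage of the product presheaf -/
noncomputable def prodPreIso (k : I) : (incl Y k).op ⋙ prodPre Is ≅ (prodAt Is k).obj :=
  let E := fun W : (Y.obj k).Etaleᵒᵖ => PreservesProduct.iso
    (sheafToPresheaf (Y.obj k).smallEtaleTopology AddCommGrpCat.{u + 1} ⋙
      (evaluation (Y.obj k).Etaleᵒᵖ AddCommGrpCat.{u + 1}).obj W)
    fun p : (Σ l : I, (l ⟶ k)) => (EtCoh.push (Y.map p.2)).obj (Is p.1)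
  NatIso.ofComponents (fun W => (E W).symm) fun {W W'} h => by
    rw [Iso.symm_hom, Iso.symm_hom, Iso.eq_inv_comp, ← Category.assoc, Iso.comp_inv_eq]
    refine Pi.hom_ext _ _ fun p => ?_
    have hp : ∀ V, (E V).hom ≫ Pi.π _ p = (Pi.π (fun p : (Σ l : I, (l ⟶ k)) =>
        (EtCoh.push (Y.map p.2)).obj (Is p.1)) p).hom.app V := fun V => piComparison_comp_π _ _ p
    refine ((Category.assoc _ _ _).trans (congrArg (_ ≫ ·) (Pi.lift_π _ p))).trans ?_
    refine (congrArg (_ ≫ ·) (π_congr Is (A := (⟨k, W.unop⟩ : Tot Y)) (Category.comp_id p.2)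
      (bcHom ((incl Y k).map h.unop) p.2) ((EtCoh.bc (Y.map p.2)).map h.unop) ?_)).trans ?_
    · exact (pullback.lift_fst _ _ _).trans (EtCoh.isPullback_bc_map (Y.map p.2) h.unop).w.symm
    refine (Category.assoc _ _ _).symm.trans ((congrArg (· ≫ _) (hp W)).trans ?_)
    refine Eq.trans ?_ ((Category.assoc _ _ _).trans (congrArg (_ ≫ ·) (hp W'))).symm
    exact ((Pi.π (fun p : (Σ l : I, (l ⟶ k)) =>
        (EtCoh.push (Y.map p.2)).obj (Is p.1)) p).hom.naturality h).symm

theorem isSheaf_prodPre : Presheaf.IsSheaf (topology Y) (prodPre Is) :=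
  (isSheaf_topology_iff _).2 fun k => (Presheaf.isSheaf_of_iso_iff (prodPreIso Is k)).2 (prodAt Is k).property

/-- the product as a sheaf on the total site -/
noncomputable def prodSh : TotSh Y := ⟨prodPre Is, isSheaf_prodPre Is⟩

/-- the stages of the product -/
noncomputable def resProdIso (k : I) : (res Y k).obj (prodSh Is) ≅ prodAt Is k :=
  (fullyFaithfulSheafToPresheaf (Y.obj k).smallEtaleTopology AddCommGrpCat.{u + 1}).preimageIso (prodPreIso Is k)

variable [∀ {i j : I} (f : i ⟶ j), PreservesFiniteLimits (EtCoh.pull (Y.map f))]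

theorem injective_push {i j : I} (f : i ⟶ j) (G : EtCoh.Ab (Y.obj i)) [Injective G] :
    Injective ((EtCoh.push (Y.map f)).obj G) :=
  haveI : Functor.PreservesMonomorphisms (EtCoh.pull (Y.map f)) := inferInstance
  Injective.injective_of_adjoint (EtCoh.pullPushAdj (Y.map f)) G

theorem injective_res_prodSh [∀ l, Injective (Is l)] (k : I) : Injective ((res Y k).obj (prodSh Is)) :=
  haveI : ∀ p : (Σ l : I, (l ⟶ k)), Injective ((EtCoh.push (Y.map p.2)).obj (Is p.1)) :=
    fun p => injective_push p.2 (Is p.1)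
  Injective.of_iso (resProdIso Is k).symm inferInstance

omit [∀ {i j : I} (f : i ⟶ j), PreservesFiniteLimits (EtCoh.pull (Y.map f))]

/-- every system embeds in one with injective stages -/
noncomputable def toProd (F : TotSh Y) : F ⟶ prodSh fun l => Injective.under ((res Y l).obj F) :=
  ObjectProperty.homMk
    { app := fun A => Pi.lift fun p => F.obj.map (proj A.unop p.2).op ≫
        (Injective.ι ((res Y p.1).obj F)).hom.app (op (bcObj A.unop p.2).obj)
      naturality := fun A B f => by
        refine Pi.hom_ext _ _ fun q => ?_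
        rw [Category.assoc, Category.assoc, Pi.lift_π]
        refine Eq.trans ?_ (congrArg (_ ≫ ·) (Pi.lift_π _ q)).symm
        rw [Pi.lift_π_assoc, Category.assoc, ← (Injective.ι ((res Y q.1).obj F)).hom.naturality]
        show F.obj.map f ≫ F.obj.map (proj B.unop q.2).op ≫ _ =
          F.obj.map _ ≫ F.obj.map ((incl Y q.1).map (bcHom f.unop q.2)).op ≫ _
        rw [← Category.assoc, ← Category.assoc, ← F.obj.map_comp, ← F.obj.map_comp]
        refine congrArg (fun k => F.obj.map k ≫ _) ?_
        exact (congrArg Quiver.Hom.op (bcHom_proj f.unop q.2)).symm }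

theorem mono_toProd (F : TotSh Y) : Mono (toProd F) := by
  haveI : ∀ A, Mono ((toProd F).hom.app A) := fun A => by
    refine (AddCommGrpCat.mono_iff_injective _).2 ((injective_iff_map_eq_zero ((toProd F).hom.app A).hom).2 fun t ht => ?_)
    have h1 := congrArg (Pi.π (fac (fun l => Injective.under ((res Y l).obj F)) A.unop) ⟨_, 𝟙 A.unop.st⟩) ht
    rw [map_zero] at h1
    have h2 : F.obj.map (proj A.unop (𝟙 A.unop.st)).op t = 0 := by
      refine SiteBase.sheaf_app_injective (Injective.ι ((res Y A.unop.st).obj F)) _ (Eq.trans ?_ (map_zero _).symm)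
      refine Eq.trans ?_ h1
      refine Eq.trans ?_ (ConcreteCategory.comp_apply _ _ t)
      exact (ConcreteCategory.congr_hom (Pi.lift_π (fun p : Idx A.unop => F.obj.map (proj A.unop p.2).op ≫
        (Injective.ι ((res Y p.1).obj F)).hom.app (op (bcObj A.unop p.2).obj)) (⟨_, 𝟙 A.unop.st⟩ : Idx A.unop)) t).symm
    have h3 := congrArg (F.obj.map ((incl Y A.unop.st).map (factor (𝟙 A.unop))).op) h2
    rw [map_zero] at h3
    refine Eq.trans ?_ h3
    refine Eq.trans ?_ (ConcreteCategory.comp_apply _ _ t)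
    rw [← F.obj.map_comp, ← op_comp]
    refine Eq.trans ?_ (congrArg (fun k => F.obj.map (Quiver.Hom.op k) t) (factor_fac (𝟙 A.unop))).symm
    exact (ConcreteCategory.congr_hom (F.obj.map_id A) t).symm
  haveI : Mono (toProd F).hom := NatTrans.mono_of_mono_app _
  exact (sheafToPresheaf (topology Y) AddCommGrpCat.{u + 1}).mono_of_mono_map this

variable [∀ {i j : I} (f : i ⟶ j), PreservesFiniteLimits (EtCoh.pull (Y.map f))]
variable (c : Cone Y) [∀ j, PreservesFiniteLimits (EtCoh.pull (c.π.app j))]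
  [∀ {i j : I} (f : i ⟶ j), IsAffineHom (Y.map f)] [IsCofiltered I]
  [∀ i, CompactSpace (Y.obj i)] [∀ i, QuasiSeparatedSpace (Y.obj i)]

theorem subsingleton_H_totToLim (hc : IsLimit c) [∀ l, Injective (Is l)] (n : ℕ) :
    Subsingleton (EtCoh.H c.pt ((totToLim c).obj (prodSh Is)) (n + 1)) :=
  subsingleton_H_of_isLimAcyclic hc n _ fun j =>
    isCechAcyclic_push_limit (sys c (prodSh Is)) hc (sys_isColim c hc _) fun {l} a =>
      haveI := injective_res_prodSh Is l
      haveI : Injective ((sys c (prodSh Is)).sheaf l) := this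
      haveI := injective_push a ((sys c (prodSh Is)).sheaf l)
      isCechAcyclic_of_injective _

theorem subsingleton_H_res [∀ l, Injective (Is l)] (k : I) (n : ℕ) :
    Subsingleton (EtCoh.H (Y.obj k) ((res Y k).obj (prodSh Is)) (n + 1)) :=
  haveI := injective_res_prodSh Is k
  subsingleton_of_forall_eq 0 fun x => Abelian.Ext.eq_zero_of_injective x

end Groth.Agent.EtLimCore
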