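import Groth.Agent.EtLimCore.Topology
import Groth.Agent.SiteBase.AbSecExact

/-!
# The limit functor on sheaves of the total site
-/

set_option autoImplicit false
set_option maxHeartbeats 800000

universe u

open CategoryTheory CategoryTheory.Limits AlgebraicGeometry Opposite TopologicalSpace

namespace Groth.Agent.EtLimCore

set_option backward.isDefEq.respectTransparency false
set_option backward.isDefEq.respectTransparency.types false

variable {I : Type u} [SmallCategory I] {Y : I ⥤ Scheme.{u}}

variable (Y) in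
/-- systems of abelian sheaves on an inverse system -/
abbrev TotSh : Type (u + 2) := Sheaf (topology Y) AddCommGrpCat.{u + 1}

variable (Y) in
/-- the sheaf at a stage -/
noncomputable def res (k : I) : TotSh Y ⥤ EtCoh.Ab (Y.obj k) where
  obj F := ⟨(incl Y k).op ⋙ F.obj, (isSheaf_topology_iff F.obj).1 F.property k⟩
  map φ := ObjectProperty.homMk (Functor.whiskerLeft (incl Y k).op φ.hom)

instance (k : I) : (res Y k).Additive where

theorem isLocallySurjective_res (k : I) {P Q : TotSh Y} (g : P ⟶ Q)
    (h : Presheaf.IsLocallySurjective (topology Y) g.hom) :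
    Presheaf.IsLocallySurjective (Y.obj k).smallEtaleTopology ((res Y k).map g).hom :=
  ⟨fun {W} s => h.imageSieve_mem (U := (⟨k, W⟩ : Tot Y)) s⟩

instance preservesFiniteLimits_res (k : I) : PreservesFiniteLimits (res Y k) := by
  haveI : PreservesFiniteLimits (res Y k ⋙ sheafToPresheaf (Y.obj k).smallEtaleTopology AddCommGrpCat.{u + 1}) :=
    inferInstanceAs (PreservesFiniteLimits (sheafToPresheaf (topology Y) AddCommGrpCat.{u + 1} ⋙
      (Functor.whiskeringLeft _ _ AddCommGrpCat.{u + 1}).obj (incl Y k).op))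
  exact preservesFiniteLimits_of_reflects_of_preserves (res Y k)
    (sheafToPresheaf (Y.obj k).smallEtaleTopology AddCommGrpCat.{u + 1})

theorem shortExact_res (k : I) (T : ShortComplex (TotSh Y)) (hT : T.ShortExact) :
    (T.map (res Y k)).ShortExact := by
  haveI := hT.mono_f
  haveI := hT.epi_g
  haveI : Mono (T.map (res Y k)).f := inferInstanceAs (Mono ((res Y k).map T.f))
  haveI : Epi (T.map (res Y k)).g :=
    (Sheaf.isLocallySurjective_iff_epi' (J := (Y.obj k).smallEtaleTopology) AddCommGrpCat.{u + 1} ((res Y k).map T.g)).1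
      (isLocallySurjective_res k T.g
        ((Sheaf.isLocallySurjective_iff_epi' (J := topology Y) AddCommGrpCat.{u + 1} T.g).2 inferInstance))
  exact { exact := hT.exact.map_of_mono_of_preservesKernel (res Y k) inferInstance inferInstance }

variable (c : Cone Y)

theorem isSheaf_limToTot (M : EtCoh.Ab c.pt) : Presheaf.IsSheaf (topology Y) ((bcTot c).op ⋙ M.obj) := by
  refine (isSheaf_topology_iff _).2 fun k => ?_
  refine (Presheaf.isSheaf_of_iso_iff ?_).2 ((EtCoh.push (c.π.app k)).obj M).property
  exact NatIso.ofComponents (fun W => Iso.refl _) (fun {W W'} h => by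
    refine (Category.comp_id _).trans (Eq.trans ?_ (Category.id_comp _).symm)
    exact congrArg (fun q => M.obj.map (Quiver.Hom.op q)) (bcTot_map_incl c k h.unop))

/-- a sheaf on the limit as a system -/
noncomputable def limToTot : EtCoh.Ab c.pt ⥤ TotSh Y where
  obj M := ⟨(bcTot c).op ⋙ M.obj, isSheaf_limToTot c M⟩
  map φ := ObjectProperty.homMk (Functor.whiskerLeft (bcTot c).op φ.hom)

/-- the colimit sheaf functor -/
noncomputable def totToLim : TotSh Y ⥤ EtCoh.Ab c.pt :=
  sheafToPresheaf (topology Y) AddCommGrpCat.{u + 1} ⋙ (bcTot c).op.lan ⋙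
    presheafToSheaf c.pt.smallEtaleTopology AddCommGrpCat.{u + 1}

/-- the colimit sheaf is left adjoint to restriction to the stages -/
noncomputable def totAdj : totToLim c ⊣ limToTot c :=
  (((bcTot c).op.lanAdjunction AddCommGrpCat.{u + 1}).comp
    (sheafificationAdjunction c.pt.smallEtaleTopology AddCommGrpCat.{u + 1})).restrictFullyFaithful
      (fullyFaithfulSheafToPresheaf _ _) (Functor.FullyFaithful.id _) (Iso.refl _) (Iso.refl _)

instance : (limToTot c).Additive where

instance : (totToLim c).Additive :=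
  (totAdj c).left_adjoint_additive

/-- the system of a sheaf on the total site -/
noncomputable def sys (F : TotSh Y) : Sys c :=
  colimSys c F.obj ((isSheaf_topology_iff F.obj).1 F.property)

theorem sys_M (F : TotSh Y) : (sys c F).M = (totToLim c).obj F := rfl

/-- the comparison at a stage -/
noncomputable def stageMap (k : I) (F : TotSh Y) :
    (res Y k).obj F ⟶ (EtCoh.push (c.π.app k)).obj ((totToLim c).obj F) :=
  (sys c F).ψ' k

theorem sys_ψ_natural {F G : TotSh Y} (φ : F ⟶ G) :
    (sys c F).ψ ≫ Functor.whiskerLeft (bcTot c).op ((totToLim c).map φ).hom = φ.hom ≫ (sys c G).ψ := by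
  have h1 : colimPre c F.obj = (bcTot c).op.lan.obj F.obj := rfl
  have h2 := (bcTot c).op.lanUnit.naturality φ.hom
  have h3 := toSheafify_naturality c.pt.smallEtaleTopology ((bcTot c).op.lan.map φ.hom)
  ext B : 2
  have e2 := congr_app h2 B
  have e3 := congr_app h3 ((bcTot c).op.obj B)
  show (_ ≫ _) ≫ ((totToLim c).map φ).hom.app _ = φ.hom.app B ≫ _ ≫ _
  rw [Category.assoc]
  refine (congrArg (_ ≫ ·) e3.symm).trans ?_
  exact (Category.assoc _ _ _).symm.trans ((congrArg (fun q : F.obj.obj B ⟶ (colimPre c G.obj).obj ((bcTot c).op.obj B) =>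
    q ≫ (toSheafify c.pt.smallEtaleTopology (colimPre c G.obj)).app ((bcTot c).op.obj B)) e2.symm).trans
      (Category.assoc _ _ _))

theorem stageMap_natural (k : I) {F G : TotSh Y} (φ : F ⟶ G) :
    stageMap c k F ≫ (EtCoh.push (c.π.app k)).map ((totToLim c).map φ) = (res Y k).map φ ≫ stageMap c k G := by
  refine Sheaf.hom_ext (J := (Y.obj k).smallEtaleTopology) ?_
  ext W : 2
  exact congr_app (sys_ψ_natural c φ) (op (⟨k, W.unop⟩ : Tot Y))

variable [∀ {i j : I} (f : i ⟶ j), IsAffineHom (Y.map f)] [IsCofiltered I]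

theorem sys_isColim (hc : IsLimit c) (F : TotSh Y) : (sys c F).IsColim := colimSys_isColim hc _ _

theorem mono_totToLim (hc : IsLimit c) {F G : TotSh Y} (φ : F ⟶ G) [Mono φ] : Mono ((totToLim c).map φ) := by
  refine (EtFound.mono_iff_stalks _).2 ?_
  intro Ω _ _ ξ
  refine ((injective_iff_map_eq_zero
    ((EtCoh.stalk ξ).map ((totToLim c).map φ)).hom).2 fun q hq => ?_)
  let Φ := Scheme.pointSmallEtale ξ
  obtain ⟨U, u, s, rfl⟩ := Φ.toPresheafFiber_jointly_surjective (P := ((totToLim c).obj F).obj) q
  obtain ⟨A, z, t, ht⟩ := (sys_isColim c hc F).surj Ω ξ U u s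
  refine ht.symm.trans ?_
  have h0 : Φ.toPresheafFiber _ z (sys c G).M.obj ((sys c G).ψ.app (op A) (φ.hom.app (op A) t)) = 0 := by
    refine (congrArg (Φ.toPresheafFiber _ z (sys c G).M.obj)
      (ConcreteCategory.congr_hom (congr_app (sys_ψ_natural c φ) (op A)) t).symm).trans ?_
    refine (Φ.toPresheafFiber_naturality_apply ((totToLim c).map φ).hom _ z _).symm.trans ?_
    exact (congrArg _ ht).trans hq
  obtain ⟨B, f, y, hy, hB⟩ := (sys_isColim c hc G).inj Ω ξ A z _ h0
  have hB' : F.obj.map f.op t = 0 := SiteBase.sheaf_app_injective φ B (by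
    rw [map_zero]
    exact (ConcreteCategory.congr_hom (φ.hom.naturality f.op) t).trans hB)
  rw [← hy]
  refine (Φ.toPresheafFiber_w_apply ((bcTot c).map f) y (sys c F).M.obj _).symm.trans ?_
  refine (congrArg _ ((ConcreteCategory.congr_hom ((sys c F).ψ.naturality f.op) t).symm.trans
    ((ConcreteCategory.comp_apply _ _ t).trans ((congrArg ((sys c F).ψ.app (op B)) hB').trans (map_zero _))))).trans (map_zero _)

theorem shortExact_totToLim (hc : IsLimit c) (T : ShortComplex (TotSh Y)) (hT : T.ShortExact) :
    (T.map (totToLim c)).ShortExact := by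
  haveI := hT.mono_f
  haveI := hT.epi_g
  haveI := (totAdj c).leftAdjoint_preservesColimits
  haveI : Mono (T.map (totToLim c)).f := mono_totToLim c hc T.f
  haveI : Epi (T.map (totToLim c)).g := inferInstanceAs (Epi ((totToLim c).map T.g))
  exact { exact := hT.exact.map_of_epi_of_preservesCokernel (totToLim c) inferInstance inferInstance }

end Groth.Agent.EtLimCore
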