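import Groth.Agent.EtLimCore.Stage
import Groth.Agent.EtFound.GermSupp
import Groth.Agent.EtFound.PullStalk
import Groth.Agent.EtFound.StalkSet

/-!
# Germs along an inverse system
-/

set_option autoImplicit false
set_option maxHeartbeats 400000

universe u

open CategoryTheory CategoryTheory.Limits AlgebraicGeometry Opposite TopologicalSpace

namespace Groth.Agent.EtLimCore

set_option backward.isDefEq.respectTransparency false
set_option backward.isDefEq.respectTransparency.types false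

variable {I : Type u} [SmallCategory I] {Y : I ⥤ Scheme.{u}} {c : Cone Y}

variable (c) in
/-- the map from the limit to a stage of an étale scheme -/
noncomputable def toStage (A : Tot Y) {l : I} (a : l ⟶ A.st) :
    ((bcTot c).obj A).left ⟶ (bcObj A a).obj.left :=
  (diagCone c A).π.app (Over.mk a)

theorem toStage_fst (A : Tot Y) {l : I} (a : l ⟶ A.st) :
    toStage c A a ≫ pullback.fst A.obj.hom (Y.map a) = pullback.fst A.obj.hom (c.π.app A.st) :=
  pullback.lift_fst _ _ _

theorem toStage_snd (A : Tot Y) {l : I} (a : l ⟶ A.st) :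
    toStage c A a ≫ pullback.snd A.obj.hom (Y.map a) = pullback.snd A.obj.hom (c.π.app A.st) ≫ c.π.app l :=
  pullback.lift_snd _ _ _

theorem bcTot_proj_toStage (A : Tot Y) {l : I} (a : l ⟶ A.st) :
    ((bcTot c).map (proj A a)).left ≫ toStage c A a =
      pullback.fst (pullback.snd A.obj.hom (Y.map a)) (c.π.app l) := by
  apply pullback.hom_ext (f := A.obj.hom) (g := Y.map a)
  · exact ((Category.assoc _ _ _).trans (congrArg (_ ≫ ·) (toStage_fst A a))).trans
      (bcTot_map_fst c (proj A a))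
  · refine ((Category.assoc _ _ _).trans (congrArg (_ ≫ ·) (toStage_snd A a))).trans ?_
    refine (Category.assoc _ _ _).symm.trans ((congrArg (· ≫ c.π.app l) (bcTot_map_snd c (proj A a))).trans ?_)
    exact pullback.condition.symm

section points

variable {Ω : Type u} [Field Ω] [IsSepClosed Ω]

/-- the point of the stage under a point of the limit -/
noncomputable def down {ξ : Spec (CommRingCat.of Ω) ⟶ c.pt} {A : Tot Y}
    (z : (Scheme.pointSmallEtale ξ).fiber.obj ((bcTot c).obj A)) :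
    (Scheme.pointSmallEtale (ξ ≫ c.π.app A.st)).fiber.obj A.obj :=
  EtFound.bcFiberEquiv (c.π.app A.st) ξ A.obj z

theorem down_left {ξ : Spec (CommRingCat.of Ω) ⟶ c.pt} {A : Tot Y}
    (z : (Scheme.pointSmallEtale ξ).fiber.obj ((bcTot c).obj A)) :
    ((down z).left : Spec (CommRingCat.of Ω) ⟶ A.obj.left) =
      (z.left : Spec (CommRingCat.of Ω) ⟶ ((bcTot c).obj A).left) ≫ pullback.fst A.obj.hom (c.π.app A.st) :=
  rfl

/-- the point of a later stage under a point of the limit -/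
noncomputable def downTo {ξ : Spec (CommRingCat.of Ω) ⟶ c.pt} {A : Tot Y} {l : I} (a : l ⟶ A.st)
    (z : (Scheme.pointSmallEtale ξ).fiber.obj ((bcTot c).obj A)) :
    (Scheme.pointSmallEtale (ξ ≫ c.π.app l)).fiber.obj (bcObj A a).obj :=
  CategoryTheory.Over.homMk ((z.left : Spec (CommRingCat.of Ω) ⟶ ((bcTot c).obj A).left) ≫ toStage c A a) (by
    refine ((Category.assoc _ _ _).trans (congrArg (_ ≫ ·) (toStage_snd A a))).trans ?_
    exact (Category.assoc _ _ _).symm.trans (congrArg (· ≫ c.π.app l) (CategoryTheory.Over.w z)))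

theorem ptOf_downTo {ξ : Spec (CommRingCat.of Ω) ⟶ c.pt} {A : Tot Y} {l : I} (a : l ⟶ A.st)
    (z : (Scheme.pointSmallEtale ξ).fiber.obj ((bcTot c).obj A)) :
    EtFound.ptOf (downTo a z) = (toStage c A a).base (EtFound.ptOf z) :=
  Scheme.Hom.comp_apply _ _ _

/-- vanishing germs restrict to vanishing germs along a morphism of pairs -/
theorem germ_res_eq_zero (S : Sys c) {A B : Tot Y} (f : B ⟶ A) (t : S.F.obj (op A))
    {η : Spec (CommRingCat.of Ω) ⟶ Y.obj B.st} (zB : (Scheme.pointSmallEtale η).fiber.obj B.obj)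
    (zA : (Scheme.pointSmallEtale (η ≫ Y.map f.a)).fiber.obj A.obj)
    (hz : (zA.left : Spec (CommRingCat.of Ω) ⟶ A.obj.left) = (zB.left : Spec (CommRingCat.of Ω) ⟶ B.obj.left) ≫ f.g)
    (h : (Scheme.pointSmallEtale (η ≫ Y.map f.a)).toPresheafFiber A.obj zA (S.sheaf A.st).obj t = 0) :
    (Scheme.pointSmallEtale η).toPresheafFiber B.obj zB (S.sheaf B.st).obj (S.F.map f.op t) = 0 := by
  let Φ := Scheme.pointSmallEtale η
  let ΦA := Scheme.pointSmallEtale (η ≫ Y.map f.a)
  rw [← map_zero (ΦA.toPresheafFiber A.obj zA (S.sheaf A.st).obj).hom] at h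
  obtain ⟨V, g, v, hv, hg⟩ := (ΦA.toPresheafFiber_eq_iff' A.obj zA _ _).1 h
  rw [map_zero] at hg
  let bg := (EtCoh.bc (Y.map f.a)).map g
  let v' : Φ.fiber.obj ((EtCoh.bc (Y.map f.a)).obj V) := (EtFound.bcFiberEquiv (Y.map f.a) η V).symm v
  have hvz : Φ.fiber.map bg v' = Φ.fiber.map (factor f) zB := by
    refine (EtFound.bcFiberEquiv (Y.map f.a) η A.obj).injective ?_
    refine CategoryTheory.Over.OverMorphism.ext ?_
    show ((v'.left : Spec (CommRingCat.of Ω) ⟶ _) ≫ bg.left) ≫ pullback.fst A.obj.hom (Y.map f.a) =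
      ((zB.left : Spec (CommRingCat.of Ω) ⟶ _) ≫ (factor f).left) ≫ pullback.fst A.obj.hom (Y.map f.a)
    rw [Category.assoc, Category.assoc, (EtCoh.isPullback_bc_map (Y.map f.a) g).w]
    refine Eq.trans ?_ (Eq.trans hz (congrArg (_ ≫ ·) (pullback.lift_fst _ _ _).symm))
    refine ((Category.assoc _ _ _).symm.trans (congrArg (· ≫ g.left) (pullback.lift_fst _ _ _))).trans ?_
    exact congrArg (fun k => k.left) hv
  obtain ⟨⟨T, y⟩, ⟨a₀, ha₀⟩, ⟨b₀, hb₀⟩, hsq⟩ := IsCofiltered.cospan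
    (CategoryOfElements.homMk (Φ.fiber.elementsMk _ v') (Φ.fiber.elementsMk _ (Φ.fiber.map (factor f) zB)) bg hvz)
    (CategoryOfElements.homMk (Φ.fiber.elementsMk _ zB) (Φ.fiber.elementsMk _ (Φ.fiber.map (factor f) zB)) (factor f) rfl)
  have hsq' : a₀ ≫ bg = b₀ ≫ factor f := congrArg Subtype.val hsq
  have hT : S.F.map ((incl Y B.st).map b₀).op (S.F.map f.op t) = 0 := by
    have e : (incl Y B.st).map b₀ ≫ f =
        ((incl Y B.st).map a₀ ≫ proj (⟨A.st, V⟩ : Tot Y) f.a) ≫ (incl Y A.st).map g := by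
      refine hom_ext' ?_ ?_
      · show 𝟙 B.st ≫ f.a = (𝟙 B.st ≫ f.a) ≫ 𝟙 A.st
        rw [Category.id_comp, Category.comp_id]
      · show b₀.left ≫ f.g = (a₀.left ≫ pullback.fst V.hom (Y.map f.a)) ≫ g.left
        rw [Category.assoc, ← (EtCoh.isPullback_bc_map (Y.map f.a) g).w, ← Category.assoc]
        have e1 : a₀.left ≫ bg.left = b₀.left ≫ (factor f).left := congrArg (fun k => k.left) hsq'
        refine Eq.trans ?_ (congrArg (· ≫ pullback.fst A.obj.hom (Y.map f.a)) e1).symm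
        exact ((Category.assoc _ _ _).trans (congrArg (b₀.left ≫ ·) (pullback.lift_fst _ _ _))).symm
    refine (ConcreteCategory.comp_apply (S.F.map f.op) (S.F.map ((incl Y B.st).map b₀).op) t).symm.trans ?_
    rw [← S.F.map_comp, ← op_comp, e, op_comp, S.F.map_comp]
    refine (ConcreteCategory.comp_apply (S.F.map ((incl Y A.st).map g).op)
      (S.F.map ((incl Y B.st).map a₀ ≫ proj (⟨A.st, V⟩ : Tot Y) f.a).op) t).trans ?_
    exact (congrArg _ hg).trans (map_zero _)
  have hb : Φ.fiber.map b₀ y = zB := hb₀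
  refine (congrArg (fun q => Φ.toPresheafFiber B.obj q (S.sheaf B.st).obj (S.F.map f.op t)) hb).symm.trans ?_
  refine (Φ.toPresheafFiber_w_apply b₀ y (S.sheaf B.st).obj _).symm.trans ?_
  exact (congrArg _ hT).trans (map_zero _)

/-- vanishing germs at a stage give vanishing germs in the limit -/
theorem germ_ψ_eq_zero (S : Sys c) {ξ : Spec (CommRingCat.of Ω) ⟶ c.pt} {A : Tot Y}
    (z : (Scheme.pointSmallEtale ξ).fiber.obj ((bcTot c).obj A)) (t : S.F.obj (op A))
    (h : (Scheme.pointSmallEtale (ξ ≫ c.π.app A.st)).toPresheafFiber A.obj (down z) (S.sheaf A.st).obj t = 0) :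
    (Scheme.pointSmallEtale ξ).toPresheafFiber ((bcTot c).obj A) z S.M.obj (S.ψ.app (op A) t) = 0 := by
  let Φ := Scheme.pointSmallEtale ξ
  let Φ' := Scheme.pointSmallEtale (ξ ≫ c.π.app A.st)
  rw [← map_zero (Φ'.toPresheafFiber A.obj (down z) (S.sheaf A.st).obj).hom] at h
  obtain ⟨V, g, v, hv, hg⟩ := (Φ'.toPresheafFiber_eq_iff' A.obj (down z) _ _).1 h
  rw [map_zero] at hg
  let v' : Φ.fiber.obj ((EtCoh.bc (c.π.app A.st)).obj V) := (EtFound.bcFiberEquiv (c.π.app A.st) ξ V).symm v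
  have hvz : Φ.fiber.map ((EtCoh.bc (c.π.app A.st)).map g) v' = z := by
    refine (EtFound.bcFiberEquiv (c.π.app A.st) ξ A.obj).injective ?_
    refine Eq.trans (CategoryTheory.Over.OverMorphism.ext ?_) hv
    show ((v'.left : Spec (CommRingCat.of Ω) ⟶ _) ≫ ((EtCoh.bc (c.π.app A.st)).map g).left) ≫
        pullback.fst A.obj.hom (c.π.app A.st) = (v.left : Spec (CommRingCat.of Ω) ⟶ _) ≫ g.left
    rw [Category.assoc, (EtCoh.isPullback_bc_map (c.π.app A.st) g).w]
    exact (Category.assoc _ _ _).symm.trans (congrArg (· ≫ g.left) (pullback.lift_fst _ _ _))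
  rw [← hvz]
  refine (Φ.toPresheafFiber_w_apply _ v' S.M.obj _).symm.trans ?_
  refine (congrArg _ (ConcreteCategory.congr_hom ((S.ψ' A.st).hom.naturality g.op) t).symm).trans ?_
  refine (congrArg _ ((congrArg ((S.ψ' A.st).hom.app (op V)) hg).trans (map_zero _))).trans ?_
  exact map_zero _

/-- two pairs with compatible points have a common refinement -/
theorem exists_common [IsCofiltered I] {ξ : Spec (CommRingCat.of Ω) ⟶ c.pt} {A B : Tot Y}
    (z : (Scheme.pointSmallEtale ξ).fiber.obj ((bcTot c).obj A))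
    (z' : (Scheme.pointSmallEtale ξ).fiber.obj ((bcTot c).obj B)) :
    ∃ (C : Tot Y) (f : C ⟶ A) (g : C ⟶ B) (y : (Scheme.pointSmallEtale ξ).fiber.obj ((bcTot c).obj C)),
      (Scheme.pointSmallEtale ξ).fiber.map ((bcTot c).map f) y = z ∧
      (Scheme.pointSmallEtale ξ).fiber.map ((bcTot c).map g) y = z' := by
  obtain ⟨m, a, b, -⟩ := IsCofilteredOrEmpty.cone_objs A.st B.st
  let Φ := Scheme.pointSmallEtale (ξ ≫ c.π.app m)
  obtain ⟨⟨T, w⟩, ⟨p, hp⟩, ⟨q, hq⟩, -⟩ := IsCofilteredOrEmpty.cone_objs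
    (Φ.fiber.elementsMk _ (downTo a z)) (Φ.fiber.elementsMk _ (downTo b z'))
  let C : Tot Y := ⟨m, T⟩
  let y : (Scheme.pointSmallEtale ξ).fiber.obj ((bcTot c).obj C) := (EtFound.bcFiberEquiv (c.π.app m) ξ T).symm w
  have key : ∀ (D : Tot Y) (d : m ⟶ D.st) (zD : (Scheme.pointSmallEtale ξ).fiber.obj ((bcTot c).obj D))
      (r : T ⟶ (bcObj D d).obj), Φ.fiber.map r w = downTo d zD →
      (Scheme.pointSmallEtale ξ).fiber.map ((bcTot c).map ((incl Y m).map r ≫ proj D d)) y = zD := by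
    intro D d zD r hr
    refine (EtFound.bcFiberEquiv (c.π.app D.st) ξ D.obj).injective (CategoryTheory.Over.OverMorphism.ext ?_)
    show ((y.left : Spec (CommRingCat.of Ω) ⟶ _) ≫ ((bcTot c).map ((incl Y m).map r ≫ proj D d)).left) ≫
        pullback.fst D.obj.hom (c.π.app D.st) =
      (zD.left : Spec (CommRingCat.of Ω) ⟶ ((bcTot c).obj D).left) ≫ pullback.fst D.obj.hom (c.π.app D.st)
    rw [Category.assoc, bcTot_map_fst, ← Category.assoc]
    show ((y.left : Spec (CommRingCat.of Ω) ⟶ _) ≫ pullback.fst T.hom (c.π.app m)) ≫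
        r.left ≫ pullback.fst D.obj.hom (Y.map d) = _
    have e0 : (y.left : Spec (CommRingCat.of Ω) ⟶ ((bcTot c).obj C).left) ≫ pullback.fst T.hom (c.π.app m) =
        (w.left : Spec (CommRingCat.of Ω) ⟶ T.left) := pullback.lift_fst _ _ _
    refine ((congrArg (· ≫ (r.left ≫ pullback.fst D.obj.hom (Y.map d))) e0).trans (Category.assoc _ _ _).symm).trans ?_
    refine (congrArg (· ≫ pullback.fst D.obj.hom (Y.map d)) (congrArg (fun k => k.left) hr)).trans ?_
    exact (Category.assoc _ _ _).trans (congrArg (_ ≫ ·) (toStage_fst D d))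
  exact ⟨C, (incl Y m).map p ≫ proj A a, (incl Y m).map q ≫ proj B b, y, key A a z p hp, key B b z' q hq⟩

end points

end Groth.Agent.EtLimCore
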