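import Groth.Agent.EtLimCore.Degree0

/-!
# Sections of the limit sheaf come from a stage
-/

set_option autoImplicit false
set_option maxHeartbeats 800000

universe u

open CategoryTheory CategoryTheory.Limits AlgebraicGeometry Opposite TopologicalSpace

namespace Groth.Agent.EtLimCore

set_option backward.isDefEq.respectTransparency false
set_option backward.isDefEq.respectTransparency.types false

variable {I : Type u} [SmallCategory I] {Y : I ⥤ Scheme.{u}} {c : Cone Y}
  [∀ {i j : I} (f : i ⟶ j), IsAffineHom (Y.map f)]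

theorem bcTot_proj_surjective (A : Tot Y) {l : I} (a : l ⟶ A.st) (x : ((bcTot c).obj A).left) :
    ∃ e, ((bcTot c).map (proj A a)).left.base e = x :=
  ⟨(inv ((bcTot c).map (proj A a))).left.base x, (Scheme.Hom.comp_apply _ _ _).symm.trans
    (congrArg (fun k : ((bcTot c).obj A).left ⟶ _ => k.base x)
      ((congrArg (fun k => k.left) (IsIso.inv_hom_id ((bcTot c).map (proj A a)))) :))⟩

theorem bcTot_map_toStage {A B : Tot Y} (f : B ⟶ A) {l : I} (a : l ⟶ A.st) (b : l ⟶ B.st) (h : b ≫ f.a = a)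
    (r : (bcObj B b).obj.left ⟶ (bcObj A a).obj.left)
    (hr₁ : r ≫ pullback.fst A.obj.hom (Y.map a) = pullback.fst B.obj.hom (Y.map b) ≫ f.g)
    (hr₂ : r ≫ pullback.snd A.obj.hom (Y.map a) = pullback.snd B.obj.hom (Y.map b)) :
    ((bcTot c).map f).left ≫ toStage c A a = toStage c B b ≫ r := by
  apply pullback.hom_ext (f := A.obj.hom) (g := Y.map a)
  · refine ((Category.assoc _ _ _).trans (congrArg (_ ≫ ·) (toStage_fst A a))).trans ?_
    refine (bcTot_map_fst c f).trans (Eq.symm ?_)
    rw [Category.assoc, hr₁, ← Category.assoc]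
    exact congrArg (· ≫ f.g) (toStage_fst B b)
  · refine ((Category.assoc _ _ _).trans (congrArg (_ ≫ ·) (toStage_snd A a))).trans ?_
    refine ((Category.assoc _ _ _).symm.trans (congrArg (· ≫ c.π.app l) (bcTot_map_snd c f))).trans ?_
    exact ((Category.assoc _ _ _).trans (congrArg (_ ≫ ·) hr₂) |>.trans (toStage_snd B b)).symm

/-- the fibre product of two étale schemes over a third, over a fixed stage -/
noncomputable def fibObj {l : I} {U V W : (Y.obj l).Etale} (p : U ⟶ W) (q : V ⟶ W) : Tot Y :=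
  haveI : AlgebraicGeometry.Etale q.left := EtFound.etale_left q
  haveI : AlgebraicGeometry.Etale U.hom := U.prop
  haveI : AlgebraicGeometry.Etale (pullback.fst p.left q.left) :=
    MorphismProperty.pullback_fst (P := @AlgebraicGeometry.Etale) _ _ inferInstance
  ⟨l, Scheme.Etale.mk (pullback.fst p.left q.left ≫ U.hom)⟩

theorem isQcqsObj_fibObj {l : I} {U V W : (Y.obj l).Etale} (p : U ⟶ W) (q : V ⟶ W) [IsAffine U.left]
    [IsAffine V.left] [QuasiSeparatedSpace W.left] : EtFound.IsQcqsObj (fibObj p q).obj := by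
  have h1 : QuasiCompact (pullback.fst p.left q.left) :=
    MorphismProperty.pullback_fst (P := @QuasiCompact) _ _ (quasiCompact_of_compactSpace q.left)
  have h2 : QuasiSeparated (pullback.fst p.left q.left) :=
    MorphismProperty.pullback_fst (P := @QuasiSeparated) _ _ inferInstance
  exact ⟨QuasiCompact.compactSpace_of_compactSpace (pullback.fst p.left q.left),
    quasiSeparatedSpace_of_quasiSeparated (pullback.fst p.left q.left)⟩

variable [IsCofiltered I] (S : Sys c)

/-- every section of the limit sheaf comes from a stage -/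
theorem exists_rep (hc : IsLimit c) (hS : S.IsColim) {A : Tot Y} (hA : EtFound.IsQcqsObj A.obj)
    (s : S.M.obj.obj (op ((bcTot c).obj A))) :
    ∃ (l : I) (a : l ⟶ A.st) (t : S.F.obj (op (bcObj A a))),
      S.ψ.app (op (bcObj A a)) t = S.M.obj.map ((bcTot c).map (proj A a)).op s := by
  classical
  choose B hB f t hx ht using fun x => exists_rep_local S hc hS s x
  have hcomp : CompactSpace ((bcTot c).obj A).left :=
    have : ∀ {i j : Over A.st} (f : i ⟶ j), IsAffineHom ((diag A).map f) := fun f => isAffineHom_diag_map A f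
    have : ∀ n : Over A.st, CompactSpace ((diag A).obj n) := fun n => (isQcqsObj_bcObj hA n.hom).1
    Scheme.compactSpace_of_isLimit (diag A) (diagCone c A) (isLimitDiagCone hc A)
  obtain ⟨K, hK⟩ := (isCompact_univ (X := ↥((bcTot c).obj A).left)).elim_finite_subcover
    (fun x => Set.range ((bcTot c).map (f x)).left.base)
    (fun x => by
      have : AlgebraicGeometry.Etale ((bcTot c).map (f x)).left := EtFound.etale_left _
      exact ((bcTot c).map (f x)).left.isOpenMap.isOpen_range)
    (fun x _ => Set.mem_iUnion_of_mem x (hx x))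
  obtain ⟨N, hN⟩ := IsCofiltered.inf_objs_exists (insert (Over.mk (𝟙 A.st)) (K.image fun x => Over.mk (f x).a))
  have hu : ∀ x : K, ∃ u : N.left ⟶ (B x.1).st, u ≫ (f x.1).a = N.hom := fun x => by
    obtain ⟨g⟩ := hN (Finset.mem_insert_of_mem (Finset.mem_image_of_mem (fun x => Over.mk (f x).a) x.2))
    exact ⟨g.left, Over.w g⟩
  choose u hu using hu
  let r : ∀ x : K, (bcObj (B x.1) (u x)).obj ⟶ (bcObj A N.hom).obj := fun x =>
    MorphismProperty.Over.homMk (pullback.lift (pullback.fst (B x.1).obj.hom (Y.map (u x)) ≫ (f x.1).g)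
      (pullback.snd (B x.1).obj.hom (Y.map (u x)))
      (by rw [Category.assoc, (f x.1).w, pullback.condition_assoc, ← Y.map_comp, hu x]))
      (pullback.lift_snd _ _ _)
  have hcomm : ∀ x : K, ((bcTot c).map (f x.1)).left ≫ toStage c A N.hom = toStage c (B x.1) (u x) ≫ (r x).left :=
    fun x => bcTot_map_toStage (f x.1) N.hom (u x) (hu x) (r x).left (pullback.lift_fst _ _ _) (pullback.lift_snd _ _ _)
  let U : ((diag A).obj N).Opens := ⟨⋃ x : K, Set.range (r x).left.base, isOpen_iUnion fun x => by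
    have : AlgebraicGeometry.Etale (r x).left := EtFound.etale_left _
    exact (r x).left.isOpenMap.isOpen_range⟩
  obtain ⟨n, v, hv⟩ := exists_stage_top hc A hA N U fun x => by
    obtain ⟨j, hj, y, hy⟩ : ∃ j ∈ K, x ∈ Set.range ((bcTot c).map (f j)).left.base := by
      have := hK (Set.mem_univ x)
      simp only [Set.mem_iUnion] at this
      obtain ⟨j, hj, hxj⟩ := this
      exact ⟨j, hj, hxj⟩
    refine Set.mem_iUnion.2 ⟨⟨j, hj⟩, (toStage c (B j) (u ⟨j, hj⟩)).base y, ?_⟩
    refine (Scheme.Hom.comp_apply _ _ _).symm.trans ?_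
    rw [← hcomm ⟨j, hj⟩, Scheme.Hom.comp_apply]
    exact congrArg (toStage c A N.hom).base hy
  have hn : ∀ x : K, (v.left ≫ u x) ≫ (f x.1).a = n.hom := fun x => by
    rw [Category.assoc, hu x, Over.w v]
  let e : ∀ x : K, (bcObj (B x.1) (v.left ≫ u x)).obj ⟶ (bcObj A n.hom).obj := fun x =>
    MorphismProperty.Over.homMk (pullback.lift (pullback.fst (B x.1).obj.hom (Y.map (v.left ≫ u x)) ≫ (f x.1).g)
      (pullback.snd (B x.1).obj.hom (Y.map (v.left ≫ u x)))
      (by rw [Category.assoc, (f x.1).w, pullback.condition_assoc, ← Y.map_comp, hn x]))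
      (pullback.lift_snd _ _ _)
  have he : ∀ x : K, (incl Y n.left).map (e x) ≫ proj A n.hom = proj (B x.1) (v.left ≫ u x) ≫ f x.1 := fun x =>
    hom_ext' ((Category.id_comp _).trans (hn x).symm) (pullback.lift_fst _ _ _)
  have hcov : ∀ q : (bcObj A n.hom).obj.left, ∃ (x : K) (p : (bcObj (B x.1) (v.left ≫ u x)).obj.left),
      (e x).left.base p = q := by
    intro q
    obtain ⟨x, b, hb⟩ := Set.mem_iUnion.1 (hv q)
    obtain ⟨Ω, _, _, η, hη⟩ := EtFound.exists_geomPoint (X := (bcObj A n.hom).obj.left) q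
    have : AlgebraicGeometry.Etale (r x).left := EtFound.etale_left _
    obtain ⟨lb, hlb, -⟩ := Scheme.exists_fac_of_etale_of_isSepClosed (r x).left (η ≫ (diag A).map v) b (by
      rw [hb, Scheme.Hom.comp_apply]
      exact congrArg ((diag A).map v).base hη.symm)
    have hfst : lb ≫ pullback.fst (B x.1).obj.hom (Y.map (u x)) ≫ (f x.1).g =
        η ≫ pullback.fst A.obj.hom (Y.map n.hom) := by
      have h1 := congrArg (· ≫ pullback.fst A.obj.hom (Y.map N.hom)) hlb
      simp only [Category.assoc] at h1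
      refine Eq.trans ?_ (h1.trans (congrArg (η ≫ ·) (pullback.lift_fst _ _ _)))
      exact congrArg (lb ≫ ·) (pullback.lift_fst _ _ _).symm
    have hsnd : (lb ≫ pullback.fst (B x.1).obj.hom (Y.map (u x))) ≫ (B x.1).obj.hom =
        (η ≫ pullback.snd A.obj.hom (Y.map n.hom)) ≫ Y.map (v.left ≫ u x) := by
      have h1 := congrArg (· ≫ pullback.snd A.obj.hom (Y.map N.hom)) hlb
      simp only [Category.assoc] at h1
      rw [Category.assoc, pullback.condition, Y.map_comp]
      have h2 : lb ≫ pullback.snd (B x.1).obj.hom (Y.map (u x)) =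
          η ≫ pullback.snd A.obj.hom (Y.map n.hom) ≫ Y.map v.left :=
        (congrArg (lb ≫ ·) (pullback.lift_snd _ _ _).symm).trans
          (h1.trans (congrArg (η ≫ ·) (pullback.lift_snd _ _ _)))
      simp only [← Category.assoc] at h2 ⊢
      rw [h2]
    let p := pullback.lift (lb ≫ pullback.fst (B x.1).obj.hom (Y.map (u x))) (η ≫ pullback.snd A.obj.hom (Y.map n.hom)) hsnd
    refine ⟨x, p.base default, ?_⟩
    refine (Scheme.Hom.comp_apply _ _ _).symm.trans ?_
    refine (congrArg (fun k : Spec (CommRingCat.of Ω) ⟶ (bcObj A n.hom).obj.left => k.base default)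
      (?_ : p ≫ (e x).left = η)).trans hη
    apply pullback.hom_ext (f := A.obj.hom) (g := Y.map n.hom)
    · refine ((Category.assoc _ _ _).trans (congrArg (p ≫ ·) (pullback.lift_fst _ _ _))).trans ?_
      exact ((Category.assoc _ _ _).symm.trans (congrArg (· ≫ (f x.1).g) (pullback.lift_fst _ _ _))).trans
        ((Category.assoc _ _ _).trans hfst)
    · exact ((Category.assoc _ _ _).trans (congrArg (p ≫ ·) (pullback.lift_snd _ _ _))).trans
        (pullback.lift_snd _ _ _)
  let T : ∀ x : K, S.F.obj (op (bcObj (B x.1) (v.left ≫ u x))) := fun x =>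
    S.F.map (proj (B x.1) (v.left ≫ u x)).op (t x.1)
  have haff : ∀ x : K, IsAffine (bcObj (B x.1) (v.left ≫ u x)).obj.left := fun x => by
    have : IsAffine ((𝟭 Scheme.{u}).obj (B x.1).obj.left) := hB x.1
    have : IsAffineHom (pullback.fst (B x.1).obj.hom (Y.map (v.left ≫ u x))) :=
      MorphismProperty.pullback_fst (P := @IsAffineHom) _ _ inferInstance
    exact isAffine_of_isAffineHom (pullback.fst (B x.1).obj.hom (Y.map (v.left ≫ u x)))
  have hqs : QuasiSeparatedSpace (bcObj A n.hom).obj.left := (isQcqsObj_bcObj hA n.hom).2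
  let P : K × K → Tot Y := fun p => fibObj (e p.1) (e p.2)
  let π₁ : ∀ p : K × K, P p ⟶ bcObj (B p.1.1) (v.left ≫ u p.1) := fun p =>
    ⟨𝟙 _, pullback.fst (e p.1).left (e p.2).left,
      ((congrArg (_ ≫ ·) (Y.map_id n.left)).trans (Category.comp_id _)).symm⟩
  let π₂ : ∀ p : K × K, P p ⟶ bcObj (B p.2.1) (v.left ≫ u p.2) := fun p =>
    ⟨𝟙 _, pullback.snd (e p.1).left (e p.2).left, by
      refine Eq.trans ?_ ((congrArg (_ ≫ ·) (Y.map_id n.left)).trans (Category.comp_id _)).symm
      show pullback.snd (e p.1).left (e p.2).left ≫ (bcObj (B p.2.1) (v.left ≫ u p.2)).obj.hom =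
        pullback.fst (e p.1).left (e p.2).left ≫ (bcObj (B p.1.1) (v.left ≫ u p.1)).obj.hom
      rw [← MorphismProperty.Over.w (e p.1), ← MorphismProperty.Over.w (e p.2), pullback.condition_assoc]⟩
  have hπ : ∀ p : K × K, (π₁ p ≫ proj (B p.1.1) (v.left ≫ u p.1)) ≫ f p.1.1 =
      (π₂ p ≫ proj (B p.2.1) (v.left ≫ u p.2)) ≫ f p.2.1 := fun p => by
    rw [Category.assoc, Category.assoc, ← he, ← he]
    refine hom_ext' rfl ?_
    show pullback.fst (e p.1).left (e p.2).left ≫ (e p.1).left ≫ pullback.fst A.obj.hom (Y.map n.hom) =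
      pullback.snd (e p.1).left (e p.2).left ≫ (e p.2).left ≫ pullback.fst A.obj.hom (Y.map n.hom)
    rw [pullback.condition_assoc]
  let d : ∀ p : K × K, S.F.obj (op (P p)) := fun p => S.F.map (π₁ p).op (T p.1) - S.F.map (π₂ p).op (T p.2)
  have hψ : ∀ {C D : Tot Y} (g : C ⟶ D) (w : S.F.obj (op D)),
      S.ψ.app (op C) (S.F.map g.op w) = S.M.obj.map ((bcTot c).map g).op (S.ψ.app (op D) w) := fun g w =>
    ConcreteCategory.congr_hom (S.ψ.naturality g.op) w
  have hMmap : ∀ {C D E : Tot Y} (g : C ⟶ D) (h : D ⟶ E) (w : S.M.obj.obj (op ((bcTot c).obj E))),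
      S.M.obj.map ((bcTot c).map g).op (S.M.obj.map ((bcTot c).map h).op w) =
        S.M.obj.map ((bcTot c).map (g ≫ h)).op w := fun g h w =>
    ((ConcreteCategory.comp_apply _ _ w).symm.trans (ConcreteCategory.congr_hom
      (show S.M.obj.map ((bcTot c).map h).op ≫ S.M.obj.map ((bcTot c).map g).op =
        S.M.obj.map ((bcTot c).map (g ≫ h)).op by rw [← S.M.obj.map_comp, ← op_comp, ← Functor.map_comp]) w))
  have hd : ∀ p : K × K, S.ψ.app (op (P p)) (d p) = 0 := fun p => by
    rw [map_sub, sub_eq_zero, hψ, hψ, hψ, hψ, hMmap, hMmap, ht, ht, hMmap, hMmap, hπ]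
  choose m a ha using fun p => exists_eq_zero S hc hS (A := P p)
    (haveI := haff p.1; haveI := haff p.2; haveI := hqs; isQcqsObj_fibObj (e p.1) (e p.2)) (d p) (hd p)
  obtain ⟨L, hL⟩ := IsCofiltered.inf_objs_exists
    (insert (Over.mk (𝟙 n.left)) (Finset.univ.image fun p : K × K => Over.mk (a p)))
  have ha' : ∀ p : K × K, S.F.map (proj (P p) L.hom).op (d p) = 0 := fun p => by
    obtain ⟨g⟩ := hL (Finset.mem_insert_of_mem
      (Finset.mem_image_of_mem (fun p : K × K => Over.mk (a p)) (Finset.mem_univ p)))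
    have hw : g.left ≫ a p = L.hom := Over.w g
    rw [← hw, ← bcMap_proj (P p) (a p) g.left, op_comp, S.F.map_comp, ConcreteCategory.comp_apply, ha, map_zero]
  let N' := bcObj (bcObj A n.hom) L.hom
  let D : ∀ x : K, Tot Y := fun x => bcObj (bcObj (B x.1) (v.left ≫ u x)) L.hom
  let g : ∀ x : K, (D x).obj ⟶ N'.obj := fun x => (EtCoh.bc (Y.map L.hom)).map (e x)
  have hg : ∀ x : K, (incl Y L.left).map (g x) ≫ proj (bcObj A n.hom) L.hom =
      proj (bcObj (B x.1) (v.left ≫ u x)) L.hom ≫ (incl Y n.left).map (e x) := fun x =>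
    hom_ext' ((Category.id_comp _).trans (Category.comp_id _).symm)
      (EtCoh.isPullback_bc_map (Y.map L.hom) (e x)).w
  let T' : ∀ x : K, (S.sheaf L.left).obj.obj (op (D x).obj) := fun x =>
    S.F.map (proj (bcObj (B x.1) (v.left ≫ u x)) L.hom).op (T x)
  have hcompat : Presieve.Arrows.Compatible ((S.sheaf L.left).obj ⋙ forget AddCommGrpCat.{u + 1}) g T' := by
    intro x y Z gi gj hZ
    let h : (⟨L.left, Z⟩ : Tot Y) ⟶ P (x, y) := ⟨L.hom,
      pullback.lift (gi.left ≫ pullback.fst _ (Y.map L.hom)) (gj.left ≫ pullback.fst _ (Y.map L.hom)) (by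
        rw [Category.assoc, Category.assoc, ← (EtCoh.isPullback_bc_map (Y.map L.hom) (e x)).w,
          ← (EtCoh.isPullback_bc_map (Y.map L.hom) (e y)).w, ← Category.assoc, ← Category.assoc]
        exact congrArg (· ≫ pullback.fst (bcObj A n.hom).obj.hom (Y.map L.hom)) (congrArg (fun k => k.left) hZ)),
      by
        show pullback.lift _ _ _ ≫ pullback.fst (e x).left (e y).left ≫ (bcObj (B x.1) (v.left ≫ u x)).obj.hom = _
        rw [pullback.lift_fst_assoc, Category.assoc, pullback.condition, ← Category.assoc]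
        exact congrArg (· ≫ Y.map L.hom) (MorphismProperty.Over.w gi)⟩
    have h0 : S.F.map h.op (d (x, y)) = 0 := by
      rw [← factor_fac h, op_comp, S.F.map_comp, ConcreteCategory.comp_apply]
      exact (congrArg _ (ha' (x, y))).trans (map_zero _)
    have e1 : h ≫ π₁ (x, y) = (incl Y L.left).map gi ≫ proj (bcObj (B x.1) (v.left ≫ u x)) L.hom :=
      hom_ext' ((Category.comp_id _).trans (Category.id_comp _).symm) (pullback.lift_fst _ _ _)
    have e2 : h ≫ π₂ (x, y) = (incl Y L.left).map gj ≫ proj (bcObj (B y.1) (v.left ≫ u y)) L.hom :=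
      hom_ext' ((Category.comp_id _).trans (Category.id_comp _).symm) (pullback.lift_snd _ _ _)
    rw [map_sub, sub_eq_zero] at h0
    show S.F.map ((incl Y L.left).map gi).op (T' x) = S.F.map ((incl Y L.left).map gj).op (T' y)
    refine ((ConcreteCategory.comp_apply _ _ (T x)).symm.trans ?_).trans
      (ConcreteCategory.comp_apply _ _ (T y))
    rw [← S.F.map_comp, ← S.F.map_comp, ← op_comp, ← op_comp, ← e1, ← e2, op_comp, op_comp, S.F.map_comp,
      S.F.map_comp, ConcreteCategory.comp_apply, ConcreteCategory.comp_apply]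
    exact h0
  have hmem : Sieve.ofArrows _ g ∈ (Y.obj L.left).smallEtaleTopology N'.obj := by
    rw [EtFound.mem_topology_iff]
    intro q
    obtain ⟨x, p, hp⟩ := hcov ((pullback.fst (bcObj A n.hom).obj.hom (Y.map L.hom)).base q)
    have sq := EtCoh.isPullback_bc_map (Y.map L.hom) (e x)
    obtain ⟨w, hw, -⟩ := Scheme.Pullback.exists_preimage_pullback
      (f := pullback.fst (bcObj A n.hom).obj.hom (Y.map L.hom)) (g := (e x).left) q p hp.symm
    refine ⟨_, g x, sq.isoPullback.inv.base w, ⟨_, 𝟙 _, g x, ⟨x⟩, Category.id_comp _⟩, ?_⟩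
    refine (Scheme.Hom.comp_apply _ _ _).symm.trans ?_
    exact (congrArg (fun k : _ ⟶ N'.obj.left => k.base w) sq.isoPullback_inv_fst).trans hw
  obtain ⟨τ, hτ, -⟩ := (Presieve.isSheafFor_arrows_iff _ _).1
    ((Presieve.isSheafFor_iff_generate _).2 ((((isSheaf_iff_isSheaf_of_type _ _).1
      ((sheafCompose (Y.obj L.left).smallEtaleTopology (forget AddCommGrpCat.{u + 1})).obj
        (S.sheaf L.left)).property)) _ hmem)) T' hcompat
  let q : N' ⟶ bcObj A (L.hom ≫ n.hom) := ⟨𝟙 _,
    pullback.lift (pullback.fst _ _ ≫ pullback.fst A.obj.hom (Y.map n.hom)) (pullback.snd _ _)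
      (((Category.assoc _ _ _).trans (congrArg (_ ≫ ·) pullback.condition)).trans
        ((Category.assoc _ _ _).symm.trans ((congrArg (· ≫ Y.map n.hom) (pullback.condition
          (f := (bcObj A n.hom).obj.hom) (g := Y.map L.hom))).trans
          ((Category.assoc _ _ _).trans (congrArg (_ ≫ ·) (Y.map_comp _ _).symm))))),
    (pullback.lift_snd _ _ _).trans ((congrArg (_ ≫ ·) (Y.map_id L.left)).trans (Category.comp_id _)).symm⟩
  let j : bcObj A (L.hom ≫ n.hom) ⟶ N' :=
    (incl Y L.left).map (factor (bcMap A n.hom L.hom))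
  refine ⟨L.left, L.hom ≫ n.hom, S.F.map j.op τ, ?_⟩
  have key : S.ψ.app (op N') τ = S.M.obj.map ((bcTot c).map (proj (bcObj A n.hom) L.hom ≫ proj A n.hom)).op s := by
    refine eq_of_germs S.M _ _ fun Ω _ _ ξ z => ?_
    obtain ⟨x₀, hx₀⟩ : ∃ x₀, x₀ = ((bcTot c).map (proj (bcObj A n.hom) L.hom ≫ proj A n.hom)).left.base
      (EtFound.ptOf z) := ⟨_, rfl⟩
    obtain ⟨xK, hxK, y, hy⟩ : ∃ j ∈ K, x₀ ∈ Set.range ((bcTot c).map (f j)).left.base := by
      have := hK (Set.mem_univ x₀)
      simp only [Set.mem_iUnion] at this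
      obtain ⟨j, hj, hxj⟩ := this
      exact ⟨j, hj, hxj⟩
    let x : K := ⟨xK, hxK⟩
    obtain ⟨y₁, hy₁⟩ := bcTot_proj_surjective (c := c) (B x.1) (v.left ≫ u x) y
    obtain ⟨y₂, hy₂⟩ := bcTot_proj_surjective (c := c) (bcObj (B x.1) (v.left ≫ u x)) L.hom y₁
    let k := (bcTot c).map ((incl Y L.left).map (g x))
    have hinj : Function.Injective
        ((bcTot c).map (proj (bcObj A n.hom) L.hom ≫ proj A n.hom)).left.base := by
      rw [Functor.map_comp]
      exact (((Scheme.Etale.forget c.pt ⋙ Over.forget c.pt).mapIso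
        (asIso ((bcTot c).map (proj (bcObj A n.hom) L.hom)) ≪≫ asIso ((bcTot c).map (proj A n.hom)))).hom).isOpenEmbedding.injective
    have hcx : ((incl Y L.left).map (g x) ≫ proj (bcObj A n.hom) L.hom) ≫ proj A n.hom =
        (proj (bcObj (B x.1) (v.left ≫ u x)) L.hom ≫ proj (B x.1) (v.left ≫ u x)) ≫ f x.1 := by
      rw [hg, Category.assoc, he, ← Category.assoc]
    have hk : k.left.base y₂ = EtFound.ptOf z := by
      refine hinj (Eq.trans ?_ hx₀)
      refine (Scheme.Hom.comp_apply _ _ _).symm.trans ?_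
      have : k.left ≫ ((bcTot c).map (proj (bcObj A n.hom) L.hom ≫ proj A n.hom)).left =
          (((bcTot c).map (proj (bcObj (B x.1) (v.left ≫ u x)) L.hom)).left ≫
            ((bcTot c).map (proj (B x.1) (v.left ≫ u x))).left) ≫ ((bcTot c).map (f x.1)).left := by
        show (k ≫ (bcTot c).map _).left = (((bcTot c).map _ ≫ (bcTot c).map _) ≫ (bcTot c).map _).left
        rw [← Functor.map_comp, ← Functor.map_comp, ← Functor.map_comp, ← Category.assoc, hcx]
      rw [this, Scheme.Hom.comp_apply, Scheme.Hom.comp_apply]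
      exact (congrArg _ ((congrArg _ hy₂).trans hy₁)).trans hy
    obtain ⟨z', hz', -⟩ := EtFound.exists_lift_point k z y₂ hk
    rw [← hz']
    refine ((Scheme.pointSmallEtale ξ).toPresheafFiber_w_apply k z' S.M.obj _).symm.trans (Eq.trans ?_
      ((Scheme.pointSmallEtale ξ).toPresheafFiber_w_apply k z' S.M.obj _))
    refine congrArg _ ?_
    have h1 : S.F.map ((incl Y L.left).map (g x)).op τ = T' x := hτ x
    refine (hψ ((incl Y L.left).map (g x)) τ).symm.trans ((congrArg (S.ψ.app (op (D x))) h1).trans ?_)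
    refine Eq.trans ?_ (hMmap ((incl Y L.left).map (g x)) (proj (bcObj A n.hom) L.hom ≫ proj A n.hom) s).symm
    refine (hψ (proj (bcObj (B x.1) (v.left ≫ u x)) L.hom) (T x)).trans ?_
    refine (congrArg _ ((hψ (proj (B x.1) (v.left ≫ u x)) (t x.1)).trans
      ((congrArg _ (ht x.1)).trans (hMmap _ _ s)))).trans ((hMmap _ _ s).trans ?_)
    refine congrArg (fun k => S.M.obj.map ((bcTot c).map k).op s) ?_
    rw [← Category.assoc, ← hcx, Category.assoc]
  refine (hψ j τ).trans ((congrArg _ key).trans ((hMmap j _ s).trans ?_))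
  refine congrArg (fun k => S.M.obj.map ((bcTot c).map k).op s) (hom_ext' ?_ ?_)
  · show 𝟙 L.left ≫ L.hom ≫ n.hom = L.hom ≫ n.hom
    exact Category.id_comp _
  · show (factor (bcMap A n.hom L.hom)).left ≫ pullback.fst _ _ ≫ pullback.fst A.obj.hom (Y.map n.hom) =
      pullback.fst A.obj.hom (Y.map (L.hom ≫ n.hom))
    refine ((Category.assoc _ _ _).symm.trans (congrArg (· ≫ _) (pullback.lift_fst _ _ _))).trans ?_
    exact pullback.lift_fst _ _ _

end Groth.Agent.EtLimCore
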