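import Groth.Agent.EtLimCore.Efface
import Groth.Agent.EtLimCore.PullThen

/-!
# Étale cohomology of a limit of schemes is the colimit of the cohomology of the stages
-/

set_option autoImplicit false
set_option maxHeartbeats 800000

universe u

open CategoryTheory CategoryTheory.Limits AlgebraicGeometry Opposite TopologicalSpace CategoryTheory.Abelian

namespace Groth.Agent.EtLimCore

set_option backward.isDefEq.respectTransparency false
set_option backward.isDefEq.respectTransparency.types false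

variable {I : Type u} [SmallCategory I] {Y : I ⥤ Scheme.{u}} (c : Cone Y)

/-- pullback of a stage to the colimit sheaf -/
noncomputable def θ (k : I) (F : TotSh Y) :
    (EtCoh.pull (c.π.app k)).obj ((res Y k).obj F) ⟶ (totToLim c).obj F :=
  ((EtCoh.pullPushAdj (c.π.app k)).homEquiv _ _).symm (stageMap c k F)

theorem θ_natural (k : I) {F G : TotSh Y} (φ : F ⟶ G) :
    θ c k F ≫ (totToLim c).map φ = (EtCoh.pull (c.π.app k)).map ((res Y k).map φ) ≫ θ c k G := by
  rw [θ, θ, ← Adjunction.homEquiv_naturality_left_symm, ← Adjunction.homEquiv_naturality_right_symm,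
    stageMap_natural]

/-- pullback of a stage to a later one -/
noncomputable def τ {k l : I} (a : l ⟶ k) (F : TotSh Y) :
    (EtCoh.pull (Y.map a)).obj ((res Y k).obj F) ⟶ (res Y l).obj F :=
  ((EtCoh.pullPushAdj (Y.map a)).homEquiv _ _).symm ((sys c F).φ a)

theorem τ_natural {k l : I} (a : l ⟶ k) {F G : TotSh Y} (φ : F ⟶ G) :
    τ c a F ≫ (res Y l).map φ = (EtCoh.pull (Y.map a)).map ((res Y k).map φ) ≫ τ c a G := by
  rw [τ, τ, ← Adjunction.homEquiv_naturality_left_symm, ← Adjunction.homEquiv_naturality_right_symm]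
  refine congrArg ((EtCoh.pullPushAdj (Y.map a)).homEquiv _ _).symm
    (Sheaf.hom_ext (J := (Y.obj k).smallEtaleTopology) ?_)
  ext W : 2
  exact φ.hom.naturality (proj (⟨k, W.unop⟩ : Tot Y) a).op

variable [∀ j, PreservesFiniteLimits (EtCoh.pull (c.π.app j))]
  [∀ {i j : I} (f : i ⟶ j), PreservesFiniteLimits (EtCoh.pull (Y.map f))]

/-- from a stage to the limit -/
noncomputable abbrev limH (k : I) (F : TotSh Y) (n : ℕ) :
    EtCoh.H (Y.obj k) ((res Y k).obj F) n →+ EtCoh.H c.pt ((totToLim c).obj F) n :=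
  EtLim.HpullThen (c.π.app k) ((res Y k).obj F) (θ c k F) n

/-- from a stage to a later one -/
noncomputable abbrev transH {k l : I} (a : l ⟶ k) (F : TotSh Y) (n : ℕ) :
    EtCoh.H (Y.obj k) ((res Y k).obj F) n →+ EtCoh.H (Y.obj l) ((res Y l).obj F) n :=
  EtLim.HpullThen (Y.map a) ((res Y k).obj F) (τ c a F) n

/-- the top pair at a stage -/
noncomputable abbrev topAt (k : I) : Tot Y := ⟨k, EtCoh.top (Y.obj k)⟩

/-- degree zero classes as sections -/
noncomputable abbrev sec (k : I) (F : TotSh Y) :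
    EtCoh.H (Y.obj k) ((res Y k).obj F) 0 ≃+ F.obj.obj (op (topAt k)) :=
  Sheaf.H.equiv₀ ((res Y k).obj F) (EtCore.topIsTerminal (Y.obj k))

omit [∀ {i j : I} (f : i ⟶ j), PreservesFiniteLimits (EtCoh.pull (Y.map f))] in
theorem equiv₀_limH (k : I) (F : TotSh Y) (ξ : EtCoh.H (Y.obj k) ((res Y k).obj F) 0) :
    Sheaf.H.equiv₀ ((totToLim c).obj F) (EtCore.topIsTerminal c.pt) (limH c k F 0 ξ) =
      ((totToLim c).obj F).obj.map (EtCore.bcTopIso (c.π.app k)).inv.op
        ((sys c F).ψ.app (op (topAt k)) (sec k F ξ)) := by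
  refine (equiv₀_HpullThen (c.π.app k) (θ c k F) ξ).trans (congrArg _ ?_)
  rw [θ, Equiv.apply_symm_apply]
  rfl

omit [∀ j, PreservesFiniteLimits (EtCoh.pull (c.π.app j))] in
theorem sec_transH {k l : I} (a : l ⟶ k) (F : TotSh Y) (ξ : EtCoh.H (Y.obj k) ((res Y k).obj F) 0) :
    sec l F (transH c a F 0 ξ) =
      F.obj.map ((incl Y l).map (EtCore.bcTopIso (Y.map a)).inv ≫ proj (topAt k) a).op (sec k F ξ) := by
  refine (equiv₀_HpullThen (Y.map a) (τ c a F) ξ).trans ?_
  rw [τ, Equiv.apply_symm_apply, op_comp, F.obj.map_comp]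
  rfl

variable [∀ {i j : I} (f : i ⟶ j), IsAffineHom (Y.map f)] [IsCofiltered I]
  [∀ i, CompactSpace (Y.obj i)] [∀ i, QuasiSeparatedSpace (Y.obj i)]

omit [∀ j, PreservesFiniteLimits (EtCoh.pull (c.π.app j))]
  [∀ {i j : I} (f : i ⟶ j), PreservesFiniteLimits (EtCoh.pull (Y.map f))]
  [∀ {i j : I} (f : i ⟶ j), IsAffineHom (Y.map f)] [IsCofiltered I] in
theorem isQcqsObj_topAt (k : I) : EtFound.IsQcqsObj (topAt (Y := Y) k).obj :=
  EtFound.isQcqsObj_of_iso (Iso.refl (EtCoh.top (Y.obj k)))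
    ⟨inferInstanceAs (CompactSpace (Y.obj k)), inferInstanceAs (QuasiSeparatedSpace (Y.obj k))⟩

theorem exists_transH_eq_zero_zero (hc : IsLimit c) (F : TotSh Y) (k : I)
    (ξ : EtCoh.H (Y.obj k) ((res Y k).obj F) 0) (h : limH c k F 0 ξ = 0) :
    ∃ (l : I) (a : l ⟶ k), transH c a F 0 ξ = 0 := by
  have h0 := congrArg (Sheaf.H.equiv₀ ((totToLim c).obj F) (EtCore.topIsTerminal c.pt)) h
  rw [map_zero, equiv₀_limH] at h0
  have h1 : (sys c F).ψ.app (op (topAt k)) (sec k F ξ) = 0 := by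
    have := congrArg (((totToLim c).obj F).obj.map (EtCore.bcTopIso (c.π.app k)).hom.op) h0
    rw [map_zero] at this
    refine Eq.trans ?_ this
    refine Eq.trans ?_ (ConcreteCategory.comp_apply _ _ _)
    rw [← ((totToLim c).obj F).obj.map_comp, ← op_comp, Iso.hom_inv_id, op_id, CategoryTheory.Functor.map_id]
    rfl
  obtain ⟨l, a, ha⟩ := exists_eq_zero (sys c F) hc (sys_isColim c hc F) (isQcqsObj_topAt k) _ h1
  refine ⟨l, a, (sec l F).injective ?_⟩
  rw [map_zero, sec_transH, op_comp, F.obj.map_comp, ConcreteCategory.comp_apply]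
  exact (congrArg _ ha).trans (map_zero _)

/-- sections of the colimit sheaf over the limit come from a stage after a given one -/
theorem exists_sec (hc : IsLimit c) (F : TotSh Y) (k : I)
    (x : EtCoh.H c.pt ((totToLim c).obj F) 0) :
    ∃ (l : I) (_ : l ⟶ k) (ξ : EtCoh.H (Y.obj l) ((res Y l).obj F) 0), limH c l F 0 ξ = x := by
  let M := (totToLim c).obj F
  let hT := EtCore.topIsTerminal c.pt
  let x₀ := Sheaf.H.equiv₀ M hT x
  obtain ⟨l, a, t, ht⟩ := exists_rep (sys c F) hc (sys_isColim c hc F) (isQcqsObj_topAt k)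
    (M.obj.map (EtCore.bcTopIso (c.π.app k)).hom.op x₀)
  let t' := F.obj.map ((incl Y l).map (EtCore.bcTopIso (Y.map a)).inv).op t
  refine ⟨l, a, (sec l F).symm t', (Sheaf.H.equiv₀ M hT).injective ?_⟩
  refine (equiv₀_limH c l F _).trans ?_
  rw [AddEquiv.apply_symm_apply]
  refine (congrArg _ (ConcreteCategory.congr_hom
    ((sys c F).ψ.naturality ((incl Y l).map (EtCore.bcTopIso (Y.map a)).inv).op) t)).trans ?_
  refine (congrArg _ ((ConcreteCategory.comp_apply _ _ t).trans (congrArg _ ht))).trans ?_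
  refine (congrArg _ (congrArg _ (ConcreteCategory.comp_apply _ _ x₀).symm)).trans ?_
  refine (congrArg _ (ConcreteCategory.comp_apply _ _ x₀).symm).trans ?_
  refine (ConcreteCategory.comp_apply _ _ x₀).symm.trans ?_
  refine (ConcreteCategory.congr_hom ?_ x₀).trans (ConcreteCategory.id_apply _)
  refine Eq.trans ?_ (M.obj.map_id _)
  refine ((congrArg (· ≫ _) (congrArg (· ≫ _) (M.obj.map_comp _ _).symm)).trans
    ((congrArg (· ≫ _) (M.obj.map_comp _ _).symm).trans (M.obj.map_comp _ _).symm)).trans ?_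
  exact congrArg M.obj.map (Quiver.Hom.unop_inj (hT.hom_ext _ _))

/-- the effacing sequence -/
noncomputable abbrev efface (F : TotSh Y) : ShortComplex (TotSh Y) :=
  ShortComplex.mk (toProd F) (cokernel.π (toProd F)) (cokernel.condition _)

omit [∀ j, PreservesFiniteLimits (EtCoh.pull (c.π.app j))]
  [∀ {i j : I} (f : i ⟶ j), PreservesFiniteLimits (EtCoh.pull (Y.map f))]
  [∀ {i j : I} (f : i ⟶ j), IsAffineHom (Y.map f)] [IsCofiltered I]
  [∀ i, CompactSpace (Y.obj i)] [∀ i, QuasiSeparatedSpace (Y.obj i)] in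
theorem shortExact_efface (F : TotSh Y) : (efface F).ShortExact :=
  haveI := mono_toProd F
  { exact := ShortComplex.exact_of_g_is_cokernel _ (cokernelIsCokernel _) }

/-- stages map to the limit -/
noncomputable def toLimMap (k : I) (T : ShortComplex (TotSh Y)) :
    (T.map (res Y k)).map (EtCoh.pull (c.π.app k)) ⟶ (T.map (totToLim c) : ShortComplex (EtCoh.Ab c.pt)) where
  τ₁ := θ c k T.X₁
  τ₂ := θ c k T.X₂
  τ₃ := θ c k T.X₃
  comm₁₂ := θ_natural c k T.f
  comm₂₃ := θ_natural c k T.g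

/-- stages map to later stages -/
noncomputable def toStageMap {k l : I} (a : l ⟶ k) (T : ShortComplex (TotSh Y)) :
    (T.map (res Y k)).map (EtCoh.pull (Y.map a)) ⟶ (T.map (res Y l) : ShortComplex (EtCoh.Ab (Y.obj l))) where
  τ₁ := τ c a T.X₁
  τ₂ := τ c a T.X₂
  τ₃ := τ c a T.X₃
  comm₁₂ := τ_natural c a T.f
  comm₂₃ := τ_natural c a T.g

omit [∀ {i j : I} (f : i ⟶ j), PreservesFiniteLimits (EtCoh.pull (Y.map f))]
  [∀ i, CompactSpace (Y.obj i)] [∀ i, QuasiSeparatedSpace (Y.obj i)] in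
theorem limH_conn (hc : IsLimit c) {T : ShortComplex (TotSh Y)} (hT : T.ShortExact) (k : I) (n : ℕ)
    (z : EtCoh.H (Y.obj k) ((res Y k).obj T.X₃) n) :
    limH c k T.X₁ (n + 1) (z.comp (shortExact_res k T hT).extClass rfl) =
      (limH c k T.X₃ n z).comp (shortExact_totToLim c hc T hT).extClass rfl :=
  HpullThen_extClass (c.π.app k) (shortExact_res k T hT) (shortExact_totToLim c hc T hT) (toLimMap c k T) n z

omit [∀ j, PreservesFiniteLimits (EtCoh.pull (c.π.app j))] [IsCofiltered I]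
  [∀ {i j : I} (f : i ⟶ j), IsAffineHom (Y.map f)]
  [∀ i, CompactSpace (Y.obj i)] [∀ i, QuasiSeparatedSpace (Y.obj i)] in
theorem transH_conn {T : ShortComplex (TotSh Y)} (hT : T.ShortExact) {k l : I} (a : l ⟶ k) (n : ℕ)
    (z : EtCoh.H (Y.obj k) ((res Y k).obj T.X₃) n) :
    transH c a T.X₁ (n + 1) (z.comp (shortExact_res k T hT).extClass rfl) =
      (transH c a T.X₃ n z).comp (shortExact_res l T hT).extClass rfl :=
  HpullThen_extClass (Y.map a) (shortExact_res k T hT) (shortExact_res l T hT) (toStageMap c a T) n z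

/-- a stage class with a limit class in the image of the effacing term vanishes at a later stage -/
theorem exists_transH_conn_eq_zero_zero (hc : IsLimit c) {T : ShortComplex (TotSh Y)} (hT : T.ShortExact)
    (k : I) (z : EtCoh.H (Y.obj k) ((res Y k).obj T.X₃) 0)
    (w : EtCoh.H c.pt ((totToLim c).obj T.X₂) 0)
    (hw : w.comp (Ext.mk₀ ((totToLim c).map T.g)) (add_zero 0) = limH c k T.X₃ 0 z) :
    ∃ (l : I) (a : l ⟶ k), (transH c a T.X₃ 0 z).comp (shortExact_res l T hT).extClass rfl = 0 := by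
  let A := topAt (Y := Y) k
  let M := (totToLim c).obj T.X₂
  let M' := (totToLim c).obj T.X₃
  let w₀ := M.obj.map (EtCore.bcTopIso (c.π.app k)).hom.op (Sheaf.H.equiv₀ M (EtCore.topIsTerminal c.pt) w)
  obtain ⟨l, a, t, ht⟩ := exists_rep (sys c T.X₂) hc (sys_isColim c hc T.X₂) (isQcqsObj_topAt k) w₀
  let d : T.X₃.obj.obj (op (bcObj A a)) := T.g.hom.app (op (bcObj A a)) t - T.X₃.obj.map (proj A a).op (sec k T.X₃ z)
  have hz : (sys c T.X₃).ψ.app (op A) (sec k T.X₃ z) = ((totToLim c).map T.g).hom.app (op ((bcTot c).obj A)) w₀ := by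
    have h0 := congrArg (Sheaf.H.equiv₀ M' (EtCore.topIsTerminal c.pt)) hw
    rw [equiv₀_limH] at h0
    have h1 := (Sheaf.H.equiv₀_naturality (EtCore.topIsTerminal c.pt) ((totToLim c).map T.g) w).trans h0
    have h2 := congrArg (M'.obj.map (EtCore.bcTopIso (c.π.app k)).hom.op) h1
    refine Eq.trans ?_ (h2.symm.trans ?_)
    · refine Eq.trans ?_ (ConcreteCategory.comp_apply _ _ _)
      rw [← M'.obj.map_comp, ← op_comp, Iso.hom_inv_id, op_id, CategoryTheory.Functor.map_id]
      rfl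
    · exact (ConcreteCategory.congr_hom (((totToLim c).map T.g).hom.naturality
        (EtCore.bcTopIso (c.π.app k)).hom.op) _).symm
  have hd : (sys c T.X₃).ψ.app (op (bcObj A a)) d = 0 := by
    rw [map_sub, sub_eq_zero]
    refine (ConcreteCategory.congr_hom (congr_app (sys_ψ_natural c T.g) (op (bcObj A a))) t).symm.trans ?_
    refine (congrArg (((totToLim c).map T.g).hom.app _) ht).trans ?_
    refine (ConcreteCategory.congr_hom (((totToLim c).map T.g).hom.naturality ((bcTot c).map (proj A a)).op) w₀).trans ?_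
    refine (congrArg (M'.obj.map ((bcTot c).map (proj A a)).op) hz.symm).trans ?_
    exact (ConcreteCategory.congr_hom ((sys c T.X₃).ψ.naturality (proj A a).op) _).symm
  obtain ⟨m, b, hb⟩ := exists_eq_zero (sys c T.X₃) hc (sys_isColim c hc T.X₃)
    (isQcqsObj_bcObj (isQcqsObj_topAt k) a) d hd
  let g : topAt (Y := Y) m ⟶ bcObj (bcObj A a) b :=
    (incl Y m).map (EtCore.bcTopIso (Y.map (b ≫ a))).inv ≫ (incl Y m).map (factor (bcMap A a b))
  have hg : g ≫ proj (bcObj A a) b ≫ proj A a =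
      (incl Y m).map (EtCore.bcTopIso (Y.map (b ≫ a))).inv ≫ proj A (b ≫ a) := by
    refine (Category.assoc _ _ _).trans (congrArg (_ ≫ ·) ?_)
    exact (Category.assoc _ _ _).symm.trans
      ((congrArg (· ≫ proj A a) (factor_fac (bcMap A a b))).trans (bcMap_proj A a b))
  let t₁ := T.X₂.obj.map (g ≫ proj (bcObj A a) b).op t
  refine ⟨m, b ≫ a, ?_⟩
  have key : transH c (b ≫ a) T.X₃ 0 z =
      ((sec m T.X₂).symm t₁).comp (Ext.mk₀ ((res Y m).map T.g)) (add_zero 0) := by
    refine (sec m T.X₃).injective ?_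
    rw [sec_transH]
    refine Eq.trans ?_ (Sheaf.H.equiv₀_naturality (EtCore.topIsTerminal (Y.obj m)) ((res Y m).map T.g)
      ((sec m T.X₂).symm t₁))
    refine Eq.trans ?_ (congrArg _ ((sec m T.X₂).apply_symm_apply t₁)).symm
    refine Eq.trans ?_ (ConcreteCategory.congr_hom (T.g.hom.naturality (g ≫ proj (bcObj A a) b).op) t).symm
    refine Eq.trans ?_ (congrArg (T.X₃.obj.map (g ≫ proj (bcObj A a) b).op) (sub_add_cancel _
      (T.X₃.obj.map (proj A a).op (sec k T.X₃ z))))
    rw [map_add]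
    have h3 : T.X₃.obj.map (g ≫ proj (bcObj A a) b).op d = 0 := by
      rw [op_comp, T.X₃.obj.map_comp, ConcreteCategory.comp_apply]
      exact (congrArg _ hb).trans (map_zero _)
    refine Eq.trans ?_ (congrArg (· + _) h3).symm
    rw [zero_add, ← ConcreteCategory.comp_apply, ← T.X₃.obj.map_comp, ← op_comp, Category.assoc, hg]
    rfl
  rw [key]
  refine (Ext.comp_assoc_of_second_deg_zero _ _ _ _).trans ?_
  exact (congrArg (fun q => Ext.comp _ q _) (shortExact_res m T hT).comp_extClass).trans (Ext.comp_zero ..)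

theorem exists_transH_eq_zero_succ (hc : IsLimit c) (n : ℕ)
    (ih : ∀ (F : TotSh Y) (k : I) (ξ : EtCoh.H (Y.obj k) ((res Y k).obj F) n),
      limH c k F n ξ = 0 → ∃ (l : I) (a : l ⟶ k), transH c a F n ξ = 0)
    (F : TotSh Y) (k : I) (ξ : EtCoh.H (Y.obj k) ((res Y k).obj F) (n + 1)) (h : limH c k F (n + 1) ξ = 0) :
    ∃ (l : I) (a : l ⟶ k), transH c a F (n + 1) ξ = 0 := by
  let T := efface F
  have hT := shortExact_efface F
  have hJ := subsingleton_H_res (fun l => Injective.under ((res Y l).obj F)) k n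
  obtain ⟨z, rfl⟩ := Ext.covariant_sequence_exact₁ _ (shortExact_res k T hT) ξ (hJ.elim _ _) (rfl : n + 1 = n + 1)
  have h0 := (limH_conn c hc hT k n z).symm.trans h
  obtain ⟨w, hw⟩ := Ext.covariant_sequence_exact₃ _ (shortExact_totToLim c hc T hT) _ rfl h0
  cases n with
  | zero =>
    obtain ⟨l, a, ha⟩ := exists_transH_conn_eq_zero_zero c hc hT k z w hw
    exact ⟨l, a, (transH_conn c hT a 0 z).trans ha⟩
  | succ n =>
    have hL := subsingleton_H_totToLim (fun l => Injective.under ((res Y l).obj F)) c hc n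
    have hz : limH c k T.X₃ (n + 1) z = 0 := by
      rw [← hw, hL.elim w 0, Ext.zero_comp]
    obtain ⟨l, a, ha⟩ := ih _ k z hz
    refine ⟨l, a, (transH_conn c hT a (n + 1) z).trans ?_⟩
    rw [ha, Ext.zero_comp]

/-- cohomology of the limit is the colimit of the cohomology of the stages -/
theorem main (hc : IsLimit c) : ∀ (n : ℕ) (F : TotSh Y),
    (∀ x : EtCoh.H c.pt ((totToLim c).obj F) n, ∀ k₀ : I, ∃ (k : I) (_ : k ⟶ k₀)
      (ξ : EtCoh.H (Y.obj k) ((res Y k).obj F) n), limH c k F n ξ = x) ∧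
    (∀ (k : I) (ξ : EtCoh.H (Y.obj k) ((res Y k).obj F) n), limH c k F n ξ = 0 →
      ∃ (l : I) (a : l ⟶ k), transH c a F n ξ = 0)
  | 0, F => ⟨fun x k₀ => exists_sec c hc F k₀ x, exists_transH_eq_zero_zero c hc F⟩
  | n + 1, F => by
    refine ⟨fun x k₀ => ?_, exists_transH_eq_zero_succ c hc n (fun F => (main hc n F).2) F⟩
    let T := efface F
    have hT := shortExact_efface F
    have hL := subsingleton_H_totToLim (fun l => Injective.under ((res Y l).obj F)) c hc n
    obtain ⟨z, hz⟩ := Ext.covariant_sequence_exact₁ _ (shortExact_totToLim c hc T hT) x (hL.elim _ _)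
      (rfl : n + 1 = n + 1)
    obtain ⟨k, a, w, hw⟩ := (main hc n T.X₃).1 z k₀
    refine ⟨k, a, w.comp (shortExact_res k T hT).extClass rfl, ?_⟩
    refine (limH_conn c hc hT k n w).trans ?_
    rw [hw]
    exact hz

end Groth.Agent.EtLimCore
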