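import Groth.Agent.EtLimCore.Transfer

/-!
# Systems given by sheaves on all schemes which commute with limits
-/

set_option autoImplicit false
set_option maxHeartbeats 800000

universe u

open CategoryTheory CategoryTheory.Limits AlgebraicGeometry Opposite TopologicalSpace

namespace Groth.Agent.EtLimCore

set_option backward.isDefEq.respectTransparency false
set_option backward.isDefEq.respectTransparency.types false

/-- a presheaf on schemes turns affine limits of qcqs schemes into colimits -/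
structure CommLim (G : Scheme.{u}ᵒᵖ ⥤ AddCommGrpCat.{u + 1}) : Prop where
  surj : ∀ {J : Type u} [SmallCategory J] [IsCofiltered J] (D : J ⥤ Scheme.{u}) (d : Cone D) (_ : IsLimit d)
    [∀ {i j : J} (f : i ⟶ j), IsAffineHom (D.map f)] [∀ i, CompactSpace (D.obj i)]
    [∀ i, QuasiSeparatedSpace (D.obj i)] (s : G.obj (op d.pt)),
    ∃ (i : J) (t : G.obj (op (D.obj i))), G.map (d.π.app i).op t = s
  inj : ∀ {J : Type u} [SmallCategory J] [IsCofiltered J] (D : J ⥤ Scheme.{u}) (d : Cone D) (_ : IsLimit d)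
    [∀ {i j : J} (f : i ⟶ j), IsAffineHom (D.map f)] [∀ i, CompactSpace (D.obj i)]
    [∀ i, QuasiSeparatedSpace (D.obj i)] (i : J) (t : G.obj (op (D.obj i))),
    G.map (d.π.app i).op t = 0 → ∃ (j : J) (f : j ⟶ i), G.map (D.map f).op t = 0

theorem exists_units_stage {J : Type u} [SmallCategory J] [IsCofiltered J] {D : J ⥤ Scheme.{u}} {d : Cone D}
    (hd : IsLimit d) [∀ {i j : J} (f : i ⟶ j), IsAffineHom (D.map f)] [∀ i, CompactSpace (D.obj i)]
    [∀ i, QuasiSeparatedSpace (D.obj i)] (s : (Scheme.Γ.obj (op d.pt) : CommRingCat.{u})ˣ) :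
    ∃ (i : J) (t : (Scheme.Γ.obj (op (D.obj i)) : CommRingCat.{u})ˣ), (d.π.app i).appTop t.val = s.val := by
  obtain ⟨i, a, ha⟩ := exists_appTop_π_eq_of_isLimit D d hd s.val
  obtain ⟨j, b, hb⟩ := exists_appTop_π_eq_of_isLimit D d hd s.inv
  obtain ⟨k, f, g, -⟩ := IsCofilteredOrEmpty.cone_objs i j
  have hw : ∀ {p q : J} (h : p ⟶ q) (x : Γ(D.obj q, ⊤)),
      (d.π.app p).appTop ((D.map h).appTop x) = (d.π.app q).appTop x := fun h x => by
    rw [← ConcreteCategory.comp_apply, ← Scheme.Hom.comp_appTop, d.w h]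
    rfl
  let e := (D.map f).appTop a * (D.map g).appTop b - 1
  have he : (d.π.app k).appTop e = 0 := by
    rw [map_sub, map_mul, map_one, hw, hw, ← ha, ← hb]
    exact sub_eq_zero.2 s.val_inv
  obtain ⟨l, h, hl⟩ := exists_appTop_map_eq_zero_of_isLimit D d hd e he
  rw [map_sub, map_mul, map_one, sub_eq_zero] at hl
  refine ⟨l, Units.mkOfMulEqOne _ _ hl, ?_⟩
  show (d.π.app l).appTop ((D.map h).appTop ((D.map f).appTop a)) = s.val
  rw [hw, hw, ha]

theorem commLim_ΓAdd : CommLim EtCoh.ΓAdd.{u} where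
  surj D d hd _ _ _ s := by
    obtain ⟨i, t, ht⟩ := exists_appTop_π_eq_of_isLimit D d hd s.down
    exact ⟨i, ⟨t⟩, ULift.ext _ _ ht.symm⟩
  inj D d hd _ _ _ i t h := by
    obtain ⟨j, f, hf⟩ := exists_appTop_map_eq_zero_of_isLimit D d hd t.down (congrArg ULift.down h)
    exact ⟨j, f, ULift.ext _ _ hf⟩

theorem commLim_ΓUnits : CommLim EtCoh.ΓUnits.{u} where
  surj D d hd _ _ _ s := by
    obtain ⟨i, t, ht⟩ := exists_units_stage hd (Additive.toMul s.down)
    exact ⟨i, ⟨Additive.ofMul t⟩, ULift.ext _ _ (congrArg Additive.ofMul (Units.ext ht))⟩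
  inj D d hd _ _ _ i t h := by
    let a : Γ(D.obj i, ⊤) := (Additive.toMul t.down).val
    have h1 : (d.π.app i).appTop a = 1 :=
      congrArg (fun q => (Additive.toMul q).val) (congrArg ULift.down h)
    obtain ⟨j, f, hf⟩ := exists_appTop_map_eq_zero_of_isLimit D d hd (a - 1)
      (by rw [map_sub, map_one, h1, sub_self])
    rw [map_sub, map_one, sub_eq_zero] at hf
    exact ⟨j, f, ULift.ext _ _ (congrArg Additive.ofMul (Units.ext hf))⟩

variable {I : Type u} [SmallCategory I] {Y : I ⥤ Scheme.{u}} (c : Cone Y)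

variable (Y) in
/-- the étale schemes over the stages -/
noncomputable def srcFun : Tot Y ⥤ Scheme.{u} where
  obj A := A.obj.left
  map f := f.g
  map_id A := id_g A
  map_comp f g := comp_g f g

/-- the projections from the limit -/
noncomputable def srcProj : bcTot c ⋙ (Scheme.Etale.forget c.pt ⋙ Over.forget c.pt) ⟶ srcFun Y where
  app A := (pullback.fst A.obj.hom (c.π.app A.st) : ((bcTot c).obj A).left ⟶ A.obj.left)
  naturality A B f := bcTot_map_fst c f

/-- the system of a sheaf on all schemes -/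
noncomputable def ofPre (G : Scheme.{u}ᵒᵖ ⥤ AddCommGrpCat.{u + 1}) (hG : Presheaf.IsSheaf Scheme.etaleTopology G) :
    Sys c where
  F := (srcFun Y).op ⋙ G
  isSheaf k := (((Scheme.Etale.forget (Y.obj k) ⋙ Over.forget (Y.obj k)).sheafPushforwardContinuous _ _
    Scheme.etaleTopology).obj ⟨G, hG⟩).property
  M := ((Scheme.Etale.forget c.pt ⋙ Over.forget c.pt).sheafPushforwardContinuous _ _
    Scheme.etaleTopology).obj ⟨G, hG⟩
  ψ := Functor.whiskerRight (NatTrans.op (srcProj c)) G

variable [∀ {i j : I} (f : i ⟶ j), IsAffineHom (Y.map f)] [IsCofiltered I]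

theorem ofPre_isColim (hc : IsLimit c) (G : Scheme.{u}ᵒᵖ ⥤ AddCommGrpCat.{u + 1})
    (hG : Presheaf.IsSheaf Scheme.etaleTopology G) (hGl : CommLim G) : (ofPre c G hG).IsColim where
  surj Ω _ _ ξ U u s := by
    let Φ := Scheme.pointSmallEtale ξ
    let M := (ofPre c G hG).M
    obtain ⟨B, hB, h, w, hw⟩ := exists_staged_nbhd hc U (EtFound.ptOf u)
    obtain ⟨z, hz, -⟩ := EtFound.exists_lift_point h u w hw
    have hB' : EtFound.IsQcqsObj B.obj := haveI := hB; EtFound.isQcqsObj_of_isAffine _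
    haveI : ∀ {i j : Over B.st} (f : i ⟶ j), IsAffineHom ((diag B).map f) := fun f => isAffineHom_diag_map B f
    haveI : ∀ n : Over B.st, CompactSpace ((diag B).obj n) := fun n => (isQcqsObj_bcObj hB' n.hom).1
    haveI : ∀ n : Over B.st, QuasiSeparatedSpace ((diag B).obj n) := fun n => (isQcqsObj_bcObj hB' n.hom).2
    obtain ⟨m, t, ht⟩ := hGl.surj (diag B) (diagCone c B) (isLimitDiagCone hc B) (M.obj.map h.op s)
    refine ⟨bcObj B m.hom, Φ.fiber.map (inv ((bcTot c).map (proj B m.hom))) z, t, ?_⟩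
    let p := (bcTot c).map (proj B m.hom)
    have e1 : (ofPre c G hG).ψ.app (op (bcObj B m.hom)) t = M.obj.map p.op (M.obj.map h.op s) := by
      refine Eq.trans ?_ (congrArg (M.obj.map p.op) ht)
      refine Eq.trans ?_ (ConcreteCategory.comp_apply (G.map ((diagCone c B).π.app m).op) (G.map p.left.op) t)
      rw [← G.map_comp, ← op_comp]
      exact congrArg (fun k => G.map (Quiver.Hom.op k) t) (bcTot_proj_toStage B m.hom).symm
    rw [e1]
    refine (Φ.toPresheafFiber_w_apply p _ M.obj _).trans ?_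
    have e2 : Φ.fiber.map p (Φ.fiber.map (inv p) z) = z := by
      rw [← ConcreteCategory.comp_apply, ← Functor.map_comp, IsIso.inv_hom_id, CategoryTheory.Functor.map_id]
      rfl
    refine (congrArg (fun q => Φ.toPresheafFiber _ q M.obj (M.obj.map h.op s)) e2).trans ?_
    refine (Φ.toPresheafFiber_w_apply h z M.obj s).trans ?_
    rw [hz]
  inj Ω _ _ ξ A z t h := by
    let Φ := Scheme.pointSmallEtale ξ
    let M := (ofPre c G hG).M
    have h0 : Φ.toPresheafFiber _ z M.obj ((ofPre c G hG).ψ.app (op A) t) =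
        Φ.toPresheafFiber _ z M.obj 0 :=
      h.trans (map_zero (Φ.toPresheafFiber ((bcTot c).obj A) z M.obj).hom).symm
    obtain ⟨V, g, v, hv, hg⟩ := (Φ.toPresheafFiber_eq_iff' ((bcTot c).obj A) z _ _).1 h0
    obtain ⟨B, hB, f, k, hk, w, hw⟩ := exists_staged_lift hc g (EtFound.ptOf v)
    obtain ⟨y, hy, -⟩ := EtFound.exists_lift_point ((bcTot c).map f) z w
      (hw.trans ((EtFound.ptOf_map g v).symm.trans (congrArg EtFound.ptOf hv)))
    have hz : G.map (pullback.fst B.obj.hom (c.π.app B.st)).op (G.map f.g.op t) = 0 := by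
      refine (ConcreteCategory.comp_apply (G.map f.g.op) _ t).symm.trans ?_
      rw [← G.map_comp, ← op_comp]
      refine (congrArg (fun q => G.map (Quiver.Hom.op q) t) (bcTot_map_fst c f).symm).trans ?_
      show G.map (((bcTot c).map f).left ≫ pullback.fst A.obj.hom (c.π.app A.st)).op t = 0
      rw [op_comp, G.map_comp, ConcreteCategory.comp_apply]
      show M.obj.map ((bcTot c).map f).op ((ofPre c G hG).ψ.app (op A) t) = 0
      rw [← hk, op_comp, M.obj.map_comp, ConcreteCategory.comp_apply]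
      exact (congrArg _ (hg.trans (map_zero _))).trans (map_zero _)
    have hB' : EtFound.IsQcqsObj B.obj := haveI := hB; EtFound.isQcqsObj_of_isAffine _
    haveI : ∀ {i j : Over B.st} (f : i ⟶ j), IsAffineHom ((diag B).map f) := fun f => isAffineHom_diag_map B f
    haveI : ∀ n : Over B.st, CompactSpace ((diag B).obj n) := fun n => (isQcqsObj_bcObj hB' n.hom).1
    haveI : ∀ n : Over B.st, QuasiSeparatedSpace ((diag B).obj n) := fun n => (isQcqsObj_bcObj hB' n.hom).2
    let o : Over B.st := Over.mk (𝟙 B.st)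
    obtain ⟨m, e, hm⟩ := hGl.inj (diag B) (diagCone c B) (isLimitDiagCone hc B) o
      (G.map (pullback.fst B.obj.hom (Y.map o.hom)).op (G.map f.g.op t)) (by
        refine (ConcreteCategory.comp_apply _ _ _).symm.trans ?_
        rw [← G.map_comp, ← op_comp]
        exact (congrArg (fun q => G.map (Quiver.Hom.op q) (G.map f.g.op t)) (pullback.lift_fst _ _ _)).trans hz)
    have hm' : G.map (pullback.fst B.obj.hom (Y.map m.hom)).op (G.map f.g.op t) = 0 := by
      refine Eq.trans ?_ hm
      refine Eq.trans ?_ (ConcreteCategory.comp_apply _ _ _)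
      rw [← G.map_comp, ← op_comp]
      exact congrArg (fun q => G.map (Quiver.Hom.op q) (G.map f.g.op t)) (pullback.lift_fst _ _ _).symm
    refine ⟨bcObj B m.hom, proj B m.hom ≫ f, Φ.fiber.map (inv ((bcTot c).map (proj B m.hom))) y, ?_, ?_⟩
    · rw [← ConcreteCategory.comp_apply, ← Functor.map_comp, Functor.map_comp (bcTot c), IsIso.inv_hom_id_assoc]
      exact hy
    · show G.map (pullback.fst B.obj.hom (Y.map m.hom) ≫ f.g).op t = 0
      rw [op_comp, G.map_comp, ConcreteCategory.comp_apply]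
      exact hm'

end Groth.Agent.EtLimCore
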