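import Groth.Agent.EtLimCore.Transpose
import Mathlib.CategoryTheory.Filtered.Final

/-!
# Systems of sheaves indexed by a directed preorder as data

The transition map at a single index need not be the identity, so the indices are thickened by a level.
-/

set_option autoImplicit false
set_option maxHeartbeats 800000

universe u

open CategoryTheory CategoryTheory.Limits AlgebraicGeometry Opposite CategoryTheory.Abelian

namespace Groth.Agent.EtLimCore

set_option backward.isDefEq.respectTransparency false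
set_option backward.isDefEq.respectTransparency.types false

section Ident

variable {Z : Scheme.{u}} (f : Z ⟶ Z) (hf : f = 𝟙 Z)

/-- base change along an identity -/
noncomputable def bcIdIso (W : Z.Etale) : (EtCoh.bc f).obj W ≅ W where
  hom := MorphismProperty.Over.homMk (pullback.fst W.hom f)
    (pullback.condition.trans ((congrArg (pullback.snd W.hom f ≫ ·) hf).trans (Category.comp_id _)))
  inv := MorphismProperty.Over.homMk
    (pullback.lift (𝟙 W.left) W.hom ((Category.id_comp _).trans ((congrArg (W.hom ≫ ·) hf).trans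
      (Category.comp_id _)).symm)) (pullback.lift_snd _ _ _)
  hom_inv_id := by
    refine MorphismProperty.Over.Hom.ext ?_
    apply pullback.hom_ext (f := W.hom) (g := f)
    · refine ((Category.assoc _ _ _).trans (congrArg (_ ≫ ·) (pullback.lift_fst _ _ _))).trans ?_
      exact (Category.comp_id _).trans (Category.id_comp _).symm
    · refine ((Category.assoc _ _ _).trans (congrArg (_ ≫ ·) (pullback.lift_snd _ _ _))).trans ?_
      refine pullback.condition.trans ?_
      exact ((congrArg (pullback.snd W.hom f ≫ ·) hf).trans (Category.comp_id _)).trans (Category.id_comp _).symm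
  inv_hom_id := MorphismProperty.Over.Hom.ext (pullback.lift_fst _ _ _)

/-- direct image along an identity -/
noncomputable def idPushIso : 𝟭 (EtCoh.Ab Z) ≅ EtCoh.push f :=
  NatIso.ofComponents
    (fun G => (fullyFaithfulSheafToPresheaf Z.smallEtaleTopology AddCommGrpCat.{u + 1}).preimageIso
      (X := G) (Y := (EtCoh.push f).obj G)
      (NatIso.ofComponents (fun W => G.obj.mapIso (bcIdIso f hf W.unop).op) (fun {W W'} h => by
        show G.obj.map h ≫ G.obj.map _ = G.obj.map _ ≫ G.obj.map _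
        rw [← G.obj.map_comp, ← G.obj.map_comp]
        refine congrArg G.obj.map (Quiver.Hom.unop_inj (MorphismProperty.Over.Hom.ext ?_))
        exact (EtCoh.isPullback_bc_map f h.unop).w.symm)))
    (fun {G G'} q => by
      refine Sheaf.hom_ext (J := Z.smallEtaleTopology) ?_
      ext W : 2
      exact (q.hom.naturality _).symm)

theorem idPushIso_hom_app (G : EtCoh.Ab Z) (W : Z.Etale) :
    ((idPushIso f hf).hom.app G).hom.app (op W) = G.obj.map (bcIdIso f hf W).hom.op := rfl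

include hf in
theorem isSplitMono_adjunct_idPushIso (G : EtCoh.Ab Z) :
    IsSplitMono (((EtCoh.pullPushAdj f).homEquiv G G).symm ((idPushIso f hf).hom.app G)) := by
  refine ⟨⟨{ retraction := (EtCoh.pullPushAdj f).unit.app G ≫ (idPushIso f hf).inv.app _
             id := ((EtCoh.pullPushAdj f).homEquiv G _).injective ?_ }⟩⟩
  rw [Adjunction.homEquiv_naturality_right, Equiv.apply_symm_apply, Adjunction.homEquiv_id]
  refine ((idPushIso f hf).hom.naturality ((EtCoh.pullPushAdj f).unit.app G ≫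
    (idPushIso f hf).inv.app _)).symm.trans ?_
  show ((EtCoh.pullPushAdj f).unit.app G ≫ (idPushIso f hf).inv.app _) ≫ (idPushIso f hf).hom.app _ = _
  exact (Category.assoc _ _ _).trans
    ((congrArg ((EtCoh.pullPushAdj f).unit.app G ≫ ·) ((idPushIso f hf).inv_hom_id_app _)).trans
      (Category.comp_id _))

end Ident

/-- germs of adjuncts -/
theorem stalk_adjunct {X Y : Scheme.{u}} (f : X ⟶ Y) {G : EtCoh.Ab Y} {N : EtCoh.Ab X}
    (θ : (EtCoh.pull f).obj G ⟶ N) {Ω : Type u} [Field Ω] [IsSepClosed Ω] (ξ : Spec (CommRingCat.of Ω) ⟶ X)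
    (W : Y.Etale) (z : (Scheme.pointSmallEtale ξ).fiber.obj ((EtCoh.bc f).obj W)) (t : G.obj.obj (op W)) :
    (EtCoh.stalk ξ).map θ ((EtFound.sheafFiberPullIso (A := AddCommGrpCat.{u + 1}) f ξ).inv.app G
      ((Scheme.pointSmallEtale (ξ ≫ f)).toPresheafFiber W (EtFound.bcFiberEquiv f ξ W z) G.obj t)) =
    (Scheme.pointSmallEtale ξ).toPresheafFiber ((EtCoh.bc f).obj W) z N.obj
      (((EtCoh.pullPushAdj f).homEquiv G N θ).hom.app (op W) t) := by
  have h1 := ConcreteCategory.congr_hom (EtFound.sheafFiberPullIso_germ (A := AddCommGrpCat.{u + 1})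
    f ξ G W z) t
  rw [ConcreteCategory.comp_apply, ConcreteCategory.comp_apply] at h1
  refine (congrArg ((EtCoh.stalk ξ).map θ) h1).trans ?_
  refine ((Scheme.pointSmallEtale ξ).toPresheafFiber_naturality_apply θ.hom _ z _).trans (congrArg _ ?_)
  refine (ConcreteCategory.comp_apply _ _ t).symm.trans ?_
  refine ConcreteCategory.congr_hom (?_ : _ = ((EtCoh.pullPushAdj f).homEquiv G N θ).hom.app (op W)) t
  rw [Adjunction.homEquiv_unit]
  rfl

/-- an index with a level -/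
structure Lvl (ι : Type u) : Type u where
  /-- index -/
  i : ι
  /-- level -/
  n : ℕ

variable {ι : Type u} [Preorder ι]

instance : PartialOrder (Lvl ι) where
  le p q := p = q ∨ (p.i ≤ q.i ∧ p.n < q.n)
  le_refl p := Or.inl rfl
  le_trans p q r h1 h2 := by
    obtain rfl | ⟨a, b⟩ := h1
    · exact h2
    obtain rfl | ⟨a', b'⟩ := h2
    · exact Or.inr ⟨a, b⟩
    exact Or.inr ⟨a.trans a', b.trans b'⟩
  le_antisymm p q h1 h2 := by
    obtain rfl | ⟨a, b⟩ := h1
    · rfl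
    obtain rfl | ⟨a', b'⟩ := h2
    · rfl
    exact absurd b' (lt_asymm b)

theorem Lvl.le_i {p q : Lvl ι} (h : p ≤ q) : p.i ≤ q.i := by
  obtain rfl | ⟨a, -⟩ := h
  · exact le_rfl
  · exact a

theorem Lvl.monotone_i : Monotone (Lvl.i (ι := ι)) := fun _ _ h => Lvl.le_i h

instance [IsDirected ι (· ≤ ·)] : IsDirected (Lvl ι) (· ≤ ·) := ⟨fun p q => by
  obtain ⟨k, h1, h2⟩ := exists_ge_ge p.i q.i
  exact ⟨⟨k, p.n + q.n + 1⟩, Or.inr ⟨h1, Nat.lt_succ_of_le (Nat.le_add_right _ _)⟩,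
    Or.inr ⟨h2, Nat.lt_succ_of_le (Nat.le_add_left _ _)⟩⟩⟩

instance [Nonempty ι] : Nonempty (Lvl ι) := ⟨⟨Classical.arbitrary ι, 0⟩⟩

instance final_lvl [IsDirected ι (· ≤ ·)] [Nonempty ι] : (Lvl.monotone_i (ι := ι)).functor.Final :=
  (Monotone.final_functor_iff _).2 fun i => ⟨⟨i, 0⟩, le_rfl⟩

variable (Xs : ιᵒᵖ ⥤ Scheme.{u}) (c : Cone Xs) (F : ∀ i : ι, EtCoh.Ab (Xs.obj (op i)))
  (φ : ∀ ⦃i j : ι⦄ (h : i ≤ j), (EtCoh.pull (Xs.map (homOfLE h).op)).obj (F i) ⟶ F j)
  (hφ : ∀ ⦃i j k : ι⦄ (hij : i ≤ j) (hjk : j ≤ k),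
    φ (hij.trans hjk) = (EtLim.pullTrans Xs hij hjk).hom.app (F i) ≫
      (EtCoh.pull (Xs.map (homOfLE hjk).op)).map (φ hij) ≫ φ hjk)
  (G : ι ⥤ EtCoh.Ab c.pt) (ψ : ∀ i : ι, (EtCoh.pull (c.π.app (op i))).obj (F i) ≅ G.obj i)
  (hψ : ∀ ⦃i j : ι⦄ (hij : i ≤ j), (ψ i).hom ≫ G.map (homOfLE hij) =
    (EtLim.pullTransCone Xs c hij).hom.app (F i) ≫ (EtCoh.pull (c.π.app (op j))).map (φ hij) ≫ (ψ j).hom)

/-- the system of schemes over levels -/
noncomputable abbrev lvlSys : (Lvl ι)ᵒᵖ ⥤ Scheme.{u} := (Lvl.monotone_i (ι := ι)).functor.op ⋙ Xs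

/-- the cone over levels -/
noncomputable abbrev lvlCone : Cone (lvlSys Xs) := c.whisker (Lvl.monotone_i (ι := ι)).functor.op

/-- transition maps as adjuncts -/
noncomputable def adjφ {i j : ι} (h : i ≤ j) : F i ⟶ (EtCoh.push (Xs.map (homOfLE h).op)).obj (F j) :=
  (EtCoh.pullPushAdj (Xs.map (homOfLE h).op)).homEquiv _ _ (φ h)

include hφ in
theorem adjφ_comp {i j k : ι} (hij : i ≤ j) (hjk : j ≤ k) (W : (Xs.obj (op i)).Etale)
    (m : (EtCoh.bc (Xs.map (homOfLE hjk).op)).obj ((EtCoh.bc (Xs.map (homOfLE hij).op)).obj W) ⟶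
      (EtCoh.bc (Xs.map (homOfLE (hij.trans hjk)).op)).obj W)
    (hm : m.left ≫ pullback.fst W.hom (Xs.map (homOfLE (hij.trans hjk)).op) =
      pullback.fst ((EtCoh.bc (Xs.map (homOfLE hij).op)).obj W).hom (Xs.map (homOfLE hjk).op) ≫
        pullback.fst W.hom (Xs.map (homOfLE hij).op)) :
    (adjφ Xs F φ (hij.trans hjk)).hom.app (op W) ≫ (F k).obj.map m.op =
      (adjφ Xs F φ hij).hom.app (op W) ≫
        (adjφ Xs F φ hjk).hom.app (op ((EtCoh.bc (Xs.map (homOfLE hij).op)).obj W)) := by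
  have hmap : Xs.map (homOfLE hjk).op ≫ Xs.map (homOfLE hij).op = Xs.map (homOfLE (hij.trans hjk)).op := by
    rw [← Xs.map_comp]
    rfl
  have e := congrArg (fun q => q.hom.app (op W)) (transpose _ _ hmap (φ hij) (φ hjk))
  have e1 : (EtCore.pullCongr hmap.symm).hom.app (F i) ≫
      (EtCore.pullComp (Xs.map (homOfLE hjk).op) (Xs.map (homOfLE hij).op)).hom.app (F i) ≫
      (EtCoh.pull (Xs.map (homOfLE hjk).op)).map (φ hij) ≫ φ hjk = φ (hij.trans hjk) := by
    rw [hφ hij hjk]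
    exact (Category.assoc _ _ _).symm
  rw [e1] at e
  rw [← split_app _ _ hmap (F k) W m hm]
  exact e

/-- adjuncts of the maps to the limit -/
noncomputable def adjψ (i : ι) {N : EtCoh.Ab c.pt} (q : G.obj i ⟶ N) :
    F i ⟶ (EtCoh.push (c.π.app (op i))).obj N :=
  (EtCoh.pullPushAdj (c.π.app (op i))).homEquiv _ _ ((ψ i).hom ≫ q)

include hψ in
theorem adjψ_comp {i j : ι} (hij : i ≤ j) {N : EtCoh.Ab c.pt} (q : G.obj j ⟶ N)
    (W : (Xs.obj (op i)).Etale)
    (m : (EtCoh.bc (c.π.app (op j))).obj ((EtCoh.bc (Xs.map (homOfLE hij).op)).obj W) ⟶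
      (EtCoh.bc (c.π.app (op i))).obj W)
    (hm : m.left ≫ pullback.fst W.hom (c.π.app (op i)) =
      pullback.fst ((EtCoh.bc (Xs.map (homOfLE hij).op)).obj W).hom (c.π.app (op j)) ≫
        pullback.fst W.hom (Xs.map (homOfLE hij).op)) :
    (adjψ Xs c F G ψ i (G.map (homOfLE hij) ≫ q)).hom.app (op W) ≫ N.obj.map m.op =
      (adjφ Xs F φ hij).hom.app (op W) ≫
        (adjψ Xs c F G ψ j q).hom.app (op ((EtCoh.bc (Xs.map (homOfLE hij).op)).obj W)) := by
  have hmap : c.π.app (op j) ≫ Xs.map (homOfLE hij).op = c.π.app (op i) := c.w (homOfLE hij).op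
  have e := congrArg (fun q => q.hom.app (op W))
    (transpose _ _ hmap (φ hij) ((ψ j).hom ≫ q))
  have e1 : (EtCore.pullCongr hmap.symm).hom.app (F i) ≫
      (EtCore.pullComp (c.π.app (op j)) (Xs.map (homOfLE hij).op)).hom.app (F i) ≫
      (EtCoh.pull (c.π.app (op j))).map (φ hij) ≫ (ψ j).hom ≫ q =
      (ψ i).hom ≫ G.map (homOfLE hij) ≫ q := by
    rw [← Category.assoc (ψ i).hom, hψ hij]
    show _ = (((EtCore.pullCongr hmap.symm).hom.app (F i) ≫
      (EtCore.pullComp (c.π.app (op j)) (Xs.map (homOfLE hij).op)).hom.app (F i)) ≫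
      (EtCoh.pull (c.π.app (op j))).map (φ hij) ≫ (ψ j).hom) ≫ q
    simp only [Category.assoc]
  rw [e1] at e
  rw [← split_app _ _ hmap N W m hm]
  exact e

theorem lvl_map_eq_id {k : (Lvl ι)ᵒᵖ} (a : k ⟶ k) : (lvlSys Xs).map a = 𝟙 _ := by
  rw [show a = 𝟙 k from Subsingleton.elim _ _, (lvlSys Xs).map_id]

open Classical in
/-- the transition maps over levels -/
noncomputable def lvlφ {k l : (Lvl ι)ᵒᵖ} (a : l ⟶ k) :
    F k.unop.i ⟶ (EtCoh.push ((lvlSys Xs).map a)).obj (F l.unop.i) :=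
  if e : k = l then by
    subst e
    exact (idPushIso ((lvlSys Xs).map a) (lvl_map_eq_id Xs a)).hom.app (F k.unop.i)
  else adjφ Xs F φ (Lvl.le_i a.unop.le)

theorem lvlφ_self {k : (Lvl ι)ᵒᵖ} (a : k ⟶ k) :
    lvlφ Xs F φ a = (idPushIso ((lvlSys Xs).map a) (lvl_map_eq_id Xs a)).hom.app (F k.unop.i) := by
  rw [lvlφ, dif_pos rfl]

theorem lvlφ_ne {k l : (Lvl ι)ᵒᵖ} (a : l ⟶ k) (h : k ≠ l) :
    lvlφ Xs F φ a = adjφ Xs F φ (Lvl.le_i a.unop.le) := by
  rw [lvlφ, dif_neg h]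

theorem lvlφ_congr {k l : (Lvl ι)ᵒᵖ} {a a' : l ⟶ k} (e : a = a') (W : ((lvlSys Xs).obj k).Etale)
    {V : ((lvlSys Xs).obj l).Etale} (m : V ⟶ (EtCoh.bc ((lvlSys Xs).map a)).obj W)
    (m' : V ⟶ (EtCoh.bc ((lvlSys Xs).map a')).obj W)
    (h : m.left ≫ pullback.fst W.hom ((lvlSys Xs).map a) = m'.left ≫ pullback.fst W.hom ((lvlSys Xs).map a')) :
    (lvlφ Xs F φ a).hom.app (op W) ≫ (F l.unop.i).obj.map m.op =
      (lvlφ Xs F φ a').hom.app (op W) ≫ (F l.unop.i).obj.map m'.op := by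
  subst e
  refine congrArg (fun q => _ ≫ (F l.unop.i).obj.map (Quiver.Hom.op q)) (MorphismProperty.Over.Hom.ext ?_)
  exact pullback.hom_ext (f := W.hom) (g := (lvlSys Xs).map a) h
    ((MorphismProperty.Over.w m).trans (MorphismProperty.Over.w m').symm)

/-- the data over levels -/
noncomputable def sysData : Data (lvlCone Xs c) where
  G k := F k.unop.i
  φ a := lvlφ Xs F φ a
  M := colimit G
  ψ k := adjψ Xs c F G ψ k.unop.i (colimit.ι G k.unop.i)
  φ_id k W := by
    rw [lvlφ_self]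
    show (F k.unop.i).obj.map _ ≫ (F k.unop.i).obj.map _ = _
    rw [← Functor.map_comp]
    refine (congrArg (F k.unop.i).obj.map (Quiver.Hom.unop_inj (?_ : _ = 𝟙 _))).trans ((F k.unop.i).obj.map_id _)
    exact MorphismProperty.Over.Hom.ext (pullback.lift_fst _ _ _)
  φ_comp {k l m} a b W := by
    by_cases e1 : k = l
    · subst e1
      rw [lvlφ_self Xs F φ a]
      refine Eq.trans ?_ ((lvlφ Xs F φ b).hom.naturality
        (bcIdIso ((lvlSys Xs).map a) (lvl_map_eq_id Xs a) W).hom.op).symm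
      refine lvlφ_congr Xs F φ (Subsingleton.elim _ _) W _ _ ?_
      refine (pullback.lift_fst _ _ _).trans ?_
      exact ((EtCoh.isPullback_bc_map ((lvlSys Xs).map b)
        (bcIdIso ((lvlSys Xs).map a) (lvl_map_eq_id Xs a) W).hom).w).symm
    by_cases e2 : l = m
    · subst e2
      rw [lvlφ_self Xs F φ b]
      refine lvlφ_congr Xs F φ (Subsingleton.elim _ _) W _
        (bcIdIso ((lvlSys Xs).map b) (lvl_map_eq_id Xs b) ((EtCoh.bc ((lvlSys Xs).map a)).obj W)).hom ?_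
      exact pullback.lift_fst _ _ _
    have e3 : k ≠ m := fun h => by
      subst h
      exact e1 (Opposite.unop_injective (le_antisymm a.unop.le b.unop.le))
    rw [lvlφ_ne Xs F φ a e1, lvlφ_ne Xs F φ b e2, lvlφ_ne Xs F φ (b ≫ a) e3]
    exact adjφ_comp Xs F φ hφ (Lvl.le_i a.unop.le) (Lvl.le_i b.unop.le) W (bcc a b W)
      (pullback.lift_fst _ _ _)
  ψ_comp {k l} a W := by
    by_cases e1 : k = l
    · subst e1
      rw [lvlφ_self Xs F φ a]
      refine Eq.trans ?_ ((adjψ Xs c F G ψ k.unop.i (colimit.ι G k.unop.i)).hom.naturality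
        (bcIdIso ((lvlSys Xs).map a) (lvl_map_eq_id Xs a) W).hom.op).symm
      refine congrArg (fun q => _ ≫ (colimit G).obj.map (Quiver.Hom.op q)) (MorphismProperty.Over.Hom.ext ?_)
      apply pullback.hom_ext (f := W.hom) (g := (lvlCone Xs c).π.app k)
      · refine (bcTot_map_fst (lvlCone Xs c) (proj (⟨k, W⟩ : Tot (lvlSys Xs)) a)).trans ?_
        exact ((EtCoh.isPullback_bc_map ((lvlCone Xs c).π.app k)
          (bcIdIso ((lvlSys Xs).map a) (lvl_map_eq_id Xs a) W).hom).w).symm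
      · exact (MorphismProperty.Over.w ((bcTot (lvlCone Xs c)).map (proj (⟨k, W⟩ : Tot (lvlSys Xs)) a))).trans
          (MorphismProperty.Over.w ((EtCoh.bc ((lvlCone Xs c).π.app k)).map
            (bcIdIso ((lvlSys Xs).map a) (lvl_map_eq_id Xs a) W).hom)).symm
    rw [lvlφ_ne Xs F φ a e1]
    have h := adjψ_comp Xs c F φ G ψ hψ (Lvl.le_i a.unop.le) (colimit.ι G l.unop.i) W
      ((bcTot (lvlCone Xs c)).map (proj (⟨k, W⟩ : Tot (lvlSys Xs)) a))
      (bcTot_map_fst (lvlCone Xs c) (proj (⟨k, W⟩ : Tot (lvlSys Xs)) a))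
    rw [colimit.w] at h
    exact h

theorem sysData_ψt (k : (Lvl ι)ᵒᵖ) : (sysData Xs c F φ hφ G ψ hψ).ψt k =
    (ψ k.unop.i).hom ≫ colimit.ι G k.unop.i :=
  ((EtCoh.pullPushAdj (c.π.app (op k.unop.i))).homEquiv _ _).symm_apply_apply _

variable [IsDirected ι (· ≤ ·)] [Nonempty ι]

theorem sysData_isColim : (sysData Xs c F φ hφ G ψ hψ).sys.IsColim := by
  refine Data.isColim _ (fun Ω _ _ ξ q => ?_) (fun Ω _ _ ξ k W z t h => Or.inr ?_)
  · obtain ⟨i, x, hx⟩ := Concrete.isColimit_exists_rep _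
      (isColimitOfPreserves (EtCoh.stalk ξ) (colimit.isColimit G)) q
    refine ⟨op ⟨i, 0⟩, (EtCoh.stalk ξ).map (ψ i).inv x, ?_⟩
    rw [sysData_ψt]
    refine (ConcreteCategory.congr_hom ((EtCoh.stalk ξ).map_comp (ψ i).hom (colimit.ι G i)) _).trans ?_
    refine Eq.trans ?_ hx
    refine (ConcreteCategory.comp_apply _ _ _).trans (congrArg ((EtCoh.stalk ξ).map (colimit.ι G i)) ?_)
    exact (ConcreteCategory.comp_apply _ _ x).symm.trans ((ConcreteCategory.congr_hom
      (((EtCoh.stalk ξ).map_comp _ _).symm.trans ((congrArg (EtCoh.stalk ξ).map (ψ i).inv_hom_id).trans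
        ((EtCoh.stalk ξ).map_id _))) x).trans (ConcreteCategory.id_apply x))
  · let i := k.unop.i
    let P := Scheme.pointSmallEtale ξ
    let y : (EtCoh.stalk ξ).obj (G.obj i) :=
      P.toPresheafFiber ((EtCoh.bc (c.π.app (op i))).obj W) z (G.obj i).obj
        ((adjψ Xs c F G ψ i (𝟙 _)).hom.app (op W) t)
    have hnat : ∀ {N : EtCoh.Ab c.pt} (q : G.obj i ⟶ N), (EtCoh.stalk ξ).map q y =
        P.toPresheafFiber ((EtCoh.bc (c.π.app (op i))).obj W) z N.obj
          ((adjψ Xs c F G ψ i q).hom.app (op W) t) := fun {N} q => by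
      refine (P.toPresheafFiber_naturality_apply q.hom _ z _).trans (congrArg _ ?_)
      rw [adjψ, adjψ, Category.comp_id, Adjunction.homEquiv_naturality_right]
      rfl
    have hy : (EtCoh.stalk ξ).map (colimit.ι G i) y = 0 := (hnat _).trans h
    obtain ⟨j, u, v, huv0⟩ := Concrete.isColimit_exists_of_rep_eq (G ⋙ EtCoh.stalk ξ)
      (isColimitOfPreserves (EtCoh.stalk ξ) (colimit.isColimit G)) y (0 : (G ⋙ EtCoh.stalk ξ).obj i) (hy.trans (map_zero _).symm)
    have huv : (EtCoh.stalk ξ).map (G.map u) y = 0 :=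
      huv0.trans (map_zero ((G ⋙ EtCoh.stalk ξ).map v).hom)
    refine ⟨op ⟨j, k.unop.n + 1⟩, (homOfLE (Or.inr ⟨u.le, Nat.lt_succ_self _⟩ : k.unop ≤ _)).op, ?_⟩
    let a : op (⟨j, k.unop.n + 1⟩ : Lvl ι) ⟶ k :=
      (homOfLE (Or.inr ⟨u.le, Nat.lt_succ_self _⟩ : k.unop ≤ _)).op
    have hne : k ≠ op (⟨j, k.unop.n + 1⟩ : Lvl ι) := fun e =>
      Nat.succ_ne_self _ (congrArg (fun p => p.unop.n) e).symm
    show (Scheme.pointSmallEtale (ξ ≫ c.π.app (op j))).toPresheafFiber _ (downTo (A := ⟨k, W⟩) a z)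
      (F j).obj ((lvlφ Xs F φ a).hom.app (op W) t) = 0
    rw [lvlφ_ne Xs F φ a hne]
    let z' := (EtFound.bcFiberEquiv (c.π.app (op j)) ξ ((EtCoh.bc (Xs.map (homOfLE u.le).op)).obj W)).symm
      (downTo (A := ⟨k, W⟩) a z)
    let m := (bcTot (lvlCone Xs c)).map (proj (⟨k, W⟩ : Tot (lvlSys Xs)) a)
    have hz : (Scheme.pointSmallEtale ξ).fiber.map m z' = z := by
      have h0 := map_fiber_refine (c := lvlCone Xs c) (A := (⟨k, W⟩ : Tot (lvlSys Xs))) (k := k) rfl a
        (z := z) (𝟙 (bcObj (⟨k, W⟩ : Tot (lvlSys Xs)) a).obj) (v := downTo (A := ⟨k, W⟩) a z)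
        (by rw [CategoryTheory.Functor.map_id]; rfl)
      rw [CategoryTheory.Functor.map_id, Category.id_comp] at h0
      exact h0
    have e1 := adjψ_comp Xs c F φ G ψ hψ u.le (𝟙 (G.obj j)) W m
      (bcTot_map_fst (lvlCone Xs c) (proj (⟨k, W⟩ : Tot (lvlSys Xs)) a))
    rw [Category.comp_id, Subsingleton.elim (homOfLE u.le) u] at e1
    have h2 : (EtCoh.stalk ξ).map (ψ j).hom ((EtFound.sheafFiberPullIso (A := AddCommGrpCat.{u + 1})
        (c.π.app (op j)) ξ).inv.app (F j)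
        ((Scheme.pointSmallEtale (ξ ≫ c.π.app (op j))).toPresheafFiber _ (downTo (A := ⟨k, W⟩) a z)
          (F j).obj ((adjφ Xs F φ u.le).hom.app (op W) t))) = 0 := by
      rw [← Equiv.apply_symm_apply (EtFound.bcFiberEquiv (c.π.app (op j)) ξ
        ((EtCoh.bc (Xs.map (homOfLE u.le).op)).obj W)) (downTo (A := ⟨k, W⟩) a z)]
      refine (stalk_adjunct (c.π.app (op j)) (ψ j).hom ξ _ z' _).trans ?_
      have e2 : (EtCoh.pullPushAdj (c.π.app (op j))).homEquiv _ _ (ψ j).hom = adjψ Xs c F G ψ j (𝟙 _) := by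
        rw [adjψ, Category.comp_id]
      rw [e2]
      refine (congrArg (P.toPresheafFiber _ z' (G.obj j).obj) (ConcreteCategory.congr_hom e1 t).symm).trans ?_
      refine ((congrArg (P.toPresheafFiber _ z' (G.obj j).obj) (ConcreteCategory.comp_apply _ _ t)).trans
        (P.toPresheafFiber_w_apply m z' (G.obj j).obj _)).trans ?_
      rw [hz]
      exact (hnat _).symm.trans huv
    have h3 := ((ConcreteCategory.isIso_iff_bijective ((EtCoh.stalk ξ).map (ψ j).hom)).1 inferInstance).1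
      (h2.trans (map_zero _).symm)
    exact ((ConcreteCategory.isIso_iff_bijective ((EtFound.sheafFiberPullIso (A := AddCommGrpCat.{u + 1})
      (c.π.app (op j)) ξ).inv.app (F j))).1 inferInstance).1 (h3.trans (map_zero _).symm)

end Groth.Agent.EtLimCore
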