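import Groth.Agent.EtLimCore.Tot
import Groth.Agent.EtFound.QcqsObjects

/-!
# Étale schemes over a stage along an inverse system with affine transition maps
-/

set_option autoImplicit false
set_option maxHeartbeats 400000

universe u

open CategoryTheory CategoryTheory.Limits AlgebraicGeometry Opposite TopologicalSpace

namespace Groth.Agent.EtLimCore

set_option backward.isDefEq.respectTransparency false
set_option backward.isDefEq.respectTransparency.types false

variable {I : Type u} [SmallCategory I] {Y : I ⥤ Scheme.{u}} (c : Cone Y)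

/-- the base changes of `A` to the later stages -/
noncomputable def diag (A : Tot Y) : Over A.st ⥤ Scheme.{u} where
  obj m := pullback A.obj.hom (Y.map m.hom)
  map {m n} f := pullback.lift (pullback.fst _ _) (pullback.snd _ _ ≫ Y.map f.left)
    (by rw [pullback.condition, Category.assoc, ← Y.map_comp, Over.w])
  map_id m := by refine pullback.hom_ext ?_ ?_ <;> simp
  map_comp f g := by refine pullback.hom_ext ?_ ?_ <;> simp

/-- the cone over the base changes -/
noncomputable def diagCone (A : Tot Y) : Cone (diag A) where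
  pt := pullback A.obj.hom (c.π.app A.st)
  π :=
    { app := fun m => pullback.lift (pullback.fst _ _) (pullback.snd _ _ ≫ c.π.app m.left)
        (by rw [pullback.condition, Category.assoc, c.w])
      naturality := fun m n f => by
        refine (Category.id_comp _).trans (pullback.hom_ext ?_ ?_)
        · simp [diag]
        · simp [diag, c.w] }

variable {c}

/-- the cone of the base changes is a limit cone -/
noncomputable def isLimitDiagCone [IsCofiltered I] (hc : IsLimit c) (A : Tot Y) : IsLimit (diagCone c A) :=
  let hc' : IsLimit (c.whisker (Over.forget A.st)) :=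
    (Functor.Initial.isLimitWhiskerEquiv (Over.forget A.st) c).symm hc
  let toC : ∀ s : Cone (diag A), Cone (Over.forget A.st ⋙ Y) := fun s =>
    { pt := s.pt
      π :=
        { app := fun m => s.π.app m ≫ pullback.snd A.obj.hom (Y.map m.hom)
          naturality := fun m n f => by
            refine (Category.id_comp _).trans ?_
            rw [← s.w f, Category.assoc, Category.assoc]
            exact congrArg (s.π.app m ≫ ·) (pullback.lift_snd _ _ _) } }
  { lift := fun s => pullback.lift (f := A.obj.hom) (g := c.π.app A.st) (s.π.app (Over.mk (𝟙 A.st)) ≫ pullback.fst _ _) (hc'.lift (toC s)) (by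
      have h := hc'.fac (toC s) (Over.mk (𝟙 A.st))
      refine Eq.trans ?_ h.symm
      show (s.π.app (Over.mk (𝟙 A.st)) ≫ pullback.fst A.obj.hom (Y.map (𝟙 A.st))) ≫ A.obj.hom =
        s.π.app (Over.mk (𝟙 A.st)) ≫ pullback.snd A.obj.hom (Y.map (𝟙 A.st))
      rw [Category.assoc, pullback.condition]
      exact congrArg (s.π.app (Over.mk (𝟙 A.st)) ≫ ·)
        ((congrArg (pullback.snd A.obj.hom (Y.map (𝟙 A.st)) ≫ ·) (Y.map_id A.st)).trans (Category.comp_id _)))
    fac := fun s m => by
      refine pullback.hom_ext ?_ ?_
      · simp only [diagCone, Category.assoc, pullback.lift_fst]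
        have e := s.w (Over.homMk m.hom : m ⟶ Over.mk (𝟙 A.st))
        rw [← e, Category.assoc]
        exact congrArg (s.π.app m ≫ ·) (pullback.lift_fst _ _ _)
      · simp only [diagCone, Category.assoc, pullback.lift_snd, pullback.lift_snd_assoc]
        exact hc'.fac (toC s) m
    uniq := fun s f hf => by
      refine pullback.hom_ext ?_ ?_
      · rw [pullback.lift_fst, ← hf (Over.mk (𝟙 A.st)), Category.assoc]
        exact congrArg (f ≫ ·) (pullback.lift_fst _ _ _).symm
      · rw [pullback.lift_snd]
        refine hc'.uniq (toC s) _ fun m => ?_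
        show (f ≫ pullback.snd _ _) ≫ c.π.app m.left = s.π.app m ≫ pullback.snd _ _
        rw [← hf m, Category.assoc, Category.assoc]
        exact congrArg (f ≫ ·) (pullback.lift_snd _ _ _).symm }

variable [∀ {i j : I} (f : i ⟶ j), IsAffineHom (Y.map f)]

theorem isAffineHom_diag_map (A : Tot Y) {m n : Over A.st} (f : m ⟶ n) : IsAffineHom ((diag A).map f) := by
  have h1 : IsAffineHom (pullback.fst A.obj.hom (Y.map m.hom)) :=
    MorphismProperty.pullback_fst (P := @IsAffineHom) _ _ inferInstance
  have h2 : IsAffineHom (pullback.fst A.obj.hom (Y.map n.hom)) :=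
    MorphismProperty.pullback_fst (P := @IsAffineHom) _ _ inferInstance
  have h3 : IsAffineHom ((diag A).map f ≫ pullback.fst A.obj.hom (Y.map n.hom)) := by
    have e : (diag A).map f ≫ pullback.fst A.obj.hom (Y.map n.hom) = pullback.fst A.obj.hom (Y.map m.hom) :=
      pullback.lift_fst _ _ _
    rw [e]
    exact h1
  exact .of_comp _ (pullback.fst A.obj.hom (Y.map n.hom))

theorem isQcqsObj_bcObj {A : Tot Y} (hA : EtFound.IsQcqsObj A.obj) {l : I} (a : l ⟶ A.st) :
    EtFound.IsQcqsObj (bcObj A a).obj := by
  have h1 : IsAffineHom (pullback.fst A.obj.hom (Y.map a)) :=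
    MorphismProperty.pullback_fst (P := @IsAffineHom) _ _ inferInstance
  have : CompactSpace ↥((𝟭 Scheme.{u}).obj A.obj.left) := hA.1
  have : QuasiSeparatedSpace ↥((𝟭 Scheme.{u}).obj A.obj.left) := hA.2
  exact ⟨QuasiCompact.compactSpace_of_compactSpace (pullback.fst A.obj.hom (Y.map a)),
    quasiSeparatedSpace_of_quasiSeparated (pullback.fst A.obj.hom (Y.map a))⟩

/-- an open containing the image of the limit contains the image of a later stage -/
theorem exists_stage_top [IsCofiltered I] (hc : IsLimit c) (A : Tot Y) (hA : EtFound.IsQcqsObj A.obj)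
    (m : Over A.st) (U : ((diag A).obj m).Opens) (hU : ∀ x, ((diagCone c A).π.app m).base x ∈ U) :
    ∃ (n : Over A.st) (f : n ⟶ m), ∀ x, ((diag A).map f).base x ∈ U := by
  have : ∀ {i j : Over A.st} (f : i ⟶ j), IsAffineHom ((diag A).map f) := fun f => isAffineHom_diag_map A f
  have : ∀ n : Over A.st, CompactSpace ((diag A).obj n) := fun n => (isQcqsObj_bcObj hA n.hom).1
  obtain ⟨n, f, hf⟩ := exists_map_eq_top (diag A) (diagCone c A) (isLimitDiagCone hc A) U
    (top_le_iff.1 fun x _ => hU x)
  exact ⟨n, f, fun x => hf.ge (TopologicalSpace.Opens.mem_top x)⟩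

/-- opens of the limit contain affine opens of the stages -/
theorem exists_affine_stage_nbhd [IsCofiltered I] (hc : IsLimit c) (A : Tot Y)
    (O : (diagCone c A).pt.Opens) (x : (diagCone c A).pt) (hx : x ∈ O) :
    ∃ (n : Over A.st) (P : ((diag A).obj n).Opens), IsAffineOpen P ∧ ((diagCone c A).π.app n).base x ∈ P ∧
      (diagCone c A).π.app n ⁻¹ᵁ P ≤ O := by
  have : ∀ {i j : Over A.st} (f : i ⟶ j), IsAffineHom ((diag A).map f) := fun f => isAffineHom_diag_map A f
  obtain ⟨_, ⟨_, ⟨n, P, hP, rfl⟩, rfl⟩, hxP, hPO⟩ :=
    (isBasis_preimage_isAffineOpen (diag A) (diagCone c A) (isLimitDiagCone hc A)).exists_subset_of_mem_open hx O.2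
  exact ⟨n, P, hP, hxP, hPO⟩

end Groth.Agent.EtLimCore
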