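import Groth.Agent.EtLimCore.StrictNbhd
import Groth.Agent.EtLimCore.PullSys
import Groth.Agent.DualLib.Pull

/-!
# The stalk of a direct image is the sections over the strict localisation
-/

set_option autoImplicit false
set_option maxHeartbeats 800000

universe u

open CategoryTheory CategoryTheory.Limits AlgebraicGeometry Opposite CategoryTheory.Abelian

namespace Groth.Agent.EtLimCore

set_option backward.isDefEq.respectTransparency false
set_option backward.isDefEq.respectTransparency.types false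

section Sec

variable {P Q : Scheme.{u}} (g : Q ⟶ P)

/-- a lift to an étale scheme as a morphism from the final object -/
noncomputable def liftTop {V : P.Etale} (m : Q ⟶ V.left) (hm : m ≫ V.hom = g) :
    EtCoh.top Q ⟶ (EtCoh.bc g).obj V :=
  MorphismProperty.Over.homMk (pullback.lift m (𝟙 Q) (hm.trans (Category.id_comp g).symm))
    (pullback.lift_snd _ _ _)

/-- sections over an étale scheme with a lift give sections of the inverse image -/
noncomputable def secMap (F : EtCoh.Ab P) {V : P.Etale} (m : Q ⟶ V.left) (hm : m ≫ V.hom = g) :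
    F.obj.obj (op V) ⟶ ((EtCoh.pull g).obj F).obj.obj (op (EtCoh.top Q)) :=
  ((EtCoh.pullPushAdj g).unit.app F).hom.app (op V) ≫ ((EtCoh.pull g).obj F).obj.map (liftTop g m hm).op

theorem secMap_natural {F G : EtCoh.Ab P} (φ : F ⟶ G) {V : P.Etale} (m : Q ⟶ V.left) (hm : m ≫ V.hom = g) :
    φ.hom.app (op V) ≫ secMap g G m hm = secMap g F m hm ≫ ((EtCoh.pull g).map φ).hom.app (op (EtCoh.top Q)) := by
  have h := congrArg (fun q => q.hom.app (op V)) ((EtCoh.pullPushAdj g).unit.naturality φ)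
  refine (Category.assoc _ _ _).symm.trans ((congrArg (· ≫ _) h).trans ?_)
  refine (Category.assoc _ _ _).trans (Eq.trans ?_ (Category.assoc _ _ _).symm)
  exact congrArg (_ ≫ ·) (((EtCoh.pull g).map φ).hom.naturality (liftTop g m hm).op).symm

theorem secMap_map (F : EtCoh.Ab P) {V V' : P.Etale} (h : V' ⟶ V) (m : Q ⟶ V'.left) (hm : m ≫ V'.hom = g)
    (m' : Q ⟶ V.left) (hm' : m' ≫ V.hom = g) (e : m ≫ h.left = m') :
    F.obj.map h.op ≫ secMap g F m hm = secMap g F m' hm' := by
  refine (Category.assoc _ _ _).symm.trans ((congrArg (· ≫ _)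
    (((EtCoh.pullPushAdj g).unit.app F).hom.naturality h.op)).trans ?_)
  refine (Category.assoc _ _ _).trans (congrArg (_ ≫ ·) ?_)
  refine (((EtCoh.pull g).obj F).obj.map_comp _ _).symm.trans
    (congrArg ((EtCoh.pull g).obj F).obj.map (Quiver.Hom.unop_inj (MorphismProperty.Over.Hom.ext ?_)))
  apply pullback.hom_ext (f := V.hom) (g := g)
  · show ((liftTop g m hm).left ≫ ((EtCoh.bc g).map h).left) ≫ pullback.fst V.hom g =
      (liftTop g m' hm').left ≫ pullback.fst V.hom g
    refine ((Category.assoc _ _ _).trans (congrArg (_ ≫ ·) (EtCoh.isPullback_bc_map g h).w)).trans ?_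
    refine (Category.assoc _ _ _).symm.trans ((congrArg (· ≫ h.left) (pullback.lift_fst _ _ _)).trans ?_)
    exact e.trans (pullback.lift_fst _ _ _).symm
  · exact (MorphismProperty.Over.w (liftTop g m hm ≫ (EtCoh.bc g).map h)).trans
      (MorphismProperty.Over.w (liftTop g m' hm')).symm

variable {R : Scheme.{u}} (k : R ⟶ Q) {f₀ : R ⟶ P} (hk : k ≫ g = f₀)

theorem secMap_pullVia (F : EtCoh.Ab P) {V : P.Etale} (m : Q ⟶ V.left) (hm : m ≫ V.hom = g) :
    secMap g F m hm ≫
        ((EtCoh.pullPushAdj k).homEquiv _ _ (pullVia k g hk F)).hom.app (op (EtCoh.top Q)) ≫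
        ((EtCoh.pull f₀).obj F).obj.map (EtCore.bcTopIso k).inv.op =
      secMap f₀ F (k ≫ m) ((Category.assoc _ _ _).trans ((congrArg (k ≫ ·) hm).trans hk)) := by
  have hm' : (k ≫ m) ≫ V.hom = f₀ := (Category.assoc _ _ _).trans ((congrArg (k ≫ ·) hm).trans hk)
  let can : (EtCoh.bc k).obj ((EtCoh.bc g).obj V) ⟶ (EtCoh.bc f₀).obj V :=
    MorphismProperty.Over.homMk
      (pullback.lift (pullback.fst ((EtCoh.bc g).obj V).hom k ≫ pullback.fst V.hom g)
        (pullback.snd ((EtCoh.bc g).obj V).hom k)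
        (((Category.assoc _ _ _).trans (congrArg (_ ≫ ·) pullback.condition)).trans
          ((Category.assoc _ _ _).symm.trans ((congrArg (· ≫ g) (pullback.condition
            (f := ((EtCoh.bc g).obj V).hom) (g := k))).trans
            ((Category.assoc _ _ _).trans (congrArg (_ ≫ ·) hk))))))
      (pullback.lift_snd _ _ _)
  refine (Category.assoc _ _ _).trans ?_
  refine (congrArg (_ ≫ ·) ((Category.assoc _ _ _).symm.trans ((congrArg (· ≫ _)
    (((EtCoh.pullPushAdj k).homEquiv _ _ (pullVia k g hk F)).hom.naturality (liftTop g m hm).op)).trans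
    (Category.assoc _ _ _)))).trans ?_
  refine (Category.assoc _ _ _).symm.trans ((congrArg (· ≫ _)
    (unit_pullVia k g hk F V can (pullback.lift_fst _ _ _))).trans ?_)
  refine (Category.assoc _ _ _).trans (congrArg (_ ≫ ·) ?_)
  show ((EtCoh.pull f₀).obj F).obj.map can.op ≫
    ((EtCoh.pull f₀).obj F).obj.map ((EtCoh.bc k).map (liftTop g m hm)).op ≫
    ((EtCoh.pull f₀).obj F).obj.map (EtCore.bcTopIso k).inv.op = _
  rw [← Functor.map_comp, ← Functor.map_comp]
  refine congrArg ((EtCoh.pull f₀).obj F).obj.map (Quiver.Hom.unop_inj (MorphismProperty.Over.Hom.ext ?_))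
  apply pullback.hom_ext (f := V.hom) (g := f₀)
  · show (((EtCore.bcTopIso k).inv.left ≫ ((EtCoh.bc k).map (liftTop g m hm)).left) ≫ can.left) ≫
        pullback.fst V.hom f₀ = (liftTop f₀ (k ≫ m) hm').left ≫ pullback.fst V.hom f₀
    refine ((Category.assoc _ _ _).trans (congrArg (_ ≫ ·) (pullback.lift_fst _ _ _))).trans ?_
    refine (Category.assoc _ _ _).symm.trans ((congrArg (· ≫ _) ((Category.assoc _ _ _).trans
      (congrArg (_ ≫ ·) (EtCoh.isPullback_bc_map k (liftTop g m hm)).w))).trans ?_)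
    refine ((Category.assoc _ _ _).trans (congrArg (_ ≫ ·) ((Category.assoc _ _ _).trans
      (congrArg (_ ≫ ·) (pullback.lift_fst _ _ _))))).trans ?_
    refine (Category.assoc _ _ _).symm.trans ((congrArg (· ≫ m) (?_ : _ = k)).trans (pullback.lift_fst _ _ _).symm)
    refine Eq.trans ?_ ((congrArg (· ≫ k) (MorphismProperty.Over.w (EtCore.bcTopIso k).inv)).trans
      (Category.id_comp k))
    refine Eq.trans ?_ (Category.assoc _ _ _).symm
    exact congrArg (_ ≫ ·) ((Category.comp_id _).symm.trans pullback.condition)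
  · exact (MorphismProperty.Over.w (((EtCore.bcTopIso k).inv ≫ (EtCoh.bc k).map (liftTop g m hm)) ≫ can)).trans
      (MorphismProperty.Over.w (liftTop f₀ (k ≫ m)
        ((Category.assoc _ _ _).trans ((congrArg (k ≫ ·) hm).trans hk)))).symm

/-- sections over an étale scheme are the global sections of the restriction -/
theorem secMap_self_bijective (F : EtCoh.Ab P) (V : P.Etale) :
    Function.Bijective (secMap V.hom F (𝟙 V.left) (Category.id_comp _)) := by
  haveI : AlgebraicGeometry.Etale V.hom := V.prop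
  haveI : EtShriek.JCont V.hom := EtFound.jCont V.hom
  let l := liftTop V.hom (𝟙 V.left) (Category.id_comp _)
  let c := (EtShriek.compEtale V.hom).map l ≫ (DualLib.compBcAdj V.hom).counit.app V
  haveI : IsIso c := by
    have h : c.left = 𝟙 V.left := pullback.lift_fst _ _ _
    haveI : IsIso c.left := by rw [h]; exact IsIso.id _
    haveI : IsIso ((Scheme.Etale.forget P ⋙ CategoryTheory.Over.forget P).map c) :=
      inferInstanceAs (IsIso c.left)
    exact isIso_of_reflects_iso c (Scheme.Etale.forget P ⋙ CategoryTheory.Over.forget P)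
  have e : secMap V.hom F (𝟙 V.left) (Category.id_comp _) =
      F.obj.map c.op ≫ ((DualLib.restrPullIso V.hom).hom.app F).hom.app (op (EtCoh.top V.left)) := by
    ext s
    refine (ConcreteCategory.comp_apply _ _ s).trans
      ((congrArg _ (DualLib.unit_app_apply V.hom F V s)).trans ?_)
    refine (ConcreteCategory.comp_apply _ _ _).symm.trans ((ConcreteCategory.congr_hom
      (((DualLib.restrPullIso V.hom).hom.app F).hom.naturality l.op).symm
      (F.obj.map ((DualLib.compBcAdj V.hom).counit.app V).op s)).trans ?_)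
    refine (ConcreteCategory.comp_apply _ _ _).trans (Eq.trans ?_ (ConcreteCategory.comp_apply _ _ s).symm)
    refine congrArg _ ((ConcreteCategory.comp_apply _ _ s).symm.trans (ConcreteCategory.congr_hom ?_ s))
    exact (F.obj.map_comp _ _).symm
  rw [e]
  haveI : IsIso (((DualLib.restrPullIso V.hom).hom.app F).hom.app (op (EtCoh.top V.left))) :=
    inferInstanceAs (IsIso (((DualLib.restrPullIso V.hom).app F).hom.hom.app _))
  exact (ConcreteCategory.isIso_iff_bijective _).1 inferInstance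

end Sec

instance nonempty_affNbhd {X : Scheme.{u}} {Ω : Type u} [Field Ω] [IsSepClosed Ω]
    (ξ : Spec (CommRingCat.of Ω) ⟶ X) : Nonempty (AffNbhd ξ) := IsCofiltered.nonempty

variable {P X : Scheme.{u}} (f : P ⟶ X) {Ω : Type u} [Field Ω] [IsSepClosed Ω]
  (ξ : Spec (CommRingCat.of Ω) ⟶ X) {L : Cone (nbhdSch ξ)} (σ : L.pt ⟶ X)
  (hσ : ∀ i, L.π.app i ≫ ((nbhdObj ξ).obj i).hom = σ)

/-- the base changes of the neighbourhoods -/
noncomputable abbrev bcSys : AffNbhd ξ ⥤ Scheme.{u} :=
  (nbhdObj ξ ⋙ EtCoh.bc f) ⋙ Scheme.Etale.forget P ⋙ CategoryTheory.Over.forget P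

/-- structure maps -/
noncomputable abbrev bcT (i : AffNbhd ξ) : (bcSys f ξ).obj i ⟶ P :=
  ((EtCoh.bc f).obj ((nbhdObj ξ).obj i)).hom

theorem bcT_w {i j : AffNbhd ξ} (a : j ⟶ i) : (bcSys f ξ).map a ≫ bcT f ξ i = bcT f ξ j :=
  MorphismProperty.Over.w ((EtCoh.bc f).map ((nbhdObj ξ).map a))

/-- the base change of the limit -/
noncomputable def bcCone : Cone (bcSys f ξ) where
  pt := pullback f σ
  π :=
    { app := fun i => pullback.lift (f := ((nbhdObj ξ).obj i).hom) (g := f)
        (pullback.snd f σ ≫ L.π.app i) (pullback.fst f σ)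
        ((Category.assoc _ _ _).trans ((congrArg (_ ≫ ·) (hσ i)).trans pullback.condition.symm))
      naturality := fun i j a => by
        refine (Category.id_comp _).trans ?_
        apply pullback.hom_ext (f := ((nbhdObj ξ).obj j).hom) (g := f)
        · rw [pullback.lift_fst]
          refine Eq.trans ?_ (Category.assoc _ _ _).symm
          refine Eq.trans ?_ (congrArg (_ ≫ ·) (EtCoh.isPullback_bc_map f ((nbhdObj ξ).map a)).w).symm
          refine Eq.trans ?_ (Category.assoc _ _ _)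
          refine Eq.trans ?_ (congrArg (· ≫ _) (pullback.lift_fst _ _ _)).symm
          exact ((congrArg (pullback.snd f σ ≫ ·) (L.w a).symm)).trans (Category.assoc _ _ _).symm
        · rw [pullback.lift_snd]
          refine Eq.trans ?_ (Category.assoc _ _ _).symm
          refine Eq.trans ?_ (congrArg (_ ≫ ·) (bcT_w f ξ a)).symm
          exact (pullback.lift_snd _ _ _).symm }

theorem bcCone_t (i : AffNbhd ξ) : (bcCone f ξ σ hσ).π.app i ≫ bcT f ξ i = pullback.fst f σ :=
  pullback.lift_snd _ _ _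

/-- limits commute with base change -/
noncomputable def isLimitBcCone (hL : IsLimit L) : IsLimit (bcCone f ξ σ hσ) :=
  let toL : ∀ s : Cone (bcSys f ξ), Cone (nbhdSch ξ) := fun s =>
    { pt := s.pt
      π :=
        { app := fun i => s.π.app i ≫ pullback.fst ((nbhdObj ξ).obj i).hom f
          naturality := fun i j a => by
            refine (Category.id_comp _).trans ?_
            rw [← s.w a, Category.assoc, Category.assoc]
            exact congrArg (s.π.app i ≫ ·) (EtCoh.isPullback_bc_map f ((nbhdObj ξ).map a)).w } }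
  have hsnd : ∀ (s : Cone (bcSys f ξ)) (i j : AffNbhd ξ),
      s.π.app i ≫ bcT f ξ i = s.π.app j ≫ bcT f ξ j := fun s i j => by
    rw [← s.w (IsCofiltered.minToLeft i j), ← s.w (IsCofiltered.minToRight i j), Category.assoc,
      Category.assoc, bcT_w, bcT_w]
  let i₀ := Classical.arbitrary (AffNbhd ξ)
  have hcond : ∀ s : Cone (bcSys f ξ),
      (s.π.app i₀ ≫ bcT f ξ i₀) ≫ f = hL.lift (toL s) ≫ σ := fun s => by
    rw [← hσ i₀, ← Category.assoc (hL.lift (toL s)), hL.fac (toL s) i₀, Category.assoc]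
    exact ((congrArg (s.π.app i₀ ≫ ·) (pullback.condition (f := ((nbhdObj ξ).obj i₀).hom) (g := f)).symm)).trans
      (Category.assoc _ _ _).symm
  { lift := fun s => pullback.lift (f := f) (g := σ) (s.π.app i₀ ≫ bcT f ξ i₀) (hL.lift (toL s)) (hcond s)
    fac := fun s i => by
      apply pullback.hom_ext (f := ((nbhdObj ξ).obj i).hom) (g := f)
      · refine ((Category.assoc _ _ _).trans (congrArg (_ ≫ ·) (pullback.lift_fst _ _ _))).trans ?_
        refine (Category.assoc _ _ _).symm.trans ((congrArg (· ≫ L.π.app i) (pullback.lift_snd _ _ _)).trans ?_)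
        exact hL.fac (toL s) i
      · refine ((Category.assoc _ _ _).trans (congrArg (_ ≫ ·) (pullback.lift_snd _ _ _))).trans ?_
        exact (pullback.lift_fst _ _ _).trans (hsnd s i₀ i)
    uniq := fun s q hq => by
      apply pullback.hom_ext (f := f) (g := σ)
      · rw [pullback.lift_fst, ← hq i₀, Category.assoc]
        exact congrArg (q ≫ ·) (bcCone_t f ξ σ hσ i₀).symm
      · rw [pullback.lift_snd]
        refine hL.uniq (toL s) _ fun i => ?_
        show (q ≫ pullback.snd f σ) ≫ L.π.app i = s.π.app i ≫ pullback.fst _ _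
        rw [← hq i, Category.assoc, Category.assoc]
        exact congrArg (q ≫ ·) (pullback.lift_fst _ _ _).symm }

instance isAffineHom_bcSys {i j : AffNbhd ξ} (a : i ⟶ j) : IsAffineHom ((bcSys f ξ).map a) :=
  MorphismProperty.of_isPullback (P := @IsAffineHom) (EtCoh.isPullback_bc_map f ((nbhdObj ξ).map a)).flip
    (isAffineHom_nbhd ξ a)

instance compactSpace_bcSys [QuasiCompact f] (i : AffNbhd ξ) : CompactSpace ↥((bcSys f ξ).obj i) :=
  haveI : IsAffine ((nbhdObj ξ).obj i).left := isAffine_nbhd ξ i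
  haveI : CompactSpace ↥((𝟭 Scheme.{u}).obj ((nbhdObj ξ).obj i).left) :=
    inferInstanceAs (CompactSpace ↥((nbhdObj ξ).obj i).left)
  QuasiCompact.compactSpace_of_compactSpace (pullback.fst ((nbhdObj ξ).obj i).hom f)

instance quasiSeparatedSpace_bcSys [QuasiSeparated f] (i : AffNbhd ξ) :
    QuasiSeparatedSpace ↥((bcSys f ξ).obj i) :=
  haveI : IsAffine ((nbhdObj ξ).obj i).left := isAffine_nbhd ξ i
  haveI : QuasiSeparatedSpace ↥((𝟭 Scheme.{u}).obj ((nbhdObj ξ).obj i).left) :=
    inferInstanceAs (QuasiSeparatedSpace ↥((nbhdObj ξ).obj i).left)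
  quasiSeparatedSpace_of_quasiSeparated (pullback.fst ((nbhdObj ξ).obj i).hom f)

/-- from the sections over the neighbourhoods to the sections over the strict localisation -/
noncomputable def θCocone (F : EtCoh.Ab P) : Cocone ((nbhdObj ξ).op ⋙ ((EtCoh.push f).obj F).obj) where
  pt := ((EtCoh.pull (pullback.fst f σ)).obj F).obj.obj (op (EtCoh.top (pullback f σ)))
  ι :=
    { app := fun i => secMap (pullback.fst f σ) F (V := (EtCoh.bc f).obj ((nbhdObj ξ).obj i.unop))
        ((bcCone f ξ σ hσ).π.app i.unop) (bcCone_t f ξ σ hσ i.unop)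
      naturality := fun i j a => by
        refine Eq.trans ?_ (Category.comp_id _).symm
        exact secMap_map (pullback.fst f σ) F ((EtCoh.bc f).map ((nbhdObj ξ).map a.unop))
          ((bcCone f ξ σ hσ).π.app j.unop) (bcCone_t f ξ σ hσ j.unop)
          ((bcCone f ξ σ hσ).π.app i.unop) (bcCone_t f ξ σ hσ i.unop) ((bcCone f ξ σ hσ).w a.unop) }

/-- comparison map from the stalk of the direct image -/
noncomputable def θApp (F : EtCoh.Ab P) : (EtCoh.stalk ξ).obj ((EtCoh.push f).obj F) ⟶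
    ((EtCoh.pull (pullback.fst f σ)).obj F).obj.obj (op (EtCoh.top (pullback f σ))) :=
  (isColimitStalkCocone ξ ((EtCoh.push f).obj F).obj).desc (θCocone f ξ σ hσ F)

theorem θApp_germ (F : EtCoh.Ab P) (i : (AffNbhd ξ)ᵒᵖ) :
    (stalkCocone ξ ((EtCoh.push f).obj F).obj).ι.app i ≫ θApp f ξ σ hσ F = (θCocone f ξ σ hσ F).ι.app i :=
  (isColimitStalkCocone ξ ((EtCoh.push f).obj F).obj).fac _ i

/-- the comparison is natural -/
noncomputable def stalkθ : EtCoh.push f ⋙ EtCoh.stalk ξ ⟶ EtCoh.pull (pullback.fst f σ) ⋙ EtCore.gsec (pullback f σ) where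
  app F := θApp f ξ σ hσ F
  naturality F G φ := by
    refine (isColimitStalkCocone ξ ((EtCoh.push f).obj F).obj).hom_ext fun i => ?_
    have h1 : (stalkCocone ξ ((EtCoh.push f).obj F).obj).ι.app i ≫
        (EtCoh.stalk ξ).map ((EtCoh.push f).map φ) =
      ((EtCoh.push f).map φ).hom.app (op ((nbhdObj ξ).obj i.unop)) ≫
        (stalkCocone ξ ((EtCoh.push f).obj G).obj).ι.app i :=
      (Scheme.pointSmallEtale ξ).toPresheafFiber_naturality ((EtCoh.push f).map φ).hom _ _
    refine (Category.assoc _ _ _).symm.trans ((congrArg (· ≫ θApp f ξ σ hσ G) h1).trans ?_)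
    refine ((Category.assoc _ _ _).trans (congrArg (_ ≫ ·) (θApp_germ f ξ σ hσ G i))).trans ?_
    refine Eq.trans ?_ ((congrArg (· ≫ _) (θApp_germ f ξ σ hσ F i).symm).trans (Category.assoc _ _ _))
    exact secMap_natural (pullback.fst f σ) φ _ _

theorem secMap_congr {Q : Scheme.{u}} (g : Q ⟶ P) (F : EtCoh.Ab P) {V : P.Etale} (m m' : Q ⟶ V.left)
    (hm : m ≫ V.hom = g) (hm' : m' ≫ V.hom = g) (e : m = m') : secMap g F m hm = secMap g F m' hm' := by
  subst e
  rfl

/-- sections over a neighbourhood as global sections of the restriction -/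
noncomputable abbrev secAt (F : EtCoh.Ab P) (i : AffNbhd ξ) :
    F.obj.obj (op ((EtCoh.bc f).obj ((nbhdObj ξ).obj i))) ⟶
      ((EtCoh.pull (bcT f ξ i)).obj F).obj.obj (op (EtCoh.top ((bcSys f ξ).obj i))) :=
  secMap (bcT f ξ i) F (V := (EtCoh.bc f).obj ((nbhdObj ξ).obj i)) (𝟙 _) (Category.id_comp _)

theorem secAt_key (F : EtCoh.Ab P) (i : AffNbhd ξ)
    [PreservesFiniteLimits (EtCoh.pull ((bcCone f ξ σ hσ).π.app i))]
    (η : EtCoh.H ((bcSys f ξ).obj i) ((EtCoh.pull (bcT f ξ i)).obj F) 0)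
    (s : F.obj.obj (op ((EtCoh.bc f).obj ((nbhdObj ξ).obj i))))
    (hs : secAt f ξ F i s = Sheaf.H.equiv₀ _ (EtCore.topIsTerminal _) η) :
    Sheaf.H.equiv₀ ((EtCoh.pull (pullback.fst f σ)).obj F) (EtCore.topIsTerminal (bcCone f ξ σ hσ).pt)
        (EtLim.HpullThen ((bcCone f ξ σ hσ).π.app i) _
          (pullVia ((bcCone f ξ σ hσ).π.app i) (bcT f ξ i) (bcCone_t f ξ σ hσ i) F) 0 η) =
      θApp f ξ σ hσ F ((stalkCocone ξ ((EtCoh.push f).obj F).obj).ι.app (op i) s) := by
  refine (equiv₀_HpullThen ((bcCone f ξ σ hσ).π.app i) _ η).trans ?_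
  rw [← hs]
  refine Eq.trans ?_ (ConcreteCategory.congr_hom (θApp_germ f ξ σ hσ F (op i)) s).symm
  refine (ConcreteCategory.congr_hom (secMap_pullVia (bcT f ξ i) ((bcCone f ξ σ hσ).π.app i)
    (bcCone_t f ξ σ hσ i) F (V := (EtCoh.bc f).obj ((nbhdObj ξ).obj i)) (𝟙 _) (Category.id_comp _)) s).trans ?_
  exact ConcreteCategory.congr_hom (secMap_congr (pullback.fst f σ) F
    (V := (EtCoh.bc f).obj ((nbhdObj ξ).obj i)) _ ((bcCone f ξ σ hσ).π.app i) _
    (bcCone_t f ξ σ hσ i) (Category.comp_id _)) s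

theorem secMap_trans (F : EtCoh.Ab P) {V V' : P.Etale} (h : V' ⟶ V)
    [PreservesFiniteLimits (EtCoh.pull h.left)] (η : EtCoh.H V.left ((EtCoh.pull V.hom).obj F) 0)
    (s : F.obj.obj (op V))
    (hs : secMap V.hom F (𝟙 _) (Category.id_comp _) s = Sheaf.H.equiv₀ _ (EtCore.topIsTerminal _) η) :
    secMap V'.hom F (𝟙 _) (Category.id_comp _) (F.obj.map h.op s) =
      Sheaf.H.equiv₀ _ (EtCore.topIsTerminal _)
        (EtLim.HpullThen h.left _ (pullVia h.left V.hom (MorphismProperty.Over.w h) F) 0 η) := by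
  refine Eq.trans ?_ (equiv₀_HpullThen h.left _ η).symm
  rw [← hs]
  refine Eq.trans ?_ (ConcreteCategory.congr_hom (secMap_pullVia V.hom h.left
    (MorphismProperty.Over.w h) F (𝟙 _) (Category.id_comp _)) s).symm
  have h1 := ConcreteCategory.congr_hom (secMap_map V'.hom F h (𝟙 _) (Category.id_comp _) h.left
    (MorphismProperty.Over.w h) (Category.id_comp _)) s
  rw [ConcreteCategory.comp_apply] at h1
  refine h1.trans ?_
  exact ConcreteCategory.congr_hom (secMap_congr V'.hom F h.left (h.left ≫ 𝟙 _) (MorphismProperty.Over.w h)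
    ((congrArg (· ≫ V.hom) (Category.comp_id _)).trans (MorphismProperty.Over.w h)) (Category.comp_id _).symm) s

/-- the system of inverse images -/
noncomputable def bcData (F : EtCoh.Ab P) : Data (bcCone f ξ σ hσ) :=
  pullData (bcCone f ξ σ hσ) (bcT f ξ) (fun a => bcT_w f ξ a) (pullback.fst f σ) (bcCone_t f ξ σ hσ) F

theorem bcData_ψt (F : EtCoh.Ab P) (i : AffNbhd ξ) : (bcData f ξ σ hσ F).ψt i =
    pullVia ((bcCone f ξ σ hσ).π.app i) (bcT f ξ i) (bcCone_t f ξ σ hσ i) F :=
  ((EtCoh.pullPushAdj ((bcCone f ξ σ hσ).π.app i)).homEquiv _ _).symm_apply_apply _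

theorem bcData_φt (F : EtCoh.Ab P) {i l : AffNbhd ξ} (a : l ⟶ i) :
    ((EtCoh.pullPushAdj ((bcSys f ξ).map a)).homEquiv _ _).symm ((bcData f ξ σ hσ F).φ a) =
      pullVia ((bcSys f ξ).map a) (bcT f ξ i) (bcT_w f ξ a) F :=
  ((EtCoh.pullPushAdj ((bcSys f ξ).map a)).homEquiv _ _).symm_apply_apply _

theorem bcData_isColim (F : EtCoh.Ab P) : (bcData f ξ σ hσ F).sys.IsColim :=
  pullData_isColim (bcCone f ξ σ hσ) (bcT f ξ) (fun a => bcT_w f ξ a) (pullback.fst f σ)
    (bcCone_t f ξ σ hσ) F (Classical.arbitrary (AffNbhd ξ))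

variable [QuasiCompact f] [QuasiSeparated f] (hL : IsLimit L)

include hL in
theorem θApp_injective (F : EtCoh.Ab P) : Function.Injective (θApp f ξ σ hσ F) := by
  have h1 : ∀ i, PreservesFiniteLimits (EtCoh.pull ((bcCone f ξ σ hσ).π.app i)) :=
    fun i => EtFound.pull_preservesFiniteLimits _
  have h2 : ∀ {i j : AffNbhd ξ} (a : i ⟶ j), PreservesFiniteLimits (EtCoh.pull ((bcSys f ξ).map a)) :=
    fun _ => EtFound.pull_preservesFiniteLimits _
  refine (injective_iff_map_eq_zero (θApp f ξ σ hσ F).hom).2 fun x hx => ?_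
  obtain ⟨⟨i⟩, s, rfl⟩ :=
    Concrete.isColimit_exists_rep _ (isColimitStalkCocone ξ ((EtCoh.push f).obj F).obj) x
  obtain ⟨η, hη⟩ := (Sheaf.H.equiv₀ ((EtCoh.pull (bcT f ξ i)).obj F) (EtCore.topIsTerminal _)).surjective
    (secAt f ξ F i s)
  have h0 : EtLim.HpullThen ((bcCone f ξ σ hσ).π.app i) _ ((bcData f ξ σ hσ F).ψt i) 0 η = 0 := by
    rw [bcData_ψt]
    refine (Sheaf.H.equiv₀ ((EtCoh.pull (pullback.fst f σ)).obj F)
      (EtCore.topIsTerminal (bcCone f ξ σ hσ).pt)).injective ((secAt_key f ξ σ hσ F i η s hη.symm).trans ?_)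
    exact hx.trans (map_zero _).symm
  obtain ⟨l, a, ha⟩ := (bcData f ξ σ hσ F).exists_H_eq_zero (isLimitBcCone f ξ σ hσ hL)
    (bcData_isColim f ξ σ hσ F) 0 i η h0
  rw [bcData_φt] at ha
  have h5 : PreservesFiniteLimits (EtCoh.pull ((EtCoh.bc f).map ((nbhdObj ξ).map a)).left) := h2 a
  have h3 := (secMap_trans (P := P) F ((EtCoh.bc f).map ((nbhdObj ξ).map a)) η s hη.symm).trans
    ((congrArg (Sheaf.H.equiv₀ _ (EtCore.topIsTerminal _)) ha).trans (map_zero _))
  have h4 := (secMap_self_bijective (P := P) F ((EtCoh.bc f).obj ((nbhdObj ξ).obj l))).1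
    (h3.trans (map_zero _).symm)
  refine (ConcreteCategory.congr_hom ((stalkCocone ξ ((EtCoh.push f).obj F).obj).w a.op) s).symm.trans ?_
  exact (congrArg _ h4).trans (map_zero ((stalkCocone ξ ((EtCoh.push f).obj F).obj).ι.app (op l)).hom)

include hL in
theorem θApp_bijective (F : EtCoh.Ab P) : Function.Bijective (θApp f ξ σ hσ F) := by
  have h1 : ∀ i, PreservesFiniteLimits (EtCoh.pull ((bcCone f ξ σ hσ).π.app i)) :=
    fun i => EtFound.pull_preservesFiniteLimits _
  have h2 : ∀ {i j : AffNbhd ξ} (a : i ⟶ j), PreservesFiniteLimits (EtCoh.pull ((bcSys f ξ).map a)) :=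
    fun _ => EtFound.pull_preservesFiniteLimits _
  refine ⟨θApp_injective f ξ σ hσ hL F, fun y => ?_⟩
  obtain ⟨i, -, η, hη⟩ := (bcData f ξ σ hσ F).exists_H (isLimitBcCone f ξ σ hσ hL)
    (bcData_isColim f ξ σ hσ F) 0
    ((Sheaf.H.equiv₀ ((EtCoh.pull (pullback.fst f σ)).obj F)
      (EtCore.topIsTerminal (bcCone f ξ σ hσ).pt)).symm y) (Classical.arbitrary (AffNbhd ξ))
  rw [bcData_ψt] at hη
  obtain ⟨s, hs⟩ := (secMap_self_bijective (P := P) F ((EtCoh.bc f).obj ((nbhdObj ξ).obj i))).2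
    (Sheaf.H.equiv₀ ((EtCoh.pull (bcT f ξ i)).obj F) (EtCore.topIsTerminal _) η)
  exact ⟨_, (secAt_key f ξ σ hσ F i η s hs).symm.trans ((congrArg _ hη).trans (AddEquiv.apply_symm_apply _ y))⟩

include hL in
theorem isIso_stalkθ : IsIso (stalkθ f ξ σ hσ) := by
  haveI : ∀ F, IsIso ((stalkθ f ξ σ hσ).app F) := fun F =>
    (ConcreteCategory.isIso_iff_bijective _).2 (θApp_bijective f ξ σ hσ hL F)
  exact NatIso.isIso_of_isIso_app _

end Groth.Agent.EtLimCore
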