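import Groth.Prelude.Def_EtBaseX
import Mathlib.AlgebraicGeometry.Sites.EtalePoint
import Mathlib.AlgebraicGeometry.GammaSpecAdjunction
import Mathlib.CategoryTheory.Filtered.Final

/-!
# A small cofiltered category of affine étale neighbourhoods of a geometric point

The spectrum of the étale local ring is the limit of these neighbourhoods.
-/

set_option autoImplicit false

universe u

open CategoryTheory CategoryTheory.Limits AlgebraicGeometry Opposite

namespace Groth.Agent.EtLimCore

set_option backward.isDefEq.respectTransparency false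
set_option backward.isDefEq.respectTransparency.types false

variable {X : Scheme.{u}} {Ω : Type u} [Field Ω] [IsSepClosed Ω] (ξ : Spec (CommRingCat.of Ω) ⟶ X)

/-- pointed étale schemes -/
abbrev Elts : Type (u + 1) := (Scheme.pointSmallEtale ξ).fiber.Elements

/-- the marked point -/
noncomputable def eltPt (d : Elts ξ) : d.1.left :=
  (d.2.left : Spec (CommRingCat.of Ω) ⟶ d.1.left).base (default : Spec (CommRingCat.of Ω))

omit [IsSepClosed Ω] in
theorem range_subset_range_ι {Z : Scheme.{u}} (W : Z.Opens) (v : Spec (CommRingCat.of Ω) ⟶ Z)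
    (h : v.base default ∈ W) : Set.range v.base ⊆ Set.range W.ι.base := by
  rintro _ ⟨a, rfl⟩
  rw [Scheme.Opens.range_ι, Subsingleton.elim a default]
  exact h

/-- affine opens through the marked point in a small initial family of pointed étale schemes -/
def NbhdIdx : Type u :=
  Σ m : InitialModel.{u} (Elts ξ),
    {W : ((fromInitialModel.{u} (Elts ξ)).obj m).1.left.Opens //
      IsAffineOpen W ∧ eltPt ξ ((fromInitialModel.{u} (Elts ξ)).obj m) ∈ W}

variable {ξ} in
/-- the pointed étale scheme of an index -/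
noncomputable def NbhdIdx.elt (i : NbhdIdx ξ) : Elts ξ :=
  let d := (fromInitialModel.{u} (Elts ξ)).obj i.1
  let v : Spec (CommRingCat.of Ω) ⟶ d.1.left := d.2.left
  haveI : AlgebraicGeometry.Etale d.1.hom := d.1.prop
  Functor.elementsMk _ (Scheme.Etale.mk ((i.2.1).ι ≫ d.1.hom))
    (CategoryTheory.Over.homMk
      (IsOpenImmersion.lift (i.2.1).ι v (range_subset_range_ι i.2.1 v i.2.2.2))
      (by
        refine (Category.assoc _ _ _).symm.trans ?_
        rw [IsOpenImmersion.lift_fac]
        exact CategoryTheory.Over.w d.2))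

/-- the small category of affine neighbourhoods -/
abbrev AffNbhd : Type u := InducedCategory (Elts ξ) (NbhdIdx.elt (ξ := ξ))

/-- as pointed étale schemes -/
noncomputable abbrev toElts : AffNbhd ξ ⥤ Elts ξ := inducedFunctor _

theorem exists_toElts_hom (d : Elts ξ) : ∃ i : AffNbhd ξ, Nonempty ((toElts ξ).obj i ⟶ d) := by
  let a := Classical.arbitrary (CostructuredArrow (fromInitialModel.{u} (Elts ξ)) d)
  obtain ⟨W, hW, hxW, -⟩ := exists_isAffineOpen_mem_and_subset
    (U := (⊤ : ((fromInitialModel.{u} (Elts ξ)).obj a.left).1.left.Opens))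
    (x := eltPt ξ ((fromInitialModel.{u} (Elts ξ)).obj a.left)) trivial
  let i : NbhdIdx ξ := ⟨a.left, W, hW, hxW⟩
  refine ⟨i, ⟨CategoryOfElements.homMk _ _ (MorphismProperty.Over.homMk W.ι) ?_ ≫ a.hom⟩⟩
  exact CategoryTheory.Over.OverMorphism.ext (IsOpenImmersion.lift_fac _ _ _)

instance : IsCofiltered (AffNbhd ξ) :=
  IsCofiltered.of_exists_of_isCofiltered_of_fullyFaithful (toElts ξ) (exists_toElts_hom ξ)

instance initial_toElts : (toElts ξ).Initial :=
  Functor.initial_of_exists_of_isCofiltered_of_fullyFaithful (toElts ξ) (exists_toElts_hom ξ)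

/-- as étale schemes -/
noncomputable abbrev nbhdObj : AffNbhd ξ ⥤ X.Etale :=
  toElts ξ ⋙ CategoryOfElements.π (Scheme.pointSmallEtale ξ).fiber

/-- as schemes -/
noncomputable abbrev nbhdSch : AffNbhd ξ ⥤ Scheme.{u} :=
  nbhdObj ξ ⋙ Scheme.Etale.forget X ⋙ CategoryTheory.Over.forget X

instance isAffine_nbhd (i : AffNbhd ξ) : IsAffine ((nbhdSch ξ).obj i) :=
  i.2.2.1

instance isAffineHom_nbhd {i j : AffNbhd ξ} (a : i ⟶ j) : IsAffineHom ((nbhdSch ξ).map a) :=
  isAffineHom_of_isAffine _

variable {A : Type*} [Category A] [HasColimitsOfSize.{u, u} A]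

/-- stalks as colimits over the affine neighbourhoods -/
noncomputable def stalkCocone (P : X.Etaleᵒᵖ ⥤ A) : Cocone ((nbhdObj ξ).op ⋙ P) :=
  ((Scheme.pointSmallEtale ξ).presheafFiberCocone P).whisker (toElts ξ).op

/-- the stalk cocone is a colimit -/
noncomputable def isColimitStalkCocone (P : X.Etaleᵒᵖ ⥤ A) : IsColimit (stalkCocone ξ P) :=
  (Functor.Final.isColimitWhiskerEquiv (toElts ξ).op _).symm
    ((Scheme.pointSmallEtale ξ).isColimitPresheafFiberCocone P)

/-- the neighbourhoods as spectra -/
noncomputable def nbhdSpecIso :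
    Functor.rightOp ((nbhdObj ξ).op ⋙ EtBase.OO X) ⋙ Scheme.Spec ≅ nbhdSch ξ :=
  NatIso.ofComponents (fun i => ((nbhdSch ξ).obj i).isoSpec.symm)
    (fun a => Scheme.isoSpec_inv_naturality ((nbhdSch ξ).map a))

/-- the strict localisation as a cone -/
noncomputable def locCone : Cone (nbhdSch ξ) :=
  (Cone.postcompose (nbhdSpecIso ξ).hom).obj
    (Scheme.Spec.mapCone (coneRightOpOfCocone (stalkCocone ξ (EtBase.OO X))))

theorem locCone_π (i : AffNbhd ξ) :
    (locCone ξ).π.app i = Spec.map ((Scheme.pointSmallEtale ξ).toPresheafFiber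
      ((toElts ξ).obj i).1 ((toElts ξ).obj i).2 (EtBase.OO X)) ≫ ((nbhdSch ξ).obj i).isoSpec.inv := rfl

/-- the strict localisation is the limit -/
noncomputable def isLimitLocCone : IsLimit (locCone ξ) :=
  (IsLimit.postcomposeHomEquiv (nbhdSpecIso ξ) _).symm
    (isLimitOfPreserves Scheme.Spec (isLimitConeRightOpOfCocone _ (isColimitStalkCocone ξ (EtBase.OO X))))

end Groth.Agent.EtLimCore
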