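import Groth.Agent.EtLimCore.Transfer

/-!
# The tautological system of a sheaf on the limit
-/

set_option autoImplicit false
set_option maxHeartbeats 800000

universe u

open CategoryTheory CategoryTheory.Limits AlgebraicGeometry Opposite TopologicalSpace CategoryTheory.Abelian

namespace Groth.Agent.EtLimCore

set_option backward.isDefEq.respectTransparency false
set_option backward.isDefEq.respectTransparency.types false

variable {I : Type u} [SmallCategory I] {Y : I ⥤ Scheme.{u}} (c : Cone Y)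

/-- the pushforwards of a sheaf on the limit -/
noncomputable def taut (G : EtCoh.Ab c.pt) : Sys c where
  F := ((limToTot c).obj G).obj
  isSheaf := (isSheaf_topology_iff _).1 ((limToTot c).obj G).property
  M := G
  ψ := 𝟙 _

variable {c}

instance isIso_taut_ψ' (G : EtCoh.Ab c.pt) (k : I) : IsIso ((taut c G).ψ' k) := by
  haveI : ∀ W, IsIso (((taut c G).ψ' k).hom.app W) := fun W =>
    inferInstanceAs (IsIso (𝟙 (G.obj.obj ((bcTot c).op.obj (op (⟨k, W.unop⟩ : Tot Y))))))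
  haveI : IsIso ((sheafToPresheaf (Y.obj k).smallEtaleTopology AddCommGrpCat.{u + 1}).map ((taut c G).ψ' k)) :=
    NatIso.isIso_of_isIso_app ((taut c G).ψ' k).hom
  exact isIso_of_reflects_iso _ (sheafToPresheaf (Y.obj k).smallEtaleTopology AddCommGrpCat.{u + 1})

theorem taut_transition (G : EtCoh.Ab c.pt) {k l : I} (a : l ⟶ k) :
    (taut c G).φ a ≫ (EtCoh.push (Y.map a)).map ((taut c G).ψ' l) =
      (taut c G).ψ' k ≫ ((EtCoh.pushCongr (c.w a).symm).app G).hom ≫
        (EtCoh.pushComp (Y.map a) (c.π.app l)).inv.app G := by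
  refine Sheaf.hom_ext (J := (Y.obj k).smallEtaleTopology) ?_
  ext W : 2
  show G.obj.map ((bcTot c).map (proj (⟨k, W.unop⟩ : Tot Y) a)).op ≫ 𝟙 _ =
    𝟙 _ ≫ G.obj.map (Quiver.Hom.op _) ≫ G.obj.map (Quiver.Hom.op _)
  rw [Category.id_comp, Category.comp_id, ← G.obj.map_comp, ← op_comp]
  refine congrArg (fun m => G.obj.map (Quiver.Hom.op m)) (MorphismProperty.Over.Hom.ext ?_)
  apply pullback.hom_ext (f := W.unop.hom) (g := c.π.app k)
  · refine (bcTot_map_fst c (proj (⟨k, W.unop⟩ : Tot Y) a)).trans ?_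
    show _ = (_ ≫ _) ≫ _
    simp [MorphismProperty.Over.pullbackComp, MorphismProperty.Over.pullbackCongr]
    rfl
  · refine (bcTot_map_snd c (proj (⟨k, W.unop⟩ : Tot Y) a)).trans ?_
    show _ = (_ ≫ _) ≫ _
    simp [MorphismProperty.Over.pullbackComp, MorphismProperty.Over.pullbackCongr]
    rfl

variable [∀ {i j : I} (f : i ⟶ j), IsAffineHom (Y.map f)] [IsCofiltered I]

theorem taut_isColim (hc : IsLimit c) (G : EtCoh.Ab c.pt) : (taut c G).IsColim where
  surj Ω _ _ ξ U u s := by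
    obtain ⟨B, -, h, w, hw⟩ := exists_staged_nbhd hc U (EtFound.ptOf u)
    obtain ⟨z, hz, -⟩ := EtFound.exists_lift_point h u w hw
    refine ⟨B, z, G.obj.map h.op s, ?_⟩
    refine ((Scheme.pointSmallEtale ξ).toPresheafFiber_w_apply h z G.obj s).trans ?_
    rw [hz]
    rfl
  inj Ω _ _ ξ A z t ht := by
    let Φ := Scheme.pointSmallEtale ξ
    have ht0 : Φ.toPresheafFiber ((bcTot c).obj A) z G.obj t =
        Φ.toPresheafFiber ((bcTot c).obj A) z G.obj 0 :=
      ht.trans (map_zero (Φ.toPresheafFiber ((bcTot c).obj A) z G.obj).hom).symm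
    obtain ⟨V, g, v, hv, hg⟩ := (Φ.toPresheafFiber_eq_iff' ((bcTot c).obj A) z t 0).1 ht0
    obtain ⟨B, -, f, k, hk, w, hw⟩ := exists_staged_lift hc g (EtFound.ptOf v)
    obtain ⟨y, hy, -⟩ := EtFound.exists_lift_point ((bcTot c).map f) z w
      (hw.trans ((EtFound.ptOf_map g v).symm.trans (congrArg EtFound.ptOf hv)))
    refine ⟨B, f, y, hy, ?_⟩
    show G.obj.map ((bcTot c).map f).op t = 0
    rw [← hk, op_comp, G.obj.map_comp, ConcreteCategory.comp_apply]
    exact (congrArg _ (hg.trans (map_zero _))).trans (map_zero _)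

omit [SmallCategory I] in
theorem HF_map_map {X : Scheme.{u}} (n : ℕ) {A B C : EtCoh.Ab X} (f : A ⟶ B) (g : B ⟶ C) (h : A ⟶ C)
    (e : f ≫ g = h) (ξ : EtCoh.H X A n) :
    ((EtCoh.HF X n).map g).hom (((EtCoh.HF X n).map f).hom ξ) = ((EtCoh.HF X n).map h).hom ξ := by
  subst e
  exact (Sheaf.H.map_comp_apply f g ξ).symm

variable [∀ j, PreservesFiniteLimits (EtCoh.pull (c.π.app j))]
  [∀ {i j : I} (f : i ⟶ j), PreservesFiniteLimits (EtCoh.pull (Y.map f))]
  [∀ i, CompactSpace (Y.obj i)] [∀ i, QuasiSeparatedSpace (Y.obj i)]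

/-- a class of a pushforward vanishing on the limit vanishes at a later stage -/
theorem taut_exists_eq_zero (hc : IsLimit c) (G : EtCoh.Ab c.pt) (n : ℕ) (k : I)
    (ξ : EtCoh.H (Y.obj k) ((EtCoh.push (c.π.app k)).obj G) n) (h : EtLim.HofPush (c.π.app k) G n ξ = 0) :
    ∃ (l : I) (a : l ⟶ k), EtLim.HpushTrans (Y.map a) (c.π.app l) (c.π.app k) (c.w a) G n ξ = 0 := by
  let S := taut c G
  have : IsIso (S.ψ' k) := isIso_taut_ψ' G k
  obtain ⟨l, a, ha⟩ := S.exists_H_eq_zero hc (taut_isColim hc G) n k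
    (((EtCoh.HF (Y.obj k) n).map (inv (S.ψ' k))).hom ξ) (by
      rw [HF_map_map n (inv (S.ψ' k)) (S.ψ' k) (𝟙 _) (IsIso.inv_hom_id _)]
      exact (congrArg (EtLim.HofPush (c.π.app k) G n) (Sheaf.H.map_id_apply ξ)).trans h)
  refine ⟨l, a, ?_⟩
  let α : (EtCoh.push (c.π.app k)).obj G ⟶ (EtCoh.push (Y.map a)).obj ((EtCoh.push (c.π.app l)).obj G) :=
    ((EtCoh.pushCongr (c.w a).symm).app G).hom ≫ (EtCoh.pushComp (Y.map a) (c.π.app l)).inv.app G
  have hα : α = (inv (S.ψ' k) ≫ S.φ a) ≫ (EtCoh.push (Y.map a)).map (S.ψ' l) := by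
    rw [Category.assoc, IsIso.eq_inv_comp]
    exact (taut_transition G a).symm
  show EtLim.HofPush (Y.map a) _ n (((EtCoh.HF (Y.obj k) n).map α).hom ξ) = 0
  refine (HofPush_map _ α n ξ).trans ?_
  rw [hα, Adjunction.homEquiv_naturality_right_symm, ← HpullThen_comp, ← HofPush_map]
  refine (congrArg (fun q => Ext.comp q (Ext.mk₀ (S.ψ' l)) (add_zero n)) (Eq.trans ?_ ha)).trans (Ext.zero_comp ..)
  exact congrArg (EtLim.HofPush (Y.map a) (S.sheaf l) n)
    (HF_map_map n (inv (S.ψ' k)) (S.φ a) (inv (S.ψ' k) ≫ S.φ a) rfl ξ).symm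

end Groth.Agent.EtLimCore
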