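import Groth.Agent.EtLimCore.Colim

/-!
# The topology on pairs (stage, étale scheme) and its sheaves
-/

set_option autoImplicit false
set_option maxHeartbeats 800000

universe u

open CategoryTheory CategoryTheory.Limits AlgebraicGeometry Opposite TopologicalSpace

namespace Groth.Agent.EtLimCore

set_option backward.isDefEq.respectTransparency false
set_option backward.isDefEq.respectTransparency.types false

variable {I : Type u} [SmallCategory I] {Y : I ⥤ Scheme.{u}}

/-- the arrows of a sieve within the fibre -/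
noncomputable def fibre {A : Tot Y} (R : Sieve A) : Sieve A.obj := Sieve.functorPullback (incl Y A.st) R

theorem fibre_iff {A : Tot Y} (R : Sieve A) {W : (Y.obj A.st).Etale} (h : W ⟶ A.obj) :
    fibre R h ↔ R ((incl Y A.st).map h) := Iff.rfl

theorem proj_natural {k l : I} (a : l ⟶ k) {W W' : (Y.obj k).Etale} (h : W ⟶ W') :
    (incl Y l).map ((EtCoh.bc (Y.map a)).map h) ≫ proj (⟨k, W'⟩ : Tot Y) a =
      proj (⟨k, W⟩ : Tot Y) a ≫ (incl Y k).map h :=
  hom_ext' ((Category.id_comp a).trans (Category.comp_id a).symm) (EtCoh.isPullback_bc_map (Y.map a) h).w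

/-- pulled back fibre sieves -/
noncomputable def pulled {A B : Tot Y} (f : B ⟶ A) (R : Sieve A) : Sieve B.obj :=
  Sieve.pullback (factor f) (Sieve.functorPushforward (EtCoh.bc (Y.map f.a)) (fibre R))

theorem pulled_fac {A B : Tot Y} {f : B ⟶ A} {R : Sieve A} {W : (Y.obj B.st).Etale} {h : W ⟶ B.obj}
    (hh : pulled f R h) : ∃ (V : (Y.obj A.st).Etale) (g : V ⟶ A.obj) (e : (⟨B.st, W⟩ : Tot Y) ⟶ ⟨A.st, V⟩),
      R ((incl Y A.st).map g) ∧ (incl Y B.st).map h ≫ f = e ≫ (incl Y A.st).map g := by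
  obtain ⟨V, g, u, hg, hu⟩ := hh
  refine ⟨V, g, (incl Y B.st).map u ≫ proj (⟨A.st, V⟩ : Tot Y) f.a, hg, ?_⟩
  calc (incl Y B.st).map h ≫ f = (incl Y B.st).map h ≫ (incl Y B.st).map (factor f) ≫ proj A f.a := by
        rw [factor_fac]
    _ = (incl Y B.st).map (h ≫ factor f) ≫ proj A f.a := by rw [Functor.map_comp, Category.assoc]
    _ = _ := by
        rw [hu, Functor.map_comp, Category.assoc, Category.assoc]
        exact congrArg (_ ≫ ·) (proj_natural f.a g)

variable (Y) in
/-- the topology generated by coverings within the stages -/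
noncomputable def topology : GrothendieckTopology (Tot Y) where
  sieves A := {R | fibre R ∈ (Y.obj A.st).smallEtaleTopology A.obj}
  top_mem' A := by
    show fibre (⊤ : Sieve A) ∈ (Y.obj A.st).smallEtaleTopology A.obj
    rw [fibre, Sieve.functorPullback_top]
    exact GrothendieckTopology.top_mem _ _
  pullback_stable' A B R f hR := by
    refine (Y.obj B.st).smallEtaleTopology.superset_covering ?_
      ((Y.obj B.st).smallEtaleTopology.pullback_stable (factor f)
        ((EtCoh.coverPreserving_bc (Y.map f.a)).cover_preserve hR))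
    intro W h hh
    obtain ⟨V, g, e, hg, he⟩ := pulled_fac (f := f) (R := R) hh
    show R ((incl Y B.st).map h ≫ f)
    rw [he]
    exact R.downward_closed hg e
  transitive' := fun A S hS R hR => by
    refine (Y.obj A.st).smallEtaleTopology.transitive hS (fibre R) fun W h hh => ?_
    refine (Y.obj A.st).smallEtaleTopology.superset_covering ?_ (hR hh)
    intro T g hg
    show R ((incl Y A.st).map (g ≫ h))
    rw [Functor.map_comp]
    exact hg

theorem mem_topology {A : Tot Y} (R : Sieve A) :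
    R ∈ topology Y A ↔ fibre R ∈ (Y.obj A.st).smallEtaleTopology A.obj := Iff.rfl

theorem pulled_mem {A B : Tot Y} (f : B ⟶ A) {R : Sieve A} (hR : R ∈ topology Y A) :
    pulled f R ∈ (Y.obj B.st).smallEtaleTopology B.obj :=
  (Y.obj B.st).smallEtaleTopology.pullback_stable (factor f)
    ((EtCoh.coverPreserving_bc (Y.map f.a)).cover_preserve hR)

theorem isSheaf_topology_type (P : (Tot Y)ᵒᵖ ⥤ Type (u + 1))
    (h : ∀ k, Presieve.IsSheaf (Y.obj k).smallEtaleTopology ((incl Y k).op ⋙ P)) :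
    Presieve.IsSheaf (topology Y) P := by
  intro A R hR x hx
  let x₀ : Presieve.FamilyOfElements ((incl Y A.st).op ⋙ P) (fibre R).arrows := fun W g hg =>
    x ((incl Y A.st).map g) hg
  have hx₀ : x₀.Compatible := fun W₁ W₂ Z g₁ g₂ f₁ f₂ h₁ h₂ he =>
    hx ((incl Y A.st).map g₁) ((incl Y A.st).map g₂) h₁ h₂
      (by rw [← Functor.map_comp, ← Functor.map_comp, he])
  obtain ⟨t, ht, hu⟩ := h A.st (fibre R) hR x₀ hx₀
  refine ⟨t, fun B g hg => ?_, fun t' ht' => hu t' fun W g hg => ht' _ hg⟩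
  refine ((h B.st).isSeparated _ (pulled_mem g hR)).ext fun W q hq => ?_
  obtain ⟨V, g₀, e, hg₀, he⟩ := pulled_fac (f := g) (R := R) hq
  show P.map ((incl Y B.st).map q).op (P.map g.op t) = P.map ((incl Y B.st).map q).op (x g hg)
  refine (FunctorToTypes.map_comp_apply P g.op ((incl Y B.st).map q).op t).symm.trans ?_
  rw [← op_comp, he, op_comp]
  refine (FunctorToTypes.map_comp_apply P _ _ t).trans ?_
  refine (congrArg (P.map e.op) (ht g₀ hg₀)).trans ?_
  exact hx e ((incl Y B.st).map q) hg₀ hg he.symm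

theorem isSheaf_fibre_type (P : (Tot Y)ᵒᵖ ⥤ Type (u + 1)) (h : Presieve.IsSheaf (topology Y) P) (k : I) :
    Presieve.IsSheaf (Y.obj k).smallEtaleTopology ((incl Y k).op ⋙ P) := by
  intro W S hS x hx
  let R : Sieve (⟨k, W⟩ : Tot Y) := Sieve.functorPushforward (incl Y k) S
  have hR : R ∈ topology Y (⟨k, W⟩ : Tot Y) :=
    (Y.obj k).smallEtaleTopology.superset_covering (fun V g hg => Sieve.image_mem_functorPushforward _ _ hg) hS
  have key : ∀ {C : Tot Y} {W₁ W₂ : (Y.obj k).Etale} (g₁ : W₁ ⟶ W) (g₂ : W₂ ⟶ W) (h₁ : S g₁) (h₂ : S g₂)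
      (u₁ : C ⟶ ⟨k, W₁⟩) (u₂ : C ⟶ ⟨k, W₂⟩),
      u₁ ≫ (incl Y k).map g₁ = u₂ ≫ (incl Y k).map g₂ → P.map u₁.op (x g₁ h₁) = P.map u₂.op (x g₂ h₂) := by
    intro C W₁ W₂ g₁ g₂ h₁ h₂ u₁ u₂ he
    have ea : u₁.a = u₂.a := by
      have := congrArg TotHom.a he
      simpa [incl] using this
    haveI : AlgebraicGeometry.Etale g₂.left := EtFound.etale_left g₂
    haveI : AlgebraicGeometry.Etale W₁.hom := W₁.prop
    haveI : AlgebraicGeometry.Etale (pullback.fst g₁.left g₂.left) :=
      MorphismProperty.pullback_fst (P := @AlgebraicGeometry.Etale) _ _ inferInstance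
    let W₁₂ : (Y.obj k).Etale := Scheme.Etale.mk (pullback.fst g₁.left g₂.left ≫ W₁.hom)
    let π₁ : W₁₂ ⟶ W₁ := MorphismProperty.Over.homMk (pullback.fst g₁.left g₂.left) rfl
    let π₂ : W₁₂ ⟶ W₂ := MorphismProperty.Over.homMk (pullback.snd g₁.left g₂.left) (by
      show _ ≫ W₂.hom = pullback.fst g₁.left g₂.left ≫ W₁.hom
      rw [← MorphismProperty.Over.w g₁, ← MorphismProperty.Over.w g₂, pullback.condition_assoc])
    have hπ : π₁ ≫ g₁ = π₂ ≫ g₂ := MorphismProperty.Over.Hom.ext pullback.condition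
    let u : C ⟶ ⟨k, W₁₂⟩ := ⟨u₁.a, pullback.lift u₁.g u₂.g (congrArg TotHom.g he), by
      show pullback.lift u₁.g u₂.g _ ≫ pullback.fst g₁.left g₂.left ≫ W₁.hom = _
      rw [pullback.lift_fst_assoc]
      exact u₁.w⟩
    have e1 : u ≫ (incl Y k).map π₁ = u₁ := hom_ext' (Category.comp_id _) (pullback.lift_fst _ _ _)
    have e2 : u ≫ (incl Y k).map π₂ = u₂ :=
      hom_ext' ((Category.comp_id _).trans ea) (pullback.lift_snd _ _ _)
    rw [← e1, ← e2, op_comp, op_comp, P.map_comp, P.map_comp, ConcreteCategory.comp_apply,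
      ConcreteCategory.comp_apply]
    exact congrArg (P.map u.op) (hx π₁ π₂ h₁ h₂ hπ)
  let x' : Presieve.FamilyOfElements P R.arrows := fun B g hg =>
    P.map hg.choose_spec.choose_spec.choose.op
      (x hg.choose_spec.choose hg.choose_spec.choose_spec.choose_spec.1)
  have hx' : x'.Compatible := by
    intro B₁ B₂ Z f₁ f₂ g₁ g₂ h₁ h₂ he
    show P.map f₁.op (P.map _ _) = P.map f₂.op (P.map _ _)
    rw [← ConcreteCategory.comp_apply, ← ConcreteCategory.comp_apply, ← P.map_comp, ← P.map_comp, ← op_comp, ← op_comp]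
    refine key _ _ _ _ _ _ ?_
    rw [Category.assoc, Category.assoc, ← h₁.choose_spec.choose_spec.choose_spec.2,
      ← h₂.choose_spec.choose_spec.choose_spec.2]
    exact he
  have hxx : ∀ {V : (Y.obj k).Etale} (g : V ⟶ W) (hg : S g),
      x' ((incl Y k).map g) (Sieve.image_mem_functorPushforward _ _ hg) = x g hg := by
    intro V g hg
    show P.map _ _ = _
    have := Sieve.image_mem_functorPushforward (incl Y k) S hg
    refine (key _ _ _ hg _ (𝟙 _) (this.choose_spec.choose_spec.choose_spec.2.symm.trans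
      (Category.id_comp _).symm)).trans ?_
    rw [op_id, P.map_id]
    rfl
  obtain ⟨t, ht, hu⟩ := h R hR x' hx'
  refine ⟨t, fun V g hg => (ht _ (Sieve.image_mem_functorPushforward _ _ hg)).trans (hxx g hg), fun t' ht' => hu t' ?_⟩
  intro B g hg
  obtain ⟨hS', hgeq⟩ := hg.choose_spec.choose_spec.choose_spec
  show P.map g.op t' = P.map _ _
  conv_lhs => rw [hgeq]
  rw [op_comp, P.map_comp, ConcreteCategory.comp_apply]
  exact congrArg _ (ht' _ hS')

theorem isSheaf_topology_iff (P : (Tot Y)ᵒᵖ ⥤ AddCommGrpCat.{u + 1}) :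
    Presheaf.IsSheaf (topology Y) P ↔ ∀ k, Presheaf.IsSheaf (Y.obj k).smallEtaleTopology ((incl Y k).op ⋙ P) := by
  have e1 := (Presheaf.isSheaf_iff_isSheaf_forget (topology Y) P (forget AddCommGrpCat.{u + 1})).trans
    (isSheaf_iff_isSheaf_of_type _ _)
  have e2 := fun k => (Presheaf.isSheaf_iff_isSheaf_forget (Y.obj k).smallEtaleTopology ((incl Y k).op ⋙ P)
    (forget AddCommGrpCat.{u + 1})).trans (isSheaf_iff_isSheaf_of_type _ _)
  exact ⟨fun h k => (e2 k).2 (isSheaf_fibre_type _ (e1.1 h) k),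
    fun h => e1.2 (isSheaf_topology_type _ fun k => (e2 k).1 (h k))⟩

end Groth.Agent.EtLimCore
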