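import Groth.Prelude.Def_EtBase
import Groth.Prelude.Def_EtLim
import Groth.Agent.EtFound.Stalk
import Mathlib.AlgebraicGeometry.AffineTransitionLimit

/-!
# The total category of the small étale sites of an inverse system of schemes

A system of abelian sheaves on an inverse system `Y` with a sheaf on its limit is the same as a presheaf on
the category of pairs (stage, étale scheme over the stage) which is a sheaf on each stage, together with a
natural map to the sheaf on the limit.
-/

set_option autoImplicit false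

universe u

open CategoryTheory CategoryTheory.Limits AlgebraicGeometry Opposite

namespace Groth.Agent.EtLimCore

set_option backward.isDefEq.respectTransparency false
set_option maxHeartbeats 400000
set_option backward.isDefEq.respectTransparency.types false

variable {I : Type u} [SmallCategory I] (Y : I ⥤ Scheme.{u})

/-- a stage and an étale scheme over it -/
structure Tot : Type (u + 1) where
  /-- the stage -/
  st : I
  /-- the étale scheme -/
  obj : (Y.obj st).Etale

variable {Y}

/-- a morphism of pairs -/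
@[ext]
structure TotHom (A B : Tot Y) : Type u where
  /-- the map of stages -/
  a : A.st ⟶ B.st
  /-- the map of schemes -/
  g : A.obj.left ⟶ B.obj.left
  w : g ≫ B.obj.hom = A.obj.hom ≫ Y.map a

attribute [reassoc] TotHom.w

noncomputable instance : Category.{u} (Tot Y) where
  Hom := TotHom
  id A := ⟨𝟙 _, 𝟙 _, by simp⟩
  comp f g := ⟨f.a ≫ g.a, f.g ≫ g.g, by simp [g.w, f.w_assoc]⟩

theorem hom_ext' {A B : Tot Y} {f g : A ⟶ B} (h₁ : f.a = g.a) (h₂ : f.g = g.g) : f = g := TotHom.ext h₁ h₂

@[simp] theorem id_a (A : Tot Y) : TotHom.a (𝟙 A : A ⟶ A) = 𝟙 _ := rfl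
@[simp] theorem id_g (A : Tot Y) : TotHom.g (𝟙 A : A ⟶ A) = 𝟙 _ := rfl
@[simp] theorem comp_a {A B C : Tot Y} (f : A ⟶ B) (g : B ⟶ C) : TotHom.a (f ≫ g) = f.a ≫ g.a := rfl
@[simp] theorem comp_g {A B C : Tot Y} (f : A ⟶ B) (g : B ⟶ C) : TotHom.g (f ≫ g) = f.g ≫ g.g := rfl

/-- one stage -/
noncomputable def incl (Y : I ⥤ Scheme.{u}) (k : I) : (Y.obj k).Etale ⥤ Tot Y where
  obj W := ⟨k, W⟩
  map {W W'} h := ⟨𝟙 k, h.left, (MorphismProperty.Over.w h).trans
    ((congrArg (W.hom ≫ ·) (Y.map_id k)).trans (Category.comp_id _)).symm⟩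
  map_id W := hom_ext' rfl rfl
  map_comp f g := hom_ext' (Category.id_comp _).symm rfl

/-- base change to a later stage -/
noncomputable abbrev bcObj (A : Tot Y) {l : I} (a : l ⟶ A.st) : Tot Y :=
  ⟨l, (EtCoh.bc (Y.map a)).obj A.obj⟩

/-- the projection from a base change -/
noncomputable def proj (A : Tot Y) {l : I} (a : l ⟶ A.st) : bcObj A a ⟶ A :=
  ⟨a, pullback.fst A.obj.hom (Y.map a), pullback.condition⟩

@[simp] theorem proj_a (A : Tot Y) {l : I} (a : l ⟶ A.st) : (proj A a).a = a := rfl
@[simp] theorem proj_g (A : Tot Y) {l : I} (a : l ⟶ A.st) :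
    (proj A a).g = pullback.fst A.obj.hom (Y.map a) := rfl

/-- every morphism factors through a base change by a morphism over the stage of the source -/
noncomputable def factor {A B : Tot Y} (f : B ⟶ A) : B.obj ⟶ (EtCoh.bc (Y.map f.a)).obj A.obj :=
  MorphismProperty.Over.homMk (pullback.lift f.g B.obj.hom f.w) (pullback.lift_snd _ _ _)

theorem factor_fac {A B : Tot Y} (f : B ⟶ A) :
    (incl Y B.st).map (factor f) ≫ proj A f.a = f :=
  hom_ext' (Category.id_comp _) (pullback.lift_fst _ _ _)

/-- base change between base changes -/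
noncomputable def bcMap (A : Tot Y) {l m : I} (a : l ⟶ A.st) (b : m ⟶ l) : bcObj A (b ≫ a) ⟶ bcObj A a :=
  ⟨b, pullback.lift (pullback.fst A.obj.hom (Y.map (b ≫ a))) (pullback.snd A.obj.hom (Y.map (b ≫ a)) ≫ Y.map b)
      (by rw [pullback.condition, Category.assoc, ← Y.map_comp]), pullback.lift_snd _ _ _⟩

@[reassoc]
theorem bcMap_proj (A : Tot Y) {l m : I} (a : l ⟶ A.st) (b : m ⟶ l) :
    bcMap A a b ≫ proj A a = proj A (b ≫ a) :=
  hom_ext' rfl (pullback.lift_fst _ _ _)

variable (c : Cone Y)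

/-- base change to the limit -/
noncomputable def bcTot : Tot Y ⥤ c.pt.Etale where
  obj A := (EtCoh.bc (c.π.app A.st)).obj A.obj
  map {A B} f := MorphismProperty.Over.homMk
    (pullback.lift (pullback.fst A.obj.hom (c.π.app A.st) ≫ f.g) (pullback.snd A.obj.hom (c.π.app A.st))
      (by rw [Category.assoc, f.w, pullback.condition_assoc, c.w]))
    (pullback.lift_snd _ _ _)
  map_id A := MorphismProperty.Over.Hom.ext (pullback.hom_ext
    ((pullback.lift_fst _ _ _).trans ((Category.comp_id _).trans (Category.id_comp _).symm))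
    ((pullback.lift_snd _ _ _).trans (Category.id_comp _).symm))
  map_comp f g := MorphismProperty.Over.Hom.ext (pullback.hom_ext
    ((pullback.lift_fst _ _ _).trans (Eq.symm (((Category.assoc _ _ _).trans
      (congrArg (_ ≫ ·) (pullback.lift_fst _ _ _))).trans (((Category.assoc _ _ _).symm.trans
      (congrArg (· ≫ g.g) (pullback.lift_fst _ _ _))).trans (Category.assoc _ _ _)))))
    ((pullback.lift_snd _ _ _).trans (Eq.symm (((Category.assoc _ _ _).trans
      (congrArg (_ ≫ ·) (pullback.lift_snd _ _ _))).trans (pullback.lift_snd _ _ _)))))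

theorem bcTot_map_fst {A B : Tot Y} (f : A ⟶ B) :
    ((bcTot c).map f).left ≫ pullback.fst B.obj.hom (c.π.app B.st) =
      pullback.fst A.obj.hom (c.π.app A.st) ≫ f.g :=
  pullback.lift_fst _ _ _

theorem bcTot_map_snd {A B : Tot Y} (f : A ⟶ B) :
    ((bcTot c).map f).left ≫ pullback.snd B.obj.hom (c.π.app B.st) = pullback.snd A.obj.hom (c.π.app A.st) :=
  pullback.lift_snd _ _ _

theorem bcTot_map_incl (k : I) {W W' : (Y.obj k).Etale} (h : W ⟶ W') :
    (bcTot c).map ((incl Y k).map h) = (EtCoh.bc (c.π.app k)).map h := by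
  apply MorphismProperty.Over.Hom.ext
  apply pullback.hom_ext (f := W'.hom) (g := c.π.app k)
  · exact (bcTot_map_fst c ((incl Y k).map h)).trans (EtCoh.isPullback_bc_map (c.π.app k) h).w.symm
  · exact (bcTot_map_snd c ((incl Y k).map h)).trans
      (MorphismProperty.Over.w ((EtCoh.bc (c.π.app k)).map h)).symm

/-- base change in two steps -/
noncomputable def bcTotProjIso (A : Tot Y) {l : I} (a : l ⟶ A.st) :
    pullback (pullback.snd A.obj.hom (Y.map a)) (c.π.app l) ≅ pullback A.obj.hom (c.π.app A.st) :=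
  pullbackLeftPullbackSndIso A.obj.hom (Y.map a) (c.π.app l) ≪≫ pullback.congrHom rfl (c.w a)

theorem bcTotProjIso_fst (A : Tot Y) {l : I} (a : l ⟶ A.st) :
    (bcTotProjIso c A a).hom ≫ pullback.fst A.obj.hom (c.π.app A.st) =
      pullback.fst (pullback.snd A.obj.hom (Y.map a)) (c.π.app l) ≫ pullback.fst A.obj.hom (Y.map a) := by
  simp [bcTotProjIso]

theorem bcTotProjIso_snd (A : Tot Y) {l : I} (a : l ⟶ A.st) :
    (bcTotProjIso c A a).hom ≫ pullback.snd A.obj.hom (c.π.app A.st) =
      pullback.snd (pullback.snd A.obj.hom (Y.map a)) (c.π.app l) := by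
  simp [bcTotProjIso]

theorem bcTot_map_proj_left (A : Tot Y) {l : I} (a : l ⟶ A.st) :
    ((bcTot c).map (proj A a)).left = (bcTotProjIso c A a).hom := by
  apply pullback.hom_ext (f := A.obj.hom) (g := c.π.app A.st)
  · exact (bcTot_map_fst c (proj A a)).trans (bcTotProjIso_fst c A a).symm
  · exact (bcTot_map_snd c (proj A a)).trans (bcTotProjIso_snd c A a).symm

instance isIso_bcTot_proj (A : Tot Y) {l : I} (a : l ⟶ A.st) : IsIso ((bcTot c).map (proj A a)) := by
  have h : IsIso ((bcTot c).map (proj A a)).left := (bcTot_map_proj_left c A a).symm ▸ Iso.isIso_hom _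
  have : IsIso ((Scheme.Etale.forget c.pt ⋙ Over.forget c.pt).map ((bcTot c).map (proj A a))) := h
  exact isIso_of_reflects_iso _ (Scheme.Etale.forget c.pt ⋙ Over.forget c.pt)

/-- a system of sheaves on the stages with a compatible map to a sheaf on the limit -/
structure Sys : Type (u + 2) where
  /-- the presheaf on the total category -/
  F : (Tot Y)ᵒᵖ ⥤ AddCommGrpCat.{u + 1}
  isSheaf : ∀ k, Presheaf.IsSheaf (Y.obj k).smallEtaleTopology ((incl Y k).op ⋙ F)
  /-- the sheaf on the limit -/
  M : EtCoh.Ab c.pt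
  /-- the comparison -/
  ψ : F ⟶ (bcTot c).op ⋙ M.obj

variable {c}

/-- the sheaf at a stage -/
noncomputable def Sys.sheaf (S : Sys c) (k : I) : EtCoh.Ab (Y.obj k) := ⟨(incl Y k).op ⋙ S.F, S.isSheaf k⟩

theorem Sys.res_eq (S : Sys c) {k : I} {W W' : (Y.obj k).Etale} (h : W ⟶ W') :
    (S.sheaf k).obj.map h.op = S.F.map ((incl Y k).map h).op := rfl

/-- the transition map -/
noncomputable def Sys.φ (S : Sys c) {k l : I} (a : l ⟶ k) :
    S.sheaf k ⟶ (EtCoh.push (Y.map a)).obj (S.sheaf l) :=
  ObjectProperty.homMk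
    { app := fun W => S.F.map (proj (⟨k, W.unop⟩ : Tot Y) a).op
      naturality := fun W W' h => by
        show S.F.map ((incl Y k).map h.unop).op ≫ S.F.map (proj (⟨k, W'.unop⟩ : Tot Y) a).op =
          S.F.map (proj (⟨k, W.unop⟩ : Tot Y) a).op ≫ S.F.map ((incl Y l).map ((EtCoh.bc (Y.map a)).map h.unop)).op
        rw [← S.F.map_comp, ← S.F.map_comp, ← op_comp, ← op_comp]
        refine congrArg (fun e => S.F.map (Quiver.Hom.op e)) (hom_ext' ?_ ?_)
        · exact (Category.comp_id a).trans (Category.id_comp a).symm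
        · exact (EtCoh.isPullback_bc_map (Y.map a) h.unop).w.symm }

/-- the map to the limit -/
noncomputable def Sys.ψ' (S : Sys c) (k : I) : S.sheaf k ⟶ (EtCoh.push (c.π.app k)).obj S.M :=
  ObjectProperty.homMk
    { app := fun W => S.ψ.app (op (⟨k, W.unop⟩ : Tot Y))
      naturality := fun W W' h => by
        have := S.ψ.naturality ((incl Y k).map h.unop).op
        refine this.trans (congrArg (S.ψ.app (op (⟨k, W.unop⟩ : Tot Y)) ≫ ·) ?_)
        exact congrArg (fun e => S.M.obj.map (Quiver.Hom.op e)) (bcTot_map_incl c k h.unop) }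

/-- the sheaf on the limit is the colimit of the system, on germs -/
structure Sys.IsColim (S : Sys c) : Prop where
  surj : ∀ (Ω : Type u) [Field Ω] [IsSepClosed Ω] (ξ : Spec (CommRingCat.of Ω) ⟶ c.pt) (U : c.pt.Etale)
    (u : (Scheme.pointSmallEtale ξ).fiber.obj U) (s : S.M.obj.obj (op U)),
    ∃ (A : Tot Y) (z : (Scheme.pointSmallEtale ξ).fiber.obj ((bcTot c).obj A)) (t : S.F.obj (op A)),
      (Scheme.pointSmallEtale ξ).toPresheafFiber ((bcTot c).obj A) z S.M.obj (S.ψ.app (op A) t) =
        (Scheme.pointSmallEtale ξ).toPresheafFiber U u S.M.obj s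
  inj : ∀ (Ω : Type u) [Field Ω] [IsSepClosed Ω] (ξ : Spec (CommRingCat.of Ω) ⟶ c.pt) (A : Tot Y)
    (z : (Scheme.pointSmallEtale ξ).fiber.obj ((bcTot c).obj A)) (t : S.F.obj (op A)),
    (Scheme.pointSmallEtale ξ).toPresheafFiber ((bcTot c).obj A) z S.M.obj (S.ψ.app (op A) t) = 0 →
      ∃ (B : Tot Y) (f : B ⟶ A) (y : (Scheme.pointSmallEtale ξ).fiber.obj ((bcTot c).obj B)),
        (Scheme.pointSmallEtale ξ).fiber.map ((bcTot c).map f) y = z ∧ S.F.map f.op t = 0

end Groth.Agent.EtLimCore
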