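import Groth.Agent.EtLimCore.Main

/-!
# The limit theorem for an arbitrary system with its colimit sheaf
-/

set_option autoImplicit false
set_option maxHeartbeats 800000

universe u

open CategoryTheory CategoryTheory.Limits AlgebraicGeometry Opposite TopologicalSpace CategoryTheory.Abelian

namespace Groth.Agent.EtLimCore

set_option backward.isDefEq.respectTransparency false
set_option backward.isDefEq.respectTransparency.types false

variable {I : Type u} [SmallCategory I] {Y : I ⥤ Scheme.{u}} {c : Cone Y}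

/-- the sheaf on the total site of a system -/
noncomputable def Sys.tot (S : Sys c) : TotSh Y := ⟨S.F, (isSheaf_topology_iff S.F).2 S.isSheaf⟩

/-- the comparison with the colimit sheaf -/
noncomputable def Sys.desc (S : Sys c) : (totToLim c).obj S.tot ⟶ S.M :=
  (presheafToSheaf c.pt.smallEtaleTopology AddCommGrpCat.{u + 1}).map
      ((colimPre c S.F).descOfIsLeftKanExtension ((bcTot c).op.leftKanExtensionUnit S.F) S.M.obj S.ψ) ≫
    (sheafificationAdjunction c.pt.smallEtaleTopology AddCommGrpCat.{u + 1}).counit.app S.M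

theorem Sys.ψ_desc (S : Sys c) :
    (sys c S.tot).ψ ≫ Functor.whiskerLeft (bcTot c).op S.desc.hom = S.ψ := by
  let d := (colimPre c S.F).descOfIsLeftKanExtension ((bcTot c).op.leftKanExtensionUnit S.F) S.M.obj S.ψ
  have h : toSheafify c.pt.smallEtaleTopology (colimPre c S.F) ≫ S.desc.hom = d := by
    have h1 := (sheafificationAdjunction c.pt.smallEtaleTopology AddCommGrpCat.{u + 1}).unit.naturality d
    have h2 := (sheafificationAdjunction c.pt.smallEtaleTopology AddCommGrpCat.{u + 1}).right_triangle_components S.M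
    refine ((Category.assoc _ _ _).symm.trans (congrArg (· ≫ _) h1.symm)).trans ?_
    exact (Category.assoc _ _ _).trans ((congrArg (d ≫ ·) h2).trans (Category.comp_id _))
  ext B : 2
  show (_ ≫ _) ≫ S.desc.hom.app _ = _
  refine (Category.assoc _ _ _).trans ((congrArg (_ ≫ ·) (congr_app h ((bcTot c).op.obj B))).trans ?_)
  exact (colimPre c S.F).descOfIsLeftKanExtension_fac_app ((bcTot c).op.leftKanExtensionUnit S.F) S.M.obj S.ψ B

variable [∀ {i j : I} (f : i ⟶ j), IsAffineHom (Y.map f)] [IsCofiltered I]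

theorem Sys.isIso_desc (S : Sys c) (hc : IsLimit c) (hS : S.IsColim) : IsIso S.desc := by
  refine (EtFound.isIso_iff_stalks _).2 ?_
  intro Ω _ _ ξ
  let Φ := Scheme.pointSmallEtale ξ
  have hψ : ∀ (A : Tot Y) (z : Φ.fiber.obj ((bcTot c).obj A)) (t : S.F.obj (op A)),
      (EtCoh.stalk ξ).map S.desc (Φ.toPresheafFiber _ z (sys c S.tot).M.obj ((sys c S.tot).ψ.app (op A) t)) =
        Φ.toPresheafFiber _ z S.M.obj (S.ψ.app (op A) t) := fun A z t => by
    refine (Φ.toPresheafFiber_naturality_apply S.desc.hom _ z _).trans (congrArg _ ?_)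
    exact ConcreteCategory.congr_hom (congr_app S.ψ_desc (op A)) t
  rw [ConcreteCategory.isIso_iff_bijective]
  refine ⟨(injective_iff_map_eq_zero ((EtCoh.stalk ξ).map S.desc).hom).2 fun q hq => ?_, fun q => ?_⟩
  · obtain ⟨U, u, s, rfl⟩ := Φ.toPresheafFiber_jointly_surjective (P := ((totToLim c).obj S.tot).obj) q
    obtain ⟨A, z, t, ht⟩ := (sys_isColim c hc S.tot).surj Ω ξ U u s
    refine ht.symm.trans ?_
    obtain ⟨B, f, y, hy, hB⟩ := hS.inj Ω ξ A z t
      ((hψ A z t).symm.trans ((congrArg _ ht).trans hq))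
    rw [← hy]
    refine (Φ.toPresheafFiber_w_apply ((bcTot c).map f) y (sys c S.tot).M.obj _).symm.trans ?_
    refine (congrArg _ ((ConcreteCategory.congr_hom ((sys c S.tot).ψ.naturality f.op) t).symm.trans
      ((ConcreteCategory.comp_apply _ _ t).trans ((congrArg ((sys c S.tot).ψ.app (op B)) hB).trans (map_zero _))))).trans
      (map_zero _)
  · obtain ⟨U, u, s, rfl⟩ := Φ.toPresheafFiber_jointly_surjective (P := S.M.obj) q
    obtain ⟨A, z, t, ht⟩ := hS.surj Ω ξ U u s
    exact ⟨_, (hψ A z t).trans ht⟩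

theorem Sys.θ_desc (S : Sys c) (k : I) :
    θ c k S.tot ≫ S.desc = ((EtCoh.pullPushAdj (c.π.app k)).homEquiv (S.sheaf k) S.M).symm (S.ψ' k) := by
  rw [θ, ← Adjunction.homEquiv_naturality_right_symm]
  refine congrArg ((EtCoh.pullPushAdj (c.π.app k)).homEquiv _ _).symm
    (Sheaf.hom_ext (J := (Y.obj k).smallEtaleTopology) ?_)
  ext W : 2
  exact congr_app S.ψ_desc (op (⟨k, W.unop⟩ : Tot Y))

variable [∀ j, PreservesFiniteLimits (EtCoh.pull (c.π.app j))]
  [∀ {i j : I} (f : i ⟶ j), PreservesFiniteLimits (EtCoh.pull (Y.map f))]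
  [∀ i, CompactSpace (Y.obj i)] [∀ i, QuasiSeparatedSpace (Y.obj i)]

/-- every class on the limit comes from a stage -/
theorem Sys.exists_H (S : Sys c) (hc : IsLimit c) (hS : S.IsColim) (n : ℕ) (x : EtCoh.H c.pt S.M n) (k₀ : I) :
    ∃ (k : I) (_ : k ⟶ k₀) (ξ : EtCoh.H (Y.obj k) (S.sheaf k) n),
      EtLim.HofPush (c.π.app k) S.M n (((EtCoh.HF (Y.obj k) n).map (S.ψ' k)).hom ξ) = x := by
  haveI := S.isIso_desc hc hS
  obtain ⟨k, a, ξ, hξ⟩ := (main c hc n S.tot).1 (x.comp (Ext.mk₀ (inv S.desc)) (add_zero n)) k₀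
  refine ⟨k, a, ξ, (HofPush_map (c.π.app k) (S.ψ' k) n ξ).trans ?_⟩
  rw [← S.θ_desc k, ← HpullThen_comp]
  refine (congrArg (fun q => Ext.comp q (Ext.mk₀ S.desc) (add_zero n)) hξ).trans ?_
  rw [Ext.comp_assoc_of_third_deg_zero, Ext.mk₀_comp_mk₀, IsIso.inv_hom_id, Ext.comp_mk₀_id]

/-- a stage class vanishing on the limit vanishes at a later stage -/
theorem Sys.exists_H_eq_zero (S : Sys c) (hc : IsLimit c) (hS : S.IsColim) (n : ℕ) (k : I)
    (ξ : EtCoh.H (Y.obj k) (S.sheaf k) n)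
    (h : EtLim.HofPush (c.π.app k) S.M n (((EtCoh.HF (Y.obj k) n).map (S.ψ' k)).hom ξ) = 0) :
    ∃ (l : I) (a : l ⟶ k),
      EtLim.HofPush (Y.map a) (S.sheaf l) n (((EtCoh.HF (Y.obj k) n).map (S.φ a)).hom ξ) = 0 := by
  haveI := S.isIso_desc hc hS
  rw [HofPush_map, ← S.θ_desc k, ← HpullThen_comp] at h
  have h' : limH c k S.tot n ξ = 0 := by
    have := congrArg (fun q => Ext.comp q (Ext.mk₀ (inv S.desc)) (add_zero n)) h
    simp only [Ext.zero_comp, Ext.comp_assoc_of_third_deg_zero, Ext.mk₀_comp_mk₀, IsIso.hom_inv_id,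
      Ext.comp_mk₀_id] at this
    exact this
  obtain ⟨l, a, ha⟩ := (main c hc n S.tot).2 k ξ h'
  exact ⟨l, a, (HofPush_map (Y.map a) (S.φ a) n ξ).trans ha⟩

end Groth.Agent.EtLimCore
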