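import Groth.Agent.EtLimCore.Data

/-!
# Adjuncts of composite pullback maps
-/

set_option autoImplicit false
set_option maxHeartbeats 800000

universe u

open CategoryTheory CategoryTheory.Limits AlgebraicGeometry Opposite

namespace Groth.Agent.EtLimCore

set_option backward.isDefEq.respectTransparency false
set_option backward.isDefEq.respectTransparency.types false

variable {X Y Z : Scheme.{u}} (k : X ⟶ Y) (t : Y ⟶ Z) {f : X ⟶ Z} (h : k ≫ t = f)

/-- splitting a composite direct image -/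
noncomputable def split : EtCoh.push f ⟶ EtCoh.push k ⋙ EtCoh.push t :=
  (EtCoh.pushCongr h.symm).hom ≫ (EtCoh.pushComp t k).inv

theorem split_app (K : EtCoh.Ab X) (W : Z.Etale)
    (can : (EtCoh.bc k).obj ((EtCoh.bc t).obj W) ⟶ (EtCoh.bc f).obj W)
    (hcan : can.left ≫ pullback.fst W.hom f =
      pullback.fst ((EtCoh.bc t).obj W).hom k ≫ pullback.fst W.hom t) :
    ((split k t h).app K).hom.app (op W) = K.obj.map can.op := by
  subst h
  show K.obj.map (Quiver.Hom.op _) ≫ K.obj.map (Quiver.Hom.op _) = _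
  rw [← K.obj.map_comp, ← op_comp]
  refine congrArg (fun m => K.obj.map (Quiver.Hom.op m)) (MorphismProperty.Over.Hom.ext ?_)
  apply pullback.hom_ext (f := W.hom) (g := k ≫ t)
  · refine Eq.trans ?_ hcan.symm
    show (_ ≫ _) ≫ _ = _
    simp [MorphismProperty.Over.pullbackComp, MorphismProperty.Over.pullbackCongr]
    erw [Category.id_comp, pullbackLeftPullbackSndIso_hom_fst]
    rfl
  · refine Eq.trans ?_ (MorphismProperty.Over.w can).symm
    show (_ ≫ _) ≫ _ = _
    simp [MorphismProperty.Over.pullbackComp, MorphismProperty.Over.pullbackCongr]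
    erw [Category.id_comp, pullbackLeftPullbackSndIso_hom_snd]
    rfl

theorem pushCongr_refl {f : X ⟶ Z} (K : EtCoh.Ab X) :
    (EtCoh.pushCongr (rfl : f = f)).hom.app K = 𝟙 _ := by
  refine Sheaf.hom_ext (J := Z.smallEtaleTopology) ?_
  ext W : 2
  show K.obj.map (Quiver.Hom.op _) = 𝟙 _
  refine (congrArg (fun m => K.obj.map (Quiver.Hom.op m)) (?_ : _ = 𝟙 _)).trans (K.obj.map_id _)
  refine MorphismProperty.Over.Hom.ext ?_
  apply pullback.hom_ext (f := W.unop.hom) (g := f)
  · simp [MorphismProperty.Over.pullbackCongr]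
    rfl
  · simp [MorphismProperty.Over.pullbackCongr]
    rfl

/-- the adjunct of a composite -/
theorem transpose {G : EtCoh.Ab Z} {H : EtCoh.Ab Y} {K : EtCoh.Ab X}
    (x : (EtCoh.pull t).obj G ⟶ H) (y : (EtCoh.pull k).obj H ⟶ K) :
    (EtCoh.pullPushAdj f).homEquiv G K
        ((EtCore.pullCongr h.symm).hom.app G ≫ (EtCore.pullComp k t).hom.app G ≫ (EtCoh.pull k).map x ≫ y) ≫
      (split k t h).app K =
    (EtCoh.pullPushAdj t).homEquiv G H x ≫ (EtCoh.push t).map ((EtCoh.pullPushAdj k).homEquiv H K y) := by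
  subst h
  let adj₂ := (((EtCoh.pullPushAdj t).comp (EtCoh.pullPushAdj k)).ofNatIsoRight (EtCoh.pushComp t k))
  let z : (EtCoh.pull k).obj ((EtCoh.pull t).obj G) ⟶ K := (EtCoh.pull k).map x ≫ y
  have h1 : (EtCoh.pullPushAdj (k ≫ t)).homEquiv G K ((EtCore.pullComp k t).hom.app G ≫ z) =
      adj₂.homEquiv G K z := by
    rw [Adjunction.homEquiv_unit, Adjunction.homEquiv_unit, Functor.map_comp, ← Category.assoc]
    exact congrArg (· ≫ _) (Adjunction.unit_leftAdjointUniq_hom_app (EtCoh.pullPushAdj (k ≫ t)) adj₂ G)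
  have h2 : (EtCore.pullCongr (rfl : k ≫ t = k ≫ t)).hom.app G = 𝟙 _ := by simp [EtCore.pullCongr]
  rw [h2, Category.id_comp]
  refine (congrArg (· ≫ _) h1).trans ?_
  rw [split]
  show adj₂.homEquiv G K z ≫ ((EtCoh.pushCongr (rfl : k ≫ t = k ≫ t)).hom.app K ≫ (EtCoh.pushComp t k).inv.app K) = _
  rw [pushCongr_refl, Category.id_comp, Adjunction.homEquiv_ofNatIsoRight_apply, Category.assoc,
    Iso.hom_inv_id_app, Category.comp_id, Adjunction.comp_homEquiv]
  show (EtCoh.pullPushAdj t).homEquiv G _ ((EtCoh.pullPushAdj k).homEquiv _ K z) = _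
  rw [Adjunction.homEquiv_naturality_left, Adjunction.homEquiv_naturality_right]

/-- maps out of an inverse image are determined by their values on pulled back sections -/
theorem ext_of_unit {G : EtCoh.Ab Z} {N : EtCoh.Ab Y} (α β : (EtCoh.pull t).obj G ⟶ N)
    (e : ∀ W : Z.Etale, ((EtCoh.pullPushAdj t).unit.app G).hom.app (op W) ≫ α.hom.app (op ((EtCoh.bc t).obj W)) =
      ((EtCoh.pullPushAdj t).unit.app G).hom.app (op W) ≫ β.hom.app (op ((EtCoh.bc t).obj W))) : α = β := by
  refine ((EtCoh.pullPushAdj t).homEquiv G N).injective (Sheaf.hom_ext (J := Z.smallEtaleTopology) ?_)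
  ext W : 2
  rw [Adjunction.homEquiv_unit, Adjunction.homEquiv_unit]
  exact e W.unop

end Groth.Agent.EtLimCore
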